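import Cfsg.Agent.Helper36.ChevRc
import Cfsg.Agent.Helper36.ChevRcData
import Cfsg.Agent.Helper36.ChevWPData
import Cfsg.Prelude.Def_ChevG2
import Cfsg.Prelude.Def_ChevB2
import Cfsg.Prelude.Def_ChevD4
import Cfsg.Prelude.Def_ChevF4
import Cfsg.Prelude.Def_ChevE6
import Cfsg.Prelude.Def_ChevE7
import Cfsg.Prelude.Def_ChevE8

/-!
# The checks of the packed tables of root coordinates, for the seven data (helper36; generated)
-/

set_option autoImplicit false
set_option maxRecDepth 1000000

namespace Cfsg.Agent.Helper36

open Cfsg Cfsg.Lie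

theorem rcRootP_G2_0 : (List.range' 0 12).all (rcRootOK chevG2 rcPackG2 posMaskG2) = true := by decide +kernel

theorem rcRootP_G2 : ∀ r < chevG2.nroots, rcRootOK chevG2 rcPackG2 posMaskG2 r = true := by
  intro r hr
  change r < 12 at hr
  exact all_range'_spec rcRootP_G2_0 r (by omega) (by omega)

theorem rcRowP_G2_0 : (List.range' 0 12).all (rcRowOK chevG2 Cfsg.Agent.Helper17.chainPackG2 rcPackG2) = true := by decide +kernel

theorem rcRowP_G2 : ∀ r < chevG2.nroots, rcRowOK chevG2 Cfsg.Agent.Helper17.chainPackG2 rcPackG2 r = true := by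
  intro r hr
  change r < 12 at hr
  exact all_range'_spec rcRowP_G2_0 r (by omega) (by omega)

theorem rcReflP_G2_0 : (List.range' 0 12).all (rcReflOK chevG2 rcPackG2) = true := by decide +kernel

theorem rcReflP_G2 : ∀ r < chevG2.nroots, rcReflOK chevG2 rcPackG2 r = true := by
  intro r hr
  change r < 12 at hr
  exact all_range'_spec rcReflP_G2_0 r (by omega) (by omega)

theorem rcSimpleP_G2 : rcSimpleOK chevG2 rcPackG2 = true := by decide +kernel

theorem rcRootP_B2_0 : (List.range' 0 8).all (rcRootOK chevB2 rcPackB2 posMaskB2) = true := by decide +kernel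

theorem rcRootP_B2 : ∀ r < chevB2.nroots, rcRootOK chevB2 rcPackB2 posMaskB2 r = true := by
  intro r hr
  change r < 8 at hr
  exact all_range'_spec rcRootP_B2_0 r (by omega) (by omega)

theorem rcRowP_B2_0 : (List.range' 0 8).all (rcRowOK chevB2 Cfsg.Agent.Helper17.chainPackB2 rcPackB2) = true := by decide +kernel

theorem rcRowP_B2 : ∀ r < chevB2.nroots, rcRowOK chevB2 Cfsg.Agent.Helper17.chainPackB2 rcPackB2 r = true := by
  intro r hr
  change r < 8 at hr
  exact all_range'_spec rcRowP_B2_0 r (by omega) (by omega)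

theorem rcReflP_B2_0 : (List.range' 0 8).all (rcReflOK chevB2 rcPackB2) = true := by decide +kernel

theorem rcReflP_B2 : ∀ r < chevB2.nroots, rcReflOK chevB2 rcPackB2 r = true := by
  intro r hr
  change r < 8 at hr
  exact all_range'_spec rcReflP_B2_0 r (by omega) (by omega)

theorem rcSimpleP_B2 : rcSimpleOK chevB2 rcPackB2 = true := by decide +kernel

theorem rcRootP_D4_0 : (List.range' 0 24).all (rcRootOK chevD4 rcPackD4 posMaskD4) = true := by decide +kernel

theorem rcRootP_D4 : ∀ r < chevD4.nroots, rcRootOK chevD4 rcPackD4 posMaskD4 r = true := by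
  intro r hr
  change r < 24 at hr
  exact all_range'_spec rcRootP_D4_0 r (by omega) (by omega)

theorem rcRowP_D4_0 : (List.range' 0 24).all (rcRowOK chevD4 Cfsg.Agent.Helper17.chainPackD4 rcPackD4) = true := by decide +kernel

theorem rcRowP_D4 : ∀ r < chevD4.nroots, rcRowOK chevD4 Cfsg.Agent.Helper17.chainPackD4 rcPackD4 r = true := by
  intro r hr
  change r < 24 at hr
  exact all_range'_spec rcRowP_D4_0 r (by omega) (by omega)

theorem rcReflP_D4_0 : (List.range' 0 24).all (rcReflOK chevD4 rcPackD4) = true := by decide +kernel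

theorem rcReflP_D4 : ∀ r < chevD4.nroots, rcReflOK chevD4 rcPackD4 r = true := by
  intro r hr
  change r < 24 at hr
  exact all_range'_spec rcReflP_D4_0 r (by omega) (by omega)

theorem rcSimpleP_D4 : rcSimpleOK chevD4 rcPackD4 = true := by decide +kernel

theorem rcRootP_F4_0 : (List.range' 0 48).all (rcRootOK chevF4 rcPackF4 posMaskF4) = true := by decide +kernel

theorem rcRootP_F4 : ∀ r < chevF4.nroots, rcRootOK chevF4 rcPackF4 posMaskF4 r = true := by
  intro r hr
  change r < 48 at hr
  exact all_range'_spec rcRootP_F4_0 r (by omega) (by omega)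

theorem rcRowP_F4_0 : (List.range' 0 30).all (rcRowOK chevF4 Cfsg.Agent.Helper17.chainPackF4 rcPackF4) = true := by decide +kernel
theorem rcRowP_F4_30 : (List.range' 30 18).all (rcRowOK chevF4 Cfsg.Agent.Helper17.chainPackF4 rcPackF4) = true := by decide +kernel

theorem rcRowP_F4 : ∀ r < chevF4.nroots, rcRowOK chevF4 Cfsg.Agent.Helper17.chainPackF4 rcPackF4 r = true := by
  intro r hr
  change r < 48 at hr
  by_cases h0 : r < 30
  · exact all_range'_spec rcRowP_F4_0 r (by omega) (by omega)
  · exact all_range'_spec rcRowP_F4_30 r (by omega) (by omega)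

theorem rcReflP_F4_0 : (List.range' 0 48).all (rcReflOK chevF4 rcPackF4) = true := by decide +kernel

theorem rcReflP_F4 : ∀ r < chevF4.nroots, rcReflOK chevF4 rcPackF4 r = true := by
  intro r hr
  change r < 48 at hr
  exact all_range'_spec rcReflP_F4_0 r (by omega) (by omega)

theorem rcSimpleP_F4 : rcSimpleOK chevF4 rcPackF4 = true := by decide +kernel

theorem rcRootP_E6_0 : (List.range' 0 60).all (rcRootOK chevE6 rcPackE6 posMaskE6) = true := by decide +kernel
theorem rcRootP_E6_60 : (List.range' 60 12).all (rcRootOK chevE6 rcPackE6 posMaskE6) = true := by decide +kernel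

theorem rcRootP_E6 : ∀ r < chevE6.nroots, rcRootOK chevE6 rcPackE6 posMaskE6 r = true := by
  intro r hr
  change r < 72 at hr
  by_cases h0 : r < 60
  · exact all_range'_spec rcRootP_E6_0 r (by omega) (by omega)
  · exact all_range'_spec rcRootP_E6_60 r (by omega) (by omega)

theorem rcRowP_E6_0 : (List.range' 0 30).all (rcRowOK chevE6 Cfsg.Agent.Helper17.chainPackE6 rcPackE6) = true := by decide +kernel
theorem rcRowP_E6_30 : (List.range' 30 30).all (rcRowOK chevE6 Cfsg.Agent.Helper17.chainPackE6 rcPackE6) = true := by decide +kernel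
theorem rcRowP_E6_60 : (List.range' 60 12).all (rcRowOK chevE6 Cfsg.Agent.Helper17.chainPackE6 rcPackE6) = true := by decide +kernel

theorem rcRowP_E6 : ∀ r < chevE6.nroots, rcRowOK chevE6 Cfsg.Agent.Helper17.chainPackE6 rcPackE6 r = true := by
  intro r hr
  change r < 72 at hr
  by_cases h0 : r < 30
  · exact all_range'_spec rcRowP_E6_0 r (by omega) (by omega)
  by_cases h1 : r < 60
  · exact all_range'_spec rcRowP_E6_30 r (by omega) (by omega)
  · exact all_range'_spec rcRowP_E6_60 r (by omega) (by omega)

theorem rcReflP_E6_0 : (List.range' 0 72).all (rcReflOK chevE6 rcPackE6) = true := by decide +kernel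

theorem rcReflP_E6 : ∀ r < chevE6.nroots, rcReflOK chevE6 rcPackE6 r = true := by
  intro r hr
  change r < 72 at hr
  exact all_range'_spec rcReflP_E6_0 r (by omega) (by omega)

theorem rcSimpleP_E6 : rcSimpleOK chevE6 rcPackE6 = true := by decide +kernel

theorem rcRootP_E7_0 : (List.range' 0 60).all (rcRootOK chevE7 rcPackE7 posMaskE7) = true := by decide +kernel
theorem rcRootP_E7_60 : (List.range' 60 60).all (rcRootOK chevE7 rcPackE7 posMaskE7) = true := by decide +kernel
theorem rcRootP_E7_120 : (List.range' 120 6).all (rcRootOK chevE7 rcPackE7 posMaskE7) = true := by decide +kernel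

theorem rcRootP_E7 : ∀ r < chevE7.nroots, rcRootOK chevE7 rcPackE7 posMaskE7 r = true := by
  intro r hr
  change r < 126 at hr
  by_cases h0 : r < 60
  · exact all_range'_spec rcRootP_E7_0 r (by omega) (by omega)
  by_cases h1 : r < 120
  · exact all_range'_spec rcRootP_E7_60 r (by omega) (by omega)
  · exact all_range'_spec rcRootP_E7_120 r (by omega) (by omega)

theorem rcRowP_E7_0 : (List.range' 0 30).all (rcRowOK chevE7 Cfsg.Agent.Helper17.chainPackE7 rcPackE7) = true := by decide +kernel
theorem rcRowP_E7_30 : (List.range' 30 30).all (rcRowOK chevE7 Cfsg.Agent.Helper17.chainPackE7 rcPackE7) = true := by decide +kernel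
theorem rcRowP_E7_60 : (List.range' 60 30).all (rcRowOK chevE7 Cfsg.Agent.Helper17.chainPackE7 rcPackE7) = true := by decide +kernel
theorem rcRowP_E7_90 : (List.range' 90 30).all (rcRowOK chevE7 Cfsg.Agent.Helper17.chainPackE7 rcPackE7) = true := by decide +kernel
theorem rcRowP_E7_120 : (List.range' 120 6).all (rcRowOK chevE7 Cfsg.Agent.Helper17.chainPackE7 rcPackE7) = true := by decide +kernel

theorem rcRowP_E7 : ∀ r < chevE7.nroots, rcRowOK chevE7 Cfsg.Agent.Helper17.chainPackE7 rcPackE7 r = true := by
  intro r hr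
  change r < 126 at hr
  by_cases h0 : r < 30
  · exact all_range'_spec rcRowP_E7_0 r (by omega) (by omega)
  by_cases h1 : r < 60
  · exact all_range'_spec rcRowP_E7_30 r (by omega) (by omega)
  by_cases h2 : r < 90
  · exact all_range'_spec rcRowP_E7_60 r (by omega) (by omega)
  by_cases h3 : r < 120
  · exact all_range'_spec rcRowP_E7_90 r (by omega) (by omega)
  · exact all_range'_spec rcRowP_E7_120 r (by omega) (by omega)

theorem rcReflP_E7_0 : (List.range' 0 120).all (rcReflOK chevE7 rcPackE7) = true := by decide +kernel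
theorem rcReflP_E7_120 : (List.range' 120 6).all (rcReflOK chevE7 rcPackE7) = true := by decide +kernel

theorem rcReflP_E7 : ∀ r < chevE7.nroots, rcReflOK chevE7 rcPackE7 r = true := by
  intro r hr
  change r < 126 at hr
  by_cases h0 : r < 120
  · exact all_range'_spec rcReflP_E7_0 r (by omega) (by omega)
  · exact all_range'_spec rcReflP_E7_120 r (by omega) (by omega)

theorem rcSimpleP_E7 : rcSimpleOK chevE7 rcPackE7 = true := by decide +kernel

theorem rcRootP_E8_0 : (List.range' 0 60).all (rcRootOK chevE8 rcPackE8 posMaskE8) = true := by decide +kernel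
theorem rcRootP_E8_60 : (List.range' 60 60).all (rcRootOK chevE8 rcPackE8 posMaskE8) = true := by decide +kernel
theorem rcRootP_E8_120 : (List.range' 120 60).all (rcRootOK chevE8 rcPackE8 posMaskE8) = true := by decide +kernel
theorem rcRootP_E8_180 : (List.range' 180 60).all (rcRootOK chevE8 rcPackE8 posMaskE8) = true := by decide +kernel

theorem rcRootP_E8 : ∀ r < chevE8.nroots, rcRootOK chevE8 rcPackE8 posMaskE8 r = true := by
  intro r hr
  change r < 240 at hr
  by_cases h0 : r < 60
  · exact all_range'_spec rcRootP_E8_0 r (by omega) (by omega)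
  by_cases h1 : r < 120
  · exact all_range'_spec rcRootP_E8_60 r (by omega) (by omega)
  by_cases h2 : r < 180
  · exact all_range'_spec rcRootP_E8_120 r (by omega) (by omega)
  · exact all_range'_spec rcRootP_E8_180 r (by omega) (by omega)

theorem rcRowP_E8_0 : (List.range' 0 30).all (rcRowOK chevE8 Cfsg.Agent.Helper17.chainPackE8 rcPackE8) = true := by decide +kernel
theorem rcRowP_E8_30 : (List.range' 30 30).all (rcRowOK chevE8 Cfsg.Agent.Helper17.chainPackE8 rcPackE8) = true := by decide +kernel
theorem rcRowP_E8_60 : (List.range' 60 30).all (rcRowOK chevE8 Cfsg.Agent.Helper17.chainPackE8 rcPackE8) = true := by decide +kernel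
theorem rcRowP_E8_90 : (List.range' 90 30).all (rcRowOK chevE8 Cfsg.Agent.Helper17.chainPackE8 rcPackE8) = true := by decide +kernel
theorem rcRowP_E8_120 : (List.range' 120 30).all (rcRowOK chevE8 Cfsg.Agent.Helper17.chainPackE8 rcPackE8) = true := by decide +kernel
theorem rcRowP_E8_150 : (List.range' 150 30).all (rcRowOK chevE8 Cfsg.Agent.Helper17.chainPackE8 rcPackE8) = true := by decide +kernel
theorem rcRowP_E8_180 : (List.range' 180 30).all (rcRowOK chevE8 Cfsg.Agent.Helper17.chainPackE8 rcPackE8) = true := by decide +kernel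
theorem rcRowP_E8_210 : (List.range' 210 30).all (rcRowOK chevE8 Cfsg.Agent.Helper17.chainPackE8 rcPackE8) = true := by decide +kernel

theorem rcRowP_E8 : ∀ r < chevE8.nroots, rcRowOK chevE8 Cfsg.Agent.Helper17.chainPackE8 rcPackE8 r = true := by
  intro r hr
  change r < 240 at hr
  by_cases h0 : r < 30
  · exact all_range'_spec rcRowP_E8_0 r (by omega) (by omega)
  by_cases h1 : r < 60
  · exact all_range'_spec rcRowP_E8_30 r (by omega) (by omega)
  by_cases h2 : r < 90
  · exact all_range'_spec rcRowP_E8_60 r (by omega) (by omega)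
  by_cases h3 : r < 120
  · exact all_range'_spec rcRowP_E8_90 r (by omega) (by omega)
  by_cases h4 : r < 150
  · exact all_range'_spec rcRowP_E8_120 r (by omega) (by omega)
  by_cases h5 : r < 180
  · exact all_range'_spec rcRowP_E8_150 r (by omega) (by omega)
  by_cases h6 : r < 210
  · exact all_range'_spec rcRowP_E8_180 r (by omega) (by omega)
  · exact all_range'_spec rcRowP_E8_210 r (by omega) (by omega)

theorem rcReflP_E8_0 : (List.range' 0 120).all (rcReflOK chevE8 rcPackE8) = true := by decide +kernel
theorem rcReflP_E8_120 : (List.range' 120 120).all (rcReflOK chevE8 rcPackE8) = true := by decide +kernel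

theorem rcReflP_E8 : ∀ r < chevE8.nroots, rcReflOK chevE8 rcPackE8 r = true := by
  intro r hr
  change r < 240 at hr
  by_cases h0 : r < 120
  · exact all_range'_spec rcReflP_E8_0 r (by omega) (by omega)
  · exact all_range'_spec rcReflP_E8_120 r (by omega) (by omega)

theorem rcSimpleP_E8 : rcSimpleOK chevE8 rcPackE8 = true := by decide +kernel

end Cfsg.Agent.Helper36
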