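import Mathlib
import Cfsg.Prelude.Def_GeometricClasses
import Cfsg.Prelude.Def_Classical
import Cfsg.Agent.Helper98.ELPDefs

set_option autoImplicit false

/-! Sub-CALL ELP (helper98), pieces T0NE, NONSC, POW (doubles by helper36). -/

namespace Cfsg.Agent.Helper36.ELP

open Matrix Cfsg.Agent.Helper98.ELP
open scoped MatrixGroups

variable {n : Type} [Fintype n] [DecidableEq n] {F : Type*} [Field F]

/-- T0NE [S]: entry `(0, d / 2)` of `t0 - t0ᵀ` is `1`. -/
theorem t0_ne (d : ℕ) (hd : 2 ≤ d) : t0 d F - (t0 d F)ᵀ ≠ 0 := by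
  intro h
  have h0 : 0 < d := by omega
  have h1 : d / 2 < d := Nat.div_lt_self h0 (by norm_num)
  have h2 : 0 < d / 2 := Nat.div_pos hd (by norm_num)
  have h3 := congrFun (congrFun h (⟨0, h0⟩ : Fin d)) (⟨d / 2, h1⟩ : Fin d)
  simp only [Matrix.sub_apply, Matrix.transpose_apply, Matrix.zero_apply, t0] at h3
  rw [if_pos ⟨h2, by simp⟩, if_neg (by
    rintro ⟨-, h4⟩
    have h4' : d / 2 + d / 2 = 0 := h4
    omega)] at h3
  simp at h3

/-- NONSC [S]: entry `(inl a, inr b)` of `siegM T` is `(T - Tᵀ) a b`, of `z • 1` is `0`. -/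
theorem sieg_nonscalar (T : Matrix n n F) (h : T - Tᵀ ≠ 0) (z : F) :
    ((sieg T : GL (n ⊕ n) F) : Matrix (n ⊕ n) (n ⊕ n) F) ≠ z • (1 : Matrix (n ⊕ n) (n ⊕ n) F) := by
  intro he
  apply h
  ext a b
  have h1 := congrFun (congrFun he (Sum.inl a)) (Sum.inr b)
  rw [sieg_coe] at h1
  simpa [siegM] using h1

/-- POW [S]: induction with `sieg_mul`, `sieg_zero`. -/
theorem sieg_pow (T : Matrix n n F) (k : ℕ) : sieg T ^ k = sieg (k • T) := by
  induction k with
  | zero => rw [pow_zero, zero_smul, sieg_zero]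
  | succ k ih => rw [pow_succ, ih, sieg_mul, succ_nsmul]

end Cfsg.Agent.Helper36.ELP
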