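import Cfsg.Agent.Helper36.GraphAut
import Cfsg.Agent.Helper36.ChevRc

/-!
# Tables for the exceptional graph automorphisms of `B₂`, `F₄` (characteristic 2) and `G₂`
(characteristic 3) (helper36; generated)
-/

set_option autoImplicit false
set_option maxRecDepth 1000000

namespace Cfsg.Agent.Helper36

open Cfsg Cfsg.Lie

/-- The permutation of the roots of `B2` interchanging long and short roots. -/
def gaRhoB2 (r : ℕ) : ℕ := ([1, 0, 3, 2, 5, 4, 7, 6] : List ℕ).getD r 0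

/-- The exponents: `2` on the short roots, `1` on the long roots. -/
def gaLamB2 (r : ℕ) : ℕ := ([1, 2, 2, 1, 1, 2, 2, 1] : List ℕ).getD r 0

theorem gaOK_B2_0 : (List.range' 0 8).all (gaRootOK chevB2 2 gaRhoB2 gaLamB2) = true := by
  decide +kernel

theorem gaOK_B2 : ∀ r < chevB2.nroots, gaRootOK chevB2 2 gaRhoB2 gaLamB2 r = true := by
  intro r hr
  change r < 8 at hr
  exact all_range'_spec gaOK_B2_0 r (by omega) (by omega)

/-- The permutation of the roots of `G2` interchanging long and short roots. -/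
def gaRhoG2 (r : ℕ) : ℕ := ([2, 3, 0, 1, 5, 4, 7, 6, 10, 11, 8, 9] : List ℕ).getD r 0

/-- The exponents: `3` on the short roots, `1` on the long roots. -/
def gaLamG2 (r : ℕ) : ℕ := ([1, 1, 3, 3, 3, 1, 1, 3, 3, 3, 1, 1] : List ℕ).getD r 0

theorem gaOK_G2_0 : (List.range' 0 12).all (gaRootOK chevG2 3 gaRhoG2 gaLamG2) = true := by
  decide +kernel

theorem gaOK_G2 : ∀ r < chevG2.nroots, gaRootOK chevG2 3 gaRhoG2 gaLamG2 r = true := by
  intro r hr
  change r < 12 at hr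
  exact all_range'_spec gaOK_G2_0 r (by omega) (by omega)

/-- The permutation of the roots of `F4` interchanging long and short roots. -/
def gaRhoF4 (r : ℕ) : ℕ := ([3, 7, 8, 0, 9, 11, 18, 1, 2, 4, 15, 5, 16, 21, 23, 10, 12, 19, 6, 17, 22, 13, 20, 14, 33, 27, 34, 25, 30, 41, 28, 35, 37, 24, 26, 31, 42, 32, 43, 45, 46, 29, 36, 38, 47, 39, 40, 44] : List ℕ).getD r 0

/-- The exponents: `2` on the short roots, `1` on the long roots. -/
def gaLamF4 (r : ℕ) : ℕ := ([1, 1, 1, 2, 1, 1, 1, 2, 2, 2, 2, 2, 2, 2, 2, 1, 1, 1, 2, 2, 2, 1, 1, 1, 1, 1, 1, 2, 2, 2, 1, 1, 1, 2, 2, 2, 2, 2, 2, 2, 2, 1, 1, 1, 2, 1, 1, 1] : List ℕ).getD r 0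

theorem gaOK_F4_0 : (List.range' 0 8).all (gaRootOK chevF4 2 gaRhoF4 gaLamF4) = true := by
  decide +kernel

theorem gaOK_F4_8 : (List.range' 8 8).all (gaRootOK chevF4 2 gaRhoF4 gaLamF4) = true := by
  decide +kernel

theorem gaOK_F4_16 : (List.range' 16 8).all (gaRootOK chevF4 2 gaRhoF4 gaLamF4) = true := by
  decide +kernel

theorem gaOK_F4_24 : (List.range' 24 8).all (gaRootOK chevF4 2 gaRhoF4 gaLamF4) = true := by
  decide +kernel

theorem gaOK_F4_32 : (List.range' 32 8).all (gaRootOK chevF4 2 gaRhoF4 gaLamF4) = true := by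
  decide +kernel

theorem gaOK_F4_40 : (List.range' 40 8).all (gaRootOK chevF4 2 gaRhoF4 gaLamF4) = true := by
  decide +kernel

theorem gaOK_F4 : ∀ r < chevF4.nroots, gaRootOK chevF4 2 gaRhoF4 gaLamF4 r = true := by
  intro r hr
  change r < 48 at hr
  by_cases h0 : r < 8
  · exact all_range'_spec gaOK_F4_0 r (by omega) (by omega)
  by_cases h1 : r < 16
  · exact all_range'_spec gaOK_F4_8 r (by omega) (by omega)
  by_cases h2 : r < 24
  · exact all_range'_spec gaOK_F4_16 r (by omega) (by omega)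
  by_cases h3 : r < 32
  · exact all_range'_spec gaOK_F4_24 r (by omega) (by omega)
  by_cases h4 : r < 40
  · exact all_range'_spec gaOK_F4_32 r (by omega) (by omega)
  · exact all_range'_spec gaOK_F4_40 r (by omega) (by omega)

theorem gaSimple_B2 : ∀ i < chevB2.rank,
    gaRhoB2 (chevB2.simple i) = chevB2.simple ((([(1, 2), (0, 1)] : List (ℕ × ℕ)).getD i (0, 1)).1) ∧
    gaLamB2 (chevB2.simple i) = (([(1, 2), (0, 1)] : List (ℕ × ℕ)).getD i (0, 1)).2 ∧
    gaRhoB2 (chevB2.neg (chevB2.simple i)) =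
      chevB2.neg (chevB2.simple ((([(1, 2), (0, 1)] : List (ℕ × ℕ)).getD i (0, 1)).1)) ∧
    gaLamB2 (chevB2.neg (chevB2.simple i)) = (([(1, 2), (0, 1)] : List (ℕ × ℕ)).getD i (0, 1)).2 ∧
    chevB2.simple i < chevB2.nroots ∧ chevB2.neg (chevB2.simple i) < chevB2.nroots := by
  decide +kernel

theorem gaSimple_F4 : ∀ i < chevF4.rank,
    gaRhoF4 (chevF4.simple i) =
      chevF4.simple ((([(3, 2), (2, 2), (1, 1), (0, 1)] : List (ℕ × ℕ)).getD i (0, 1)).1) ∧
    gaLamF4 (chevF4.simple i) = (([(3, 2), (2, 2), (1, 1), (0, 1)] : List (ℕ × ℕ)).getD i (0, 1)).2 ∧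
    gaRhoF4 (chevF4.neg (chevF4.simple i)) =
      chevF4.neg (chevF4.simple ((([(3, 2), (2, 2), (1, 1), (0, 1)] : List (ℕ × ℕ)).getD i (0, 1)).1)) ∧
    gaLamF4 (chevF4.neg (chevF4.simple i)) =
      (([(3, 2), (2, 2), (1, 1), (0, 1)] : List (ℕ × ℕ)).getD i (0, 1)).2 ∧
    chevF4.simple i < chevF4.nroots ∧ chevF4.neg (chevF4.simple i) < chevF4.nroots := by
  decide +kernel

end Cfsg.Agent.Helper36
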