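import Mathlib

set_option autoImplicit false

/-! CALL LM (helper21; row S4067), piece COUNT (double by helper36). -/

namespace Cfsg.Agent.Helper36.LM

/-- the conjugacy class of a non-central element has at least `p` elements, `p` the least prime
divisor of `|G|`. -/
theorem lm_class_ge {G : Type*} [Group G] [Finite G] (g : G) (hg : g ∉ Subgroup.center G) :
    (Nat.card G).minFac ≤ (MulAction.orbit (ConjAct G) g).ncard := by
  have h1 : (MulAction.orbit (ConjAct G) g).ncard ∣ Nat.card G := by
    rw [← MulAction.index_stabilizer]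
    exact Subgroup.index_dvd_card (MulAction.stabilizer (ConjAct G) g)
  have h2 : 2 ≤ (MulAction.orbit (ConjAct G) g).ncard := by
    have hex : ∃ h : G, h * g ≠ g * h := by
      by_contra hcon
      apply hg
      rw [Subgroup.mem_center_iff]
      intro h
      by_contra hne
      exact hcon ⟨h, hne⟩
    obtain ⟨h, hh⟩ := hex
    have hfin : (MulAction.orbit (ConjAct G) g).Finite := Set.toFinite _
    have h1lt : 1 < (MulAction.orbit (ConjAct G) g).ncard := by
      rw [Set.one_lt_ncard_iff hfin]
      refine ⟨g, ConjAct.toConjAct h • g, MulAction.mem_orbit_self g, MulAction.mem_orbit g _, ?_⟩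
      rw [ConjAct.toConjAct_smul]
      intro heq
      apply hh
      have h3 : h * g * h⁻¹ * h = g * h := by rw [← heq]
      simpa using h3
    exact h1lt
  exact Nat.minFac_le_of_dvd h2 h1

/-- COUNT: one automorphism moving every element outside an index-`p` subgroup `M ≥ Z(G)` to a
non-conjugate element gives at most `|G|/p` orbits. -/
theorem lm_count {G : Type*} [Group G] [Finite G] (hna : ¬ IsMulCommutative G)
    (σ : MulAut G) (M : Subgroup G) (hM : M.index = (Nat.card G).minFac)
    (hZM : Subgroup.center G ≤ M) (hσ : ∀ g : G, g ∉ M → ¬ IsConj g (σ g)) :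
    Nat.card (MulAction.orbitRel.Quotient (MulAut G) G) ≤ Nat.card G / (Nat.card G).minFac := by
  classical
  let _ : Fintype G := Fintype.ofFinite G
  let _ : Fintype (MulAction.orbitRel.Quotient (MulAut G) G) := Fintype.ofFinite _
  have hn1 : Nat.card G ≠ 1 := by
    intro h1
    apply hna
    have : Subsingleton G := (Nat.card_eq_one_iff_unique.mp h1).1
    exact ⟨⟨fun a b => Subsingleton.elim _ _⟩⟩
  have hpp : (Nat.card G).minFac.Prime := Nat.minFac_prime hn1
  obtain ⟨p, hp⟩ : ∃ p, p = (Nat.card G).minFac := ⟨_, rfl⟩
  rw [← hp] at hM hpp ⊢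
  have hp2 : 2 ≤ p := hpp.two_le
  have hnm : Nat.card M * p = Nat.card G := by
    rw [← hM]
    exact Subgroup.card_mul_index M
  have hzk : Nat.card (Subgroup.center G) * (Subgroup.center G).index = Nat.card G :=
    Subgroup.card_mul_index _
  have hnpos : 0 < Nat.card G := Nat.card_pos
  -- the index of the centre is at least `p * p`
  have hk : p * p ≤ (Subgroup.center G).index := by
    obtain ⟨k, hkdef⟩ : ∃ k, k = (Subgroup.center G).index := ⟨_, rfl⟩
    rw [← hkdef] at hzk ⊢
    have hkn : k ∣ Nat.card G := ⟨Nat.card (Subgroup.center G), by rw [← hzk, mul_comm]⟩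
    have hk1 : k ≠ 1 := by
      intro h1
      apply hna
      have htop : Subgroup.center G = ⊤ := Subgroup.index_eq_one.mp (hkdef ▸ h1)
      refine ⟨⟨fun a b => ?_⟩⟩
      have hb : b ∈ Subgroup.center G := by rw [htop]; exact Subgroup.mem_top b
      exact Subgroup.mem_center_iff.mp hb a
    have hknp : ¬ k.Prime := by
      intro hprime
      apply hna
      have : Fact k.Prime := ⟨hprime⟩
      have hcard : Nat.card (G ⧸ Subgroup.center G) = k := by
        rw [hkdef]
        exact (Subgroup.index_eq_card (Subgroup.center G)).symm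
      have : IsCyclic (G ⧸ Subgroup.center G) := isCyclic_of_prime_card hcard
      exact (QuotientGroup.mk' (Subgroup.center G)).isMulCommutative_of_isCyclic_of_ker_le_center
        (by rw [QuotientGroup.ker_mk'])
    have hk0 : k ≠ 0 := by
      rintro rfl
      rw [mul_zero] at hzk
      omega
    obtain ⟨r, hr, hrk⟩ := Nat.exists_prime_and_dvd hk1
    obtain ⟨k', hk'⟩ := hrk
    have hrp : p ≤ r := by
      rw [hp]
      exact Nat.minFac_le_of_dvd hr.two_le ((Dvd.intro k' hk'.symm).trans hkn)
    have hk'1 : k' ≠ 1 := by
      rintro rfl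
      apply hknp
      rw [hk', mul_one]
      exact hr
    have hk'0 : k' ≠ 0 := by
      rintro rfl
      apply hk0
      rw [hk', mul_zero]
    have hk'p : p ≤ k' := by
      rw [hp]
      exact Nat.minFac_le_of_dvd (by omega) ((Dvd.intro_left r hk'.symm).trans hkn)
    calc p * p ≤ r * k' := Nat.mul_le_mul hrp hk'p
      _ = k := hk'.symm
  -- weights
  obtain ⟨p', hp'⟩ : ∃ p', p = p' + 1 := ⟨p - 1, by omega⟩
  let w : G → ℕ := fun g =>
    1 + (if g ∈ M then 1 else 0) + 2 * p' * (if g ∈ Subgroup.center G then 1 else 0)
  have hcardS : ∀ (S : Subgroup G) (inst : DecidablePred (fun g : G => g ∈ S)),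
      (@Finset.filter G (fun g => g ∈ S) inst Finset.univ).card = Nat.card S := by
    intro S inst
    have e : ((@Finset.filter G (fun g => g ∈ S) inst Finset.univ : Finset G) : Set G)
        = (S : Set G) := by
      ext x
      simp
    rw [← Set.ncard_coe_finset, e]
    exact (Nat.card_coe_set_eq (S : Set G)).symm
  have htot : ∑ g : G, w g
      = Nat.card G + Nat.card M + 2 * p' * Nat.card (Subgroup.center G) := by
    simp only [w]
    rw [Finset.sum_add_distrib, Finset.sum_add_distrib, ← Finset.mul_sum, Finset.sum_boole,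
      Finset.sum_boole, Nat.cast_id, Nat.cast_id, hcardS M _, hcardS (Subgroup.center G) _]
    simp [Finset.card_univ, Nat.card_eq_fintype_card]
  -- every orbit has weight at least `2 * p`
  have horb : ∀ q : MulAction.orbitRel.Quotient (MulAut G) G,
      2 * p ≤ ∑ g ∈ Finset.univ.filter (fun g : G =>
        (Quotient.mk'' g : MulAction.orbitRel.Quotient (MulAut G) G) = q), w g := by
    intro q
    induction q using Quotient.inductionOn' with
    | h g0 =>
    obtain ⟨F, hF⟩ : ∃ F : Finset G, F = Finset.univ.filter (fun g : G =>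
        (Quotient.mk'' g : MulAction.orbitRel.Quotient (MulAut G) G) = Quotient.mk'' g0) := ⟨_, rfl⟩
    rw [← hF]
    have hg0F : g0 ∈ F := by
      rw [hF]
      simp
    have hsub : ∀ g ∈ F, ∀ f : MulAut G, f g ∈ F := by
      intro g hg f
      rw [hF, Finset.mem_filter] at hg ⊢
      refine ⟨Finset.mem_univ _, ?_⟩
      rw [← hg.2]
      exact Quotient.sound' (MulAction.orbitRel_apply.mpr ⟨f, rfl⟩)
    have hcls : ∀ g ∈ F, MulAction.orbit (ConjAct G) g ⊆ (F : Set G) := by
      intro g hg h hh
      rw [ConjAct.mem_orbit_conjAct] at hh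
      obtain ⟨c, hc⟩ := isConj_iff.mp hh.symm
      have h1 := hsub g hg (MulAut.conj c)
      rw [MulAut.conj_apply, hc] at h1
      exact h1
    have hw1 : ∀ g : G, 1 ≤ w g := fun g => Nat.le_add_right_of_le (Nat.le_add_right 1 _)
    by_cases hz : g0 ∈ Subgroup.center G
    · have hw0 : w g0 = 2 * p := by
        simp only [w, if_pos hz, if_pos (hZM hz)]
        rw [hp']
        ring
      rw [← hw0]
      exact Finset.single_le_sum (fun _ _ => Nat.zero_le _) hg0F
    · by_cases hout : ∃ g ∈ F, g ∉ M
      · obtain ⟨g, hgF, hgM⟩ := hout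
        have hgZ : g ∉ Subgroup.center G := fun h => hgM (hZM h)
        have hσgZ : σ g ∉ Subgroup.center G := by
          intro h
          apply hgZ
          rw [Subgroup.mem_center_iff] at h ⊢
          intro x
          apply σ.injective
          rw [map_mul, map_mul]
          exact h (σ x)
        have hσgF : σ g ∈ F := hsub g hgF σ
        have hdisj : Disjoint (MulAction.orbit (ConjAct G) g) (MulAction.orbit (ConjAct G) (σ g)) := by
          rw [Set.disjoint_left]
          intro h h1 h2
          rw [ConjAct.mem_orbit_conjAct] at h1 h2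
          exact hσ g hgM (h1.symm.trans h2)
        have hcard : 2 * p ≤ F.card := by
          have h1 := lm_class_ge g hgZ
          have h2 := lm_class_ge (σ g) hσgZ
          rw [← hp] at h1 h2
          have h3 : (MulAction.orbit (ConjAct G) g ∪ MulAction.orbit (ConjAct G) (σ g)).ncard
              ≤ (F : Set G).ncard :=
            Set.ncard_le_ncard (Set.union_subset (hcls g hgF) (hcls (σ g) hσgF))
              (Finset.finite_toSet F)
          rw [Set.ncard_union_eq hdisj (Set.toFinite _) (Set.toFinite _),
            Set.ncard_coe_finset] at h3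
          omega
        calc 2 * p ≤ F.card := hcard
          _ = ∑ g ∈ F, 1 := by simp
          _ ≤ ∑ g ∈ F, w g := Finset.sum_le_sum (fun g _ => hw1 g)
      · have hall : ∀ g ∈ F, g ∈ M := by
          intro g hg
          by_contra hgM
          exact hout ⟨g, hg, hgM⟩
        have hcard : p ≤ F.card := by
          have h1 := lm_class_ge g0 hz
          rw [← hp] at h1
          have h3 : (MulAction.orbit (ConjAct G) g0).ncard ≤ (F : Set G).ncard :=
            Set.ncard_le_ncard (hcls g0 hg0F) (Finset.finite_toSet F)
          rw [Set.ncard_coe_finset] at h3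
          omega
        have hw2 : ∀ g ∈ F, 2 ≤ w g := by
          intro g hg
          simp only [w, if_pos (hall g hg)]
          exact Nat.le_add_right (1 + 1) _
        calc 2 * p ≤ F.card * 2 := by omega
          _ = ∑ g ∈ F, 2 := by simp
          _ ≤ ∑ g ∈ F, w g := Finset.sum_le_sum hw2
  have hsum : ∑ q : MulAction.orbitRel.Quotient (MulAut G) G,
      ∑ g ∈ Finset.univ.filter (fun g : G =>
        (Quotient.mk'' g : MulAction.orbitRel.Quotient (MulAut G) G) = q), w g = ∑ g : G, w g :=
    Finset.sum_fiberwise Finset.univ _ w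
  have hN : Fintype.card (MulAction.orbitRel.Quotient (MulAut G) G) * (2 * p) ≤ ∑ g : G, w g := by
    rw [← hsum]
    calc Fintype.card (MulAction.orbitRel.Quotient (MulAut G) G) * (2 * p)
        = ∑ q : MulAction.orbitRel.Quotient (MulAut G) G, 2 * p := by
          simp [Finset.sum_const, Finset.card_univ]
      _ ≤ _ := Finset.sum_le_sum (fun q _ => horb q)
  rw [Nat.card_eq_fintype_card]
  rw [htot] at hN
  -- arithmetic
  have hppos : 0 < p := by omega
  have hdiv : Nat.card G / p = Nat.card M := by
    rw [← hnm]
    exact Nat.mul_div_cancel _ hppos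
  rw [hdiv]
  have hzp : Nat.card (Subgroup.center G) * p ≤ Nat.card M := by
    have h1 : Nat.card (Subgroup.center G) * (p * p) ≤ Nat.card M * p := by
      rw [hnm, ← hzk]
      exact Nat.mul_le_mul_left _ hk
    have h2 : Nat.card (Subgroup.center G) * p * p ≤ Nat.card M * p := by
      rw [mul_assoc]
      exact h1
    exact Nat.le_of_mul_le_mul_right h2 hppos
  have h2z : 2 * Nat.card (Subgroup.center G) ≤ Nat.card M := by
    calc 2 * Nat.card (Subgroup.center G) ≤ p * Nat.card (Subgroup.center G) :=
          Nat.mul_le_mul_right _ hp2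
      _ = Nat.card (Subgroup.center G) * p := mul_comm _ _
      _ ≤ Nat.card M := hzp
  have h3 : 2 * p' * Nat.card (Subgroup.center G) ≤ p' * Nat.card M := by
    calc 2 * p' * Nat.card (Subgroup.center G) = p' * (2 * Nat.card (Subgroup.center G)) := by ring
      _ ≤ p' * Nat.card M := Nat.mul_le_mul_left _ h2z
  have h4 : Fintype.card (MulAction.orbitRel.Quotient (MulAut G) G) * (2 * p)
      ≤ Nat.card M * (2 * p) := by
    calc Fintype.card (MulAction.orbitRel.Quotient (MulAut G) G) * (2 * p)
        ≤ Nat.card G + Nat.card M + 2 * p' * Nat.card (Subgroup.center G) := hN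
      _ ≤ Nat.card M * p + Nat.card M + p' * Nat.card M := by
          rw [hnm]
          exact Nat.add_le_add_left h3 _
      _ = Nat.card M * (2 * p) := by
          rw [hp']
          ring
  exact Nat.le_of_mul_le_mul_right h4 (by omega)

end Cfsg.Agent.Helper36.LM
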