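import Mathlib
import Cfsg.Prelude.Def_KGroupFacts

/-!
helper36: generic lemmas for computing outer automorphism groups of twisted groups.

* `card_out_of_cyclic`: if every automorphism is inner times a power of `φ`, and `φ ^ k` is inner exactly when
  `n ∣ k`, then `|Out G| = n`.
* `ringHom_eq_frob_pow`: ring endomorphisms of a finite field are powers of the Frobenius.
* `frob_pow_fix_dvd`: `t ^ p ^ k = t` for all `t` only if `n ∣ k` (`|K| = p ^ n`).
* `exists_conj_of_card_eq`: subgroups having the order of a `p`-subgroup of index prime to `p` are conjugate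
  to it.
-/

set_option autoImplicit false

namespace Cfsg.Agent.Helper36

theorem card_out_of_cyclic {G : Type*} [Group G] (φ : MulAut G) (n : ℕ) (hn : 0 < n)
    (hgen : ∀ α : MulAut G, ∃ (g : G) (k : ℕ), α = MulAut.conj g * φ ^ k)
    (hinn : ∀ k : ℕ, φ ^ k ∈ Cfsg.Inn G ↔ n ∣ k) : Nat.card (Cfsg.Out G) = n := by
  have hord : orderOf (QuotientGroup.mk φ : Cfsg.Out G) = n := by
    apply Nat.dvd_antisymm
    · rw [orderOf_dvd_iff_pow_eq_one, ← QuotientGroup.mk_pow, QuotientGroup.eq_one_iff]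
      exact (hinn n).mpr dvd_rfl
    · rw [← hinn, ← QuotientGroup.eq_one_iff, QuotientGroup.mk_pow]
      exact pow_orderOf_eq_one _
  have htop : Subgroup.zpowers (QuotientGroup.mk φ : Cfsg.Out G) = ⊤ := by
    rw [eq_top_iff]
    intro x _
    induction x using QuotientGroup.induction_on with
    | H α =>
      obtain ⟨g, k, rfl⟩ := hgen α
      have h1 : (QuotientGroup.mk (MulAut.conj g * φ ^ k) : Cfsg.Out G) =
          (QuotientGroup.mk φ : Cfsg.Out G) ^ k := by
        rw [QuotientGroup.mk_mul, QuotientGroup.mk_pow]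
        have : (QuotientGroup.mk (MulAut.conj g) : Cfsg.Out G) = 1 :=
          (QuotientGroup.eq_one_iff _).mpr ⟨g, rfl⟩
        rw [this, one_mul]
      rw [h1]
      exact Subgroup.pow_mem _ (Subgroup.mem_zpowers _) k
  rw [← hord, ← Nat.card_zpowers, htop]
  exact (Nat.card_congr Subgroup.topEquiv.toEquiv).symm

theorem ringHom_eq_frob_pow {K : Type*} [Field K] [Fintype K] (p : ℕ) [Fact p.Prime] [CharP K p]
    (ψ : K →+* K) : ∃ k : ℕ, ∀ t : K, ψ t = t ^ p ^ k := by
  letI := ZMod.algebra K p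
  let ψ' : K →ₐ[ZMod p] K :=
    { ψ with
      commutes' := fun x => by
        have h : ψ.comp (algebraMap (ZMod p) K) = algebraMap (ZMod p) K := Subsingleton.elim _ _
        exact RingHom.congr_fun h x }
  obtain ⟨n, hn⟩ := (FiniteField.bijective_frobeniusAlgHom_pow (ZMod p) K).2 ψ'
  refine ⟨n.1, fun t => ?_⟩
  have h1 : ψ t = (FiniteField.frobeniusAlgHom (ZMod p) K ^ n.1) t := by
    have := DFunLike.congr_fun hn t
    exact this.symm
  rw [h1, AlgHom.coe_pow, FiniteField.coe_frobeniusAlgHom, pow_iterate, ZMod.card]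

theorem frob_pow_fix_dvd {K : Type*} [Field K] [Fintype K] (p : ℕ) [Fact p.Prime] [CharP K p]
    {n : ℕ} (hK : Fintype.card K = p ^ n) {k : ℕ} (h : ∀ t : K, t ^ p ^ k = t) : n ∣ k := by
  letI := ZMod.algebra K p
  have hfin : Module.finrank (ZMod p) K = n := by
    have h1 := Module.card_eq_pow_finrank (K := ZMod p) (V := K)
    rw [hK, ZMod.card] at h1
    exact (Nat.pow_right_injective (Fact.out : p.Prime).two_le h1).symm
  rw [← hfin, ← FiniteField.orderOf_frobeniusAlgHom (ZMod p) K, orderOf_dvd_iff_pow_eq_one]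
  apply DFunLike.ext
  intro t
  rw [AlgHom.coe_pow, FiniteField.coe_frobeniusAlgHom, pow_iterate, ZMod.card, AlgHom.one_apply]
  exact h t

theorem exists_conj_of_card_eq {G : Type*} [Group G] [Finite G] (p : ℕ) [Fact p.Prime]
    (P Q : Subgroup G) (hP : IsPGroup p ↥P) (hidx : ¬ p ∣ P.index)
    (hQ : Nat.card ↥Q = Nat.card ↥P) : ∃ g : G, ∀ x : G, x ∈ Q ↔ g * x * g⁻¹ ∈ P := by
  have hQp : IsPGroup p ↥Q := by
    obtain ⟨k, hk⟩ := IsPGroup.iff_card.mp hP
    exact IsPGroup.of_card (n := k) (by rw [hQ, hk])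
  have hQi : ¬ p ∣ Q.index := by
    have h1 := Q.index_mul_card
    have h2 := P.index_mul_card
    rw [hQ, ← h2] at h1
    have hpos : 0 < Nat.card ↥P := Nat.card_pos
    rw [Nat.eq_of_mul_eq_mul_right hpos h1]
    exact hidx
  let S : Sylow p G := hP.toSylow hidx
  let T : Sylow p G := hQp.toSylow hQi
  obtain ⟨g, hg⟩ := MulAction.exists_smul_eq G T S
  refine ⟨g, fun x => ?_⟩
  have hS : (S : Subgroup G) = P := rfl
  have hT : (T : Subgroup G) = Q := rfl
  have h3 : ((g • T : Sylow p G) : Subgroup G) = P := by rw [hg]; exact hS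
  rw [Sylow.coe_subgroup_smul, hT] at h3
  rw [← h3]
  constructor
  · intro hx
    exact ⟨x, hx, rfl⟩
  · rintro ⟨y, hy, hxy⟩
    have hxy' : g * y * g⁻¹ = g * x * g⁻¹ := hxy
    have : y = x := by
      have := congrArg (fun z => g⁻¹ * z * g) hxy'
      simpa [mul_assoc] using this
    rw [← this]; exact hy

end Cfsg.Agent.Helper36
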