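import Cfsg.Agent.Helper36.Ree9
import Cfsg.Agent.Helper17.ChevH

/-!
# The torus `H¹` of the Ree group (helper36)
-/

set_option autoImplicit false

namespace Cfsg.Agent.Helper36

open Cfsg Cfsg.Lie

theorem zmod3_pow (t : ZMod 3) (m : ℕ) : t ^ 3 ^ m = t := by
  induction m with
  | zero => simp
  | succ k ih =>
    have h3 : ∀ x : ZMod 3, x ^ 3 = x := by decide
    rw [pow_succ, pow_mul, ih]
    exact h3 t

section ree10

variable {K : Type*} [Field K] [CharP K 3] {m : ℕ} {σ : ↥(chevG2.group K) →* ↥(chevG2.group K)}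

/-- The inclusion of the prime field. -/
noncomputable def f3 (K : Type*) [Field K] [CharP K 3] : ZMod 3 →+* K := ZMod.castHom (dvd_refl 3) K

theorem frT_f3 (m : ℕ) (t : ZMod 3) : frT K m (f3 K t) = f3 K t := by
  rw [frT_apply, ← map_pow, zmod3_pow]

theorem reeWordU_map (m : ℕ) (t u v : ZMod 3) :
    (reeWordU 1 t u v).map (fun p => (p.1, f3 K p.2)) =
      reeWordU (3 ^ m) (f3 K t) (f3 K u) (f3 K v) := by
  rw [reeWordU_eq]
  simp only [reeWordU, g2a, g2b, g2ab, g2aab, g2aaab, g2aaabb, List.map_cons, List.map_nil, frT_f3,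
    pow_one, map_add, map_pow]
  have h1 : f3 K t ^ (1 + 1) = f3 K t * f3 K t := by ring
  have h2 : f3 K t ^ (2 * 1 + 1) = f3 K t ^ 2 * f3 K t := by ring
  have h3 : f3 K t * f3 K t * f3 K t = f3 K t ^ 2 * f3 K t := by ring
  rw [h1, h2, h3]

theorem reeWordV_map (m : ℕ) (t u v : ZMod 3) :
    (reeWordV 1 t u v).map (fun p => (p.1, f3 K p.2)) =
      reeWordV (3 ^ m) (f3 K t) (f3 K u) (f3 K v) := by
  unfold reeWordV
  rw [← reeWordU_map m t u v]
  simp [ChevalleyDatum.negWord, List.map_map, Function.comp_def]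

variable [Fintype K]

/-- The involution `h_a(-1) h_b(-1)` lies in the Ree group. -/
theorem reeI_mem (hX : XAdd chevG2 K) (m : ℕ) :
    hGL hX 7 (-1) * hGL hX 6 (-1) ∈ twistedG2 K (3 ^ m) := by
  have h := congrArg (fun M : Matrix chevG2.Idx chevG2.Idx (ZMod 3) => M.map (f3 K)) reeIW_eq
  simp only [Cfsg.Agent.Helper18.wordMat_map] at h
  have e1 : reeIW.map (fun p => (p.1, f3 K p.2)) =
      reeWordU (3 ^ m) (f3 K 0) (f3 K 0) (f3 K 1) ++ reeWordV (3 ^ m) (f3 K 0) (f3 K 1) (f3 K 0) ++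
        reeWordU (3 ^ m) (f3 K 0) (f3 K 2) (f3 K 2) ++
        reeWordV (3 ^ m) (f3 K 1) (f3 K 1) (f3 K 2) := by
    unfold reeIW
    rw [List.map_append, List.map_append, List.map_append, reeWordU_map, reeWordV_map,
      reeWordU_map, reeWordV_map]
  have e2 : (chevG2.hWord 7 (-1 : ZMod 3) ++ chevG2.hWord 6 (-1 : ZMod 3)).map
      (fun p => (p.1, f3 K p.2)) = chevG2.hWord 7 (-1 : K) ++ chevG2.hWord 6 (-1 : K) := by
    rw [List.map_append, Cfsg.Agent.Helper18.hWord_map, Cfsg.Agent.Helper18.hWord_map, map_neg,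
      map_one]
  rw [e1, e2] at h
  have e3 : hGL hX 7 (-1) * hGL hX 6 (-1) =
      wordGL hX (reeWordU (3 ^ m) (f3 K 0) (f3 K 0) (f3 K 1)) *
        wordGL hX (reeWordV (3 ^ m) (f3 K 0) (f3 K 1) (f3 K 0)) *
        wordGL hX (reeWordU (3 ^ m) (f3 K 0) (f3 K 2) (f3 K 2)) *
        wordGL hX (reeWordV (3 ^ m) (f3 K 1) (f3 K 1) (f3 K 2)) := by
    rw [← wordGL_append, ← wordGL_append, ← wordGL_append]
    apply Units.ext
    rw [wordGL_val, h, wordMat_append', Units.val_mul, hGL_val, hGL_val]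
    rfl
  rw [e3]
  exact mul_mem (mul_mem (mul_mem (reeU_mem_G1 hX _ _ _) (reeV_mem_G1 hX _ _ _))
    (reeU_mem_G1 hX _ _ _)) (reeV_mem_G1 hX _ _ _)

end ree10

end Cfsg.Agent.Helper36
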