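import Cfsg.Agent.Helper36.Ree10

/-!
# The torus `H¹` of the Ree group: fixed points and order (helper36)
-/

set_option autoImplicit false

namespace Cfsg.Agent.Helper36

open Cfsg Cfsg.Lie

section ree11

variable {K : Type*} [Field K]

theorem g2_hGL_diag (hX : XAdd chevG2 K) {r : ℕ} (hr : r < 12) {c : K} (hc : c ≠ 0) :
    ((hGL hX r c : GL chevG2.Idx K) : Matrix chevG2.Idx chevG2.Idx K) =
      Matrix.diagonal (Sum.elim (fun _ => (1 : K))
        (fun s : Fin chevG2.nroots => c ^ chevG2.pairing r s.val)) := by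
  rw [hGL_val]
  exact Cfsg.Agent.Helper17.hDiag_of_mem g2_mem r hr c hc

theorem g2_hGL_comm (hX : XAdd chevG2 K) {r s : ℕ} (hr : r < 12) (hs : s < 12) {c d : K}
    (hc : c ≠ 0) (hd : d ≠ 0) : Commute (hGL hX r c) (hGL hX s d) := by
  apply Units.ext
  rw [Units.val_mul, Units.val_mul, g2_hGL_diag hX hr hc, g2_hGL_diag hX hs hd,
    Matrix.diagonal_mul_diagonal, Matrix.diagonal_mul_diagonal]
  congr 1
  funext b
  exact mul_comm _ _

theorem g2_pairing_8 : ∀ s : Fin 12, chevG2.pairing 8 s.val =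
    chevG2.pairing 7 s.val + 3 * chevG2.pairing 6 s.val := by decide

theorem g2_pairing_10 : ∀ s : Fin 12, chevG2.pairing 10 s.val =
    chevG2.pairing 7 s.val + chevG2.pairing 6 s.val := by decide

/-- `h_{a+b}(c) = h_a(c) h_b(c³)`. -/
theorem g2_h8 (hX : XAdd chevG2 K) {c : K} (hc : c ≠ 0) :
    hGL hX 8 c = hGL hX 7 c * hGL hX 6 (c ^ 3) := by
  apply Units.ext
  rw [Units.val_mul, g2_hGL_diag hX (by decide) hc, g2_hGL_diag hX (by decide) hc,
    g2_hGL_diag hX (by decide) (pow_ne_zero 3 hc), Matrix.diagonal_mul_diagonal]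
  congr 1
  funext b
  rcases b with j | s
  · simp
  · simp only [Sum.elim_inr]
    have e3 : c ^ (3 : ℤ) = c ^ 3 := by norm_cast
    rw [g2_pairing_8 s, zpow_add₀ hc, zpow_mul, e3]

/-- `h_{3a+b}(c) = h_a(c) h_b(c)`. -/
theorem g2_h10 (hX : XAdd chevG2 K) {c : K} (hc : c ≠ 0) :
    hGL hX 10 c = hGL hX 7 c * hGL hX 6 c := by
  apply Units.ext
  rw [Units.val_mul, g2_hGL_diag hX (by decide) hc, g2_hGL_diag hX (by decide) hc,
    g2_hGL_diag hX (by decide) hc, Matrix.diagonal_mul_diagonal]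
  congr 1
  funext b
  rcases b with j | s
  · simp
  · simp only [Sum.elim_inr]
    rw [g2_pairing_10 s, zpow_add₀ hc]

/-- The parameters of `h_a(z₀) h_b(z₁)` are determined by the element. -/
theorem g2_h_inj (hX : XAdd chevG2 K) {z₀ z₁ y₀ y₁ : K} (h0 : z₀ ≠ 0) (h1 : z₁ ≠ 0) (k0 : y₀ ≠ 0)
    (k1 : y₁ ≠ 0) (h : hGL hX 7 z₀ * hGL hX 6 z₁ = hGL hX 7 y₀ * hGL hX 6 y₁) :
    z₀ = y₀ ∧ z₁ = y₁ := by
  have h' := congrArg (fun x : GL chevG2.Idx K => (x : Matrix chevG2.Idx chevG2.Idx K)) h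
  simp only [Units.val_mul] at h'
  rw [g2_hGL_diag hX (by decide) h0, g2_hGL_diag hX (by decide) h1,
    g2_hGL_diag hX (by decide) k0, g2_hGL_diag hX (by decide) k1, Matrix.diagonal_mul_diagonal,
    Matrix.diagonal_mul_diagonal] at h'
  have e9 := congrFun (Matrix.diagonal_injective h') (Sum.inr ⟨9, by decide⟩)
  have e11 := congrFun (Matrix.diagonal_injective h') (Sum.inr ⟨11, by decide⟩)
  simp only [Sum.elim_inr] at e9 e11
  have p79 : chevG2.pairing 7 9 = 1 := by decide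
  have p69 : chevG2.pairing 6 9 = 0 := by decide
  have p711 : chevG2.pairing 7 11 = 0 := by decide
  have p611 : chevG2.pairing 6 11 = 1 := by decide
  rw [p79, p69] at e9
  rw [p711, p611] at e11
  simp only [zpow_one, zpow_zero, mul_one, one_mul] at e9 e11
  exact ⟨e9, e11⟩

/-- Every element of `H` is `h_a(z₀) h_b(z₁)`. -/
theorem g2_H_form (hX : XAdd chevG2 K) {g : GL chevG2.Idx K} (hg : g ∈ chevG2.diagonalSubgroup K) :
    ∃ z₀ z₁ : K, z₀ ≠ 0 ∧ z₁ ≠ 0 ∧ g = hGL hX 7 z₀ * hGL hX 6 z₁ := by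
  obtain ⟨c, hc, hgc⟩ := Cfsg.Agent.Helper17.diagonalSubgroup_eq_word
    Cfsg.Agent.Helper17.simpleOK_G2 (Cfsg.Agent.Helper17.hDiag_of_mem g2_mem) hg
  refine ⟨c 0, c 1, hc 0 (by decide), hc 1 (by decide), ?_⟩
  apply Units.ext
  rw [hgc, Units.val_mul, hGL_val, hGL_val]
  have e : (List.range chevG2.rank).flatMap (fun i => chevG2.hWord (chevG2.simple i) (c i)) =
      chevG2.hWord 7 (c 0) ++ chevG2.hWord 6 (c 1) := by
    have : List.range chevG2.rank = [0, 1] := by decide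
    rw [this]
    simp only [List.flatMap_cons, List.flatMap_nil, List.append_nil]
    rfl
  rw [e, wordMat_append']
  rfl

variable [CharP K 3] {m : ℕ} {σ : ↥(chevG2.group K) →* ↥(chevG2.group K)}

/-- The elements `n_{a+b}(u^θ) n_{3a+b}(u)` lie in the Ree group. -/
theorem reeN_mem [Fintype K] (hX : XAdd chevG2 K) (m : ℕ) {u : K} (hu : u ≠ 0) :
    nGL hX 8 (frT K m u) * nGL hX 10 u ∈ twistedG2 K (3 ^ m) := by
  have e : nGL hX 8 (frT K m u) * nGL hX 10 u =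
      wordGL hX (reeWordU (3 ^ m) 0 u 0) * wordGL hX (reeWordV (3 ^ m) 0 u⁻¹ 0) *
        wordGL hX (reeWordU (3 ^ m) 0 u 0) := by
    rw [reeU010, reeV010, map_inv₀]
    rw [nGL_eq, nGL_eq]
    have e8 : chevG2.neg 8 = 3 := rfl
    have e10 : chevG2.neg 10 = 1 := rfl
    rw [e8, e10]
    exact (mul3_comm _ _ _ _ _ _ (g2_comm_3_10 hX _ _).symm ((six_pos hX).ce _ _).symm
      (g2_comm_8_1 hX _ _).symm).symm
  rw [e]
  exact mul_mem (mul_mem (reeU_mem_G1 hX _ _ _) (reeV_mem_G1 hX _ _ _)) (reeU_mem_G1 hX _ _ _)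

theorem g2_nGL_comm (hX : XAdd chevG2 K) (c d : K) : Commute (nGL hX 8 c) (nGL hX 10 d) := by
  rw [nGL_eq, nGL_eq]
  have e8 : chevG2.neg 8 = 3 := rfl
  have e10 : chevG2.neg 10 = 1 := rfl
  rw [e8, e10]
  have h1 : ∀ t : K, Commute (xGL hX 8 t) (xGL hX 10 d * xGL hX 1 (-d⁻¹) * xGL hX 10 d) :=
    fun t => (((six_pos hX).ce _ _).mul_right (g2_comm_8_1 hX _ _)).mul_right ((six_pos hX).ce _ _)
  have h2 : ∀ t : K, Commute (xGL hX 3 t) (xGL hX 10 d * xGL hX 1 (-d⁻¹) * xGL hX 10 d) :=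
    fun t => ((g2_comm_3_10 hX _ _).mul_right ((six_neg hX).ce _ _)).mul_right
      (g2_comm_3_10 hX _ _)
  exact ((h1 _).mul_left (h2 _)).mul_left (h1 _)

/-- The elements `h_{a+b}(u^θ) h_{3a+b}(u)` lie in the Ree group. -/
theorem reeH8_mem [Fintype K] (hX : XAdd chevG2 K) (m : ℕ) {u : K} (hu : u ≠ 0) :
    hGL hX 8 (frT K m u) * hGL hX 10 u ∈ twistedG2 K (3 ^ m) := by
  have e : hGL hX 8 (frT K m u) * hGL hX 10 u =
      (nGL hX 8 (frT K m u) * nGL hX 10 u) * (nGL hX 8 (frT K m (-1)) * nGL hX 10 (-1)) := by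
    rw [hGL_eq, hGL_eq, map_neg, map_one]
    have hc := (g2_nGL_comm hX (-1) u).eq
    calc nGL hX 8 (frT K m u) * nGL hX 8 (-1) * (nGL hX 10 u * nGL hX 10 (-1))
        = nGL hX 8 (frT K m u) * (nGL hX 8 (-1) * nGL hX 10 u) * nGL hX 10 (-1) := by
          simp only [mul_assoc]
      _ = nGL hX 8 (frT K m u) * (nGL hX 10 u * nGL hX 8 (-1)) * nGL hX 10 (-1) := by rw [hc]
      _ = _ := by simp only [mul_assoc]
  rw [e]
  exact mul_mem (reeN_mem hX m hu) (reeN_mem hX m (neg_ne_zero.mpr one_ne_zero))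

end ree11

end Cfsg.Agent.Helper36
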