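import Cfsg.Agent.Helper36.Ree11

/-!
# `H ⊓ G¹` for the Ree group: the elements `h_a(z^θ) h_b(z)` (helper36)
-/

set_option autoImplicit false

namespace Cfsg.Agent.Helper36

open Cfsg Cfsg.Lie

theorem three_pow_mod_four (m : ℕ) : 3 ^ (2 * m + 1) % 4 = 3 := by
  induction m with
  | zero => rfl
  | succ k ih =>
    have e : 3 ^ (2 * (k + 1) + 1) = 3 ^ (2 * k + 1) * 9 := by ring
    rw [e, Nat.mul_mod, ih]

section ree12

variable {K : Type*} [Field K] [CharP K 3] [Fintype K] {m : ℕ}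
  {σ : ↥(chevG2.group K) →* ↥(chevG2.group K)}

/-- Every non-zero element is a square or the negative of a square. -/
theorem ree_sq_or_neg (hK : Fintype.card K = 3 ^ (2 * m + 1)) {z : K} (hz : z ≠ 0) :
    ∃ w : K, w ≠ 0 ∧ (z = w * w ∨ z = -(w * w)) := by
  have hF : ringChar K ≠ 2 := by
    rw [ringChar.eq K 3]; decide
  have hodd : Odd (Fintype.card K / 2) := by
    rw [hK, Nat.odd_iff]
    have := three_pow_mod_four m
    omega
  rcases FiniteField.pow_dichotomy hF hz with h | h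
  · obtain ⟨w, hw⟩ := (FiniteField.isSquare_iff hF hz).mpr h
    refine ⟨w, ?_, Or.inl hw⟩
    rintro rfl
    exact hz (by rw [hw, mul_zero])
  · have h' : (-z) ^ (Fintype.card K / 2) = 1 := by
      rw [neg_pow, hodd.neg_one_pow, h]; ring
    obtain ⟨w, hw⟩ := (FiniteField.isSquare_iff hF (neg_ne_zero.mpr hz)).mpr h'
    refine ⟨w, ?_, Or.inr (by rw [← hw, neg_neg])⟩
    rintro rfl
    exact hz (by rw [← neg_eq_zero, hw, mul_zero])

/-- A square is of the form `u^(3θ) u`. -/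
theorem ree_sq_eq (hK : Fintype.card K = 3 ^ (2 * m + 1)) {w : K} (hw : w ≠ 0) :
    ∃ u : K, u ≠ 0 ∧ frL K m u * u = w * w := by
  refine ⟨w ^ (3 ^ (m + 1) - 1), pow_ne_zero _ hw, ?_⟩
  have h1 : 1 ≤ 3 ^ (m + 1) := Nat.one_le_pow _ _ (by norm_num)
  have key : (w ^ (3 ^ (m + 1) - 1)) ^ 3 ^ (m + 1) * w ^ (3 ^ (m + 1) - 1) * w = w * w * w := by
    rw [← pow_mul, ← pow_add, ← pow_succ]
    have e : (3 ^ (m + 1) - 1) * 3 ^ (m + 1) + (3 ^ (m + 1) - 1) + 1 = 3 ^ (2 * m + 1) * 3 := by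
      have e2 : (3 : ℕ) ^ (2 * m + 1) * 3 = 3 ^ (m + 1) * 3 ^ (m + 1) := by ring
      rw [e2]
      obtain ⟨k, hk⟩ : ∃ k, 3 ^ (m + 1) = k + 1 := ⟨3 ^ (m + 1) - 1, by omega⟩
      rw [hk]
      simp only [Nat.add_sub_cancel]
      ring
    rw [e, pow_mul, ree_pow_card hK]
    ring
  rw [frL_apply]
  exact mul_right_cancel₀ hw key

/-- The elements `h_a(z^θ) h_b(z)` lie in the Ree group. -/
theorem reeH_mem (hK : Fintype.card K = 3 ^ (2 * m + 1)) (hX : XAdd chevG2 K) {z : K} (hz : z ≠ 0) :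
    hGL hX 7 (frT K m z) * hGL hX 6 z ∈ twistedG2 K (3 ^ m) := by
  have hDiag := Cfsg.Agent.Helper17.hDiag_of_mem (F := K) g2_mem
  -- the squares
  have hsq : ∀ w : K, w ≠ 0 → hGL hX 7 (frT K m (w * w)) * hGL hX 6 (w * w) ∈ twistedG2 K (3 ^ m) := by
    intro w hw
    obtain ⟨u, hu, he⟩ := ree_sq_eq hK hw
    have hTu : frT K m u ≠ 0 := (map_ne_zero _).mpr hu
    have hLu : frL K m u ≠ 0 := (map_ne_zero _).mpr hu
    have h8 := reeH8_mem hX m hu
    rw [g2_h8 hX hTu, g2_h10 hX hu, frT_pow3] at h8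
    have e : hGL hX 7 (frT K m u) * hGL hX 6 (frL K m u) * (hGL hX 7 u * hGL hX 6 u) =
        hGL hX 7 (frT K m (w * w)) * hGL hX 6 (w * w) := by
      have hc := (g2_hGL_comm hX (by decide : 6 < 12) (by decide : 7 < 12) hLu hu).eq
      calc hGL hX 7 (frT K m u) * hGL hX 6 (frL K m u) * (hGL hX 7 u * hGL hX 6 u)
          = hGL hX 7 (frT K m u) * (hGL hX 6 (frL K m u) * hGL hX 7 u) * hGL hX 6 u := by
            simp only [mul_assoc]
        _ = hGL hX 7 (frT K m u) * (hGL hX 7 u * hGL hX 6 (frL K m u)) * hGL hX 6 u := by rw [hc]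
        _ = (hGL hX 7 (frT K m u) * hGL hX 7 u) * (hGL hX 6 (frL K m u) * hGL hX 6 u) := by
            simp only [mul_assoc]
        _ = _ := by
            rw [hGL_mul hX hDiag (by decide) hTu hu, hGL_mul hX hDiag (by decide) hLu hu, he,
              ← he, map_mul, frT_frL hK, mul_comm u]
    rw [e] at h8
    exact h8
  obtain ⟨w, hw, h | h⟩ := ree_sq_or_neg hK hz
  · rw [h]; exact hsq w hw
  · have hww : w * w ≠ 0 := mul_ne_zero hw hw
    have hTw : frT K m (w * w) ≠ 0 := (map_ne_zero _).mpr hww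
    have h1 : (-1 : K) ≠ 0 := neg_ne_zero.mpr one_ne_zero
    have e : hGL hX 7 (frT K m z) * hGL hX 6 z =
        (hGL hX 7 (-1) * hGL hX 6 (-1)) * (hGL hX 7 (frT K m (w * w)) * hGL hX 6 (w * w)) := by
      have hc := (g2_hGL_comm hX (by decide : 6 < 12) (by decide : 7 < 12) h1 hTw).eq
      have e1 : frT K m z = -1 * frT K m (w * w) := by rw [h, map_neg]; ring
      have e2 : z = -1 * (w * w) := by rw [h]; ring
      calc hGL hX 7 (frT K m z) * hGL hX 6 z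
          = hGL hX 7 (-1 * frT K m (w * w)) * hGL hX 6 (-1 * (w * w)) := by rw [← e1, ← e2]
        _ = (hGL hX 7 (-1) * hGL hX 7 (frT K m (w * w))) * (hGL hX 6 (-1) * hGL hX 6 (w * w)) := by
            rw [hGL_mul hX hDiag (by decide) h1 hTw, hGL_mul hX hDiag (by decide) h1 hww]
        _ = hGL hX 7 (-1) * (hGL hX 7 (frT K m (w * w)) * hGL hX 6 (-1)) * hGL hX 6 (w * w) := by
            simp only [mul_assoc]
        _ = hGL hX 7 (-1) * (hGL hX 6 (-1) * hGL hX 7 (frT K m (w * w))) * hGL hX 6 (w * w) := by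
            rw [hc]
        _ = _ := by simp only [mul_assoc]
    rw [e]
    exact mul_mem (reeI_mem hX m) (hsq w hw)

/-- The fixed points of `σ` in `H`. -/
theorem ree_H_fixed (hK : Fintype.card K = 3 ^ (2 * m + 1)) (hσ : ReeSig m σ) (hX : XAdd chevG2 K)
    {g : GL chevG2.Idx K} (hg : g ∈ chevG2.diagonalSubgroup K) (hfix : sigGL σ g = g) :
    ∃ z : K, z ≠ 0 ∧ g = hGL hX 7 (frT K m z) * hGL hX 6 z := by
  obtain ⟨z₀, z₁, h0, h1, rfl⟩ := g2_H_form hX hg
  refine ⟨z₁, h1, ?_⟩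
  have hG : ∀ r c, hGL hX r c ∈ chevG2.group K := fun r c => wordGL_mem_group hX _
  rw [sigGL_mul σ (hG _ _) (hG _ _), sigGL_hGL hσ hX (by decide), sigGL_hGL hσ hX (by decide)] at hfix
  have e7 : gaRhoG2 7 = 6 := rfl
  have e6 : gaRhoG2 6 = 7 := rfl
  have p7 : rePw K m 7 = frL K m := by unfold rePw; rw [if_pos (by decide)]
  have p6 : rePw K m 6 = frT K m := by unfold rePw; rw [if_neg (by decide)]
  rw [e7, e6, p7, p6] at hfix
  have hL0 : frL K m z₀ ≠ 0 := (map_ne_zero _).mpr h0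
  have hT1 : frT K m z₁ ≠ 0 := (map_ne_zero _).mpr h1
  rw [(g2_hGL_comm hX (by decide : 6 < 12) (by decide : 7 < 12) hL0 hT1).eq] at hfix
  obtain ⟨e, -⟩ := g2_h_inj hX hT1 hL0 h0 h1 hfix
  rw [e]

/-- `|H ⊓ G¹| = q - 1`. -/
theorem ree_H_card (hK : Fintype.card K = 3 ^ (2 * m + 1)) (hσ : ReeSig m σ) :
    Nat.card ↥(chevG2.diagonalSubgroup K ⊓ twistedG2 K (3 ^ m)) = 3 ^ (2 * m + 1) - 1 := by
  have hX := xAdd_of_mem (F := K) g2_mem
  let φ : Kˣ → ↥(chevG2.diagonalSubgroup K ⊓ twistedG2 K (3 ^ m)) := fun z =>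
    ⟨hGL hX 7 (frT K m (z : K)) * hGL hX 6 (z : K),
      Subgroup.mem_inf.mpr ⟨mul_mem (hGL_mem hX (by decide) ((map_ne_zero _).mpr z.ne_zero))
        (hGL_mem hX (by decide) z.ne_zero), reeH_mem hK hX z.ne_zero⟩⟩
  have hφ : Function.Bijective φ := by
    constructor
    · intro z z' h
      have h' := congrArg Subtype.val h
      obtain ⟨-, h2⟩ := g2_h_inj hX ((map_ne_zero _).mpr z.ne_zero) z.ne_zero
        ((map_ne_zero _).mpr z'.ne_zero) z'.ne_zero h'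
      exact Units.ext h2
    · rintro ⟨g, hg⟩
      obtain ⟨z, hz, rfl⟩ := ree_H_fixed hK hσ hX hg.1 (twistedG2_le_sigFix hK hσ hg.2).2
      exact ⟨Units.mk0 z hz, rfl⟩
  rw [← Nat.card_congr (Equiv.ofBijective φ hφ), Nat.card_units, Nat.card_eq_fintype_card, hK]

end ree12

end Cfsg.Agent.Helper36
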