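import Cfsg.Agent.Helper36.Ree12
import Cfsg.Agent.Helper36.ChevCharTables

/-!
# The Borel subgroup of the Ree group and its core (helper36)
-/

set_option autoImplicit false

namespace Cfsg.Agent.Helper36

open Cfsg Cfsg.Lie

section ree13

variable {K : Type*} [Field K]

/-- `h_r(c) x_s(t) h_r(c)⁻¹ = x_s(c^⟨s,r⟩ t)`. -/
theorem g2_hGL_conj_x (hX : XAdd chevG2 K) {r s : ℕ} (hr : r < 12) (hs : s < 12) {c : K}
    (hc : c ≠ 0) (t : K) :
    hGL hX r c * xGL hX s t * (hGL hX r c)⁻¹ = xGL hX s (c ^ chevG2.pairing r s * t) := by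
  apply Units.ext
  rw [Units.val_mul, Units.val_mul, xGL_val, xGL_val]
  have hz := Cfsg.Agent.Helper17.hMat_eq_charDiag (Cfsg.Agent.Helper17.hDiag_of_mem (F := K) g2_mem)
    hr hc
  have h := Cfsg.Agent.Helper17.torus_conj_x (chainOK_of_mem chevG2 g2_mem)
    (Cfsg.Agent.Helper17.cartanFacts_of_mem g2_mem) (g := hGL hX r c)
    (by rw [hGL_val]; exact hz) s hs t
  rw [h, Cfsg.Agent.Helper17.torusChar_pow_coroot]
  congr 2
  rw [Units.val_zpow_eq_zpow_val, Units.val_mk0]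

theorem g2_hGL_one (hX : XAdd chevG2 K) {r : ℕ} (hr : r < 12) : hGL hX r (1 : K) = 1 := by
  apply Units.ext
  rw [g2_hGL_diag hX hr one_ne_zero, Units.val_one, ← Matrix.diagonal_one]
  congr 1
  funext b
  rcases b with j | s
  · rfl
  · simp

/-- The action of `h_a(a) h_b(z)` on `x_{2a+b}(d) x_{3a+2b}(f)`. -/
theorem g2_h_conj_9_11 (hX : XAdd chevG2 K) {a z : K} (ha : a ≠ 0) (hz : z ≠ 0) (d f : K) :
    (hGL hX 7 a * hGL hX 6 z) * (xGL hX 9 d * xGL hX 11 f) * (hGL hX 7 a * hGL hX 6 z)⁻¹ =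
      xGL hX 9 (a * d) * xGL hX 11 (z * f) := by
  have e : (hGL hX 7 a * hGL hX 6 z) * (xGL hX 9 d * xGL hX 11 f) * (hGL hX 7 a * hGL hX 6 z)⁻¹ =
      (hGL hX 7 a * (hGL hX 6 z * xGL hX 9 d * (hGL hX 6 z)⁻¹) * (hGL hX 7 a)⁻¹) *
        (hGL hX 7 a * (hGL hX 6 z * xGL hX 11 f * (hGL hX 6 z)⁻¹) * (hGL hX 7 a)⁻¹) := by group
  rw [e, g2_hGL_conj_x hX (by decide) (by decide) hz, g2_hGL_conj_x hX (by decide) (by decide) hz,
    g2_hGL_conj_x hX (by decide) (by decide) ha, g2_hGL_conj_x hX (by decide) (by decide) ha]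
  have p79 : chevG2.pairing 7 9 = 1 := by decide
  have p69 : chevG2.pairing 6 9 = 0 := by decide
  have p711 : chevG2.pairing 7 11 = 0 := by decide
  have p611 : chevG2.pairing 6 11 = 1 := by decide
  rw [p79, p69, p711, p611]
  simp only [zpow_one, zpow_zero, one_mul]

variable [CharP K 3]

theorem g2_w_9_11 (hX : XAdd chevG2 K) (d f : K) :
    xGL hX 9 d * xGL hX 11 f = xGL hX 7 0 * xGL hX 6 0 * w4 hX 8 9 10 11 0 d 0 f := by
  simp [w4, xGL_zero]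

/-- Elements of `N` in the coset of the longest element exchange `U` and `V`. -/
theorem ree_n_conj_U {n : GL chevG2.Idx K} (h : n * g2N0 K ∈ chevG2.diagonalSubgroup K) :
    ∀ u ∈ chevG2.posUnipotent K, n * u * n⁻¹ ∈ chevG2.negUnipotent K := by
  intro u hu
  have hNV := Cfsg.Agent.Helper17.diagonalSubgroup_le_normalizer_negUnipotent
    (Cfsg.Agent.Helper17.torusFacts_of_mem g2_mem) (Cfsg.Agent.Helper17.hDiag_of_mem (F := K) g2_mem)
  have e : n * u * n⁻¹ = (n * g2N0 K) * ((g2N0 K)⁻¹ * u * g2N0 K) * (n * g2N0 K)⁻¹ := by group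
  rw [e]
  exact (Subgroup.mem_normalizer_iff.mp (hNV h) _).mp (g2N0_inv_conj_U u hu)

theorem ree_n_inv_conj_V {n : GL chevG2.Idx K} (h : n * g2N0 K ∈ chevG2.diagonalSubgroup K) :
    ∀ v ∈ chevG2.negUnipotent K, n⁻¹ * v * n ∈ chevG2.posUnipotent K := by
  intro v hv
  have hNV := Cfsg.Agent.Helper17.diagonalSubgroup_le_normalizer_negUnipotent
    (Cfsg.Agent.Helper17.torusFacts_of_mem g2_mem) (Cfsg.Agent.Helper17.hDiag_of_mem (F := K) g2_mem)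
  have e : n⁻¹ * v * n = g2N0 K * ((n * g2N0 K)⁻¹ * v * (n * g2N0 K)⁻¹⁻¹) * (g2N0 K)⁻¹ := by group
  rw [e]
  exact g2N0_conj_V _ ((Subgroup.mem_normalizer_iff.mp (hNV (inv_mem h)) _).mp hv)

variable [Fintype K] {m : ℕ} {σ : ↥(chevG2.group K) →* ↥(chevG2.group K)}

theorem reeN0_mul_g2N0 (hK : Fintype.card K = 3 ^ (2 * m + 1)) (hσ : ReeSig m σ)
    (hX : XAdd chevG2 K) : reeN0 hX * g2N0 K ∈ chevG2.diagonalSubgroup K :=
  ree_N_cases hK hσ (reeN0_mem_N hX) (reeN0_mem_G1 hX m) (reeN0_not_mem_H hX)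

/-- `B ⊓ G¹ = U¹ H¹`. -/
theorem ree_B_decomp (hK : Fintype.card K = 3 ^ (2 * m + 1)) (hσ : ReeSig m σ)
    {g : GL chevG2.Idx K} (hB : g ∈ chevG2.borelSubgroup K) (hG : g ∈ twistedG2 K (3 ^ m)) :
    ∃ u ∈ chevG2.posUnipotent K ⊓ twistedG2 K (3 ^ m),
      ∃ h ∈ chevG2.diagonalSubgroup K ⊓ twistedG2 K (3 ^ m), g = u * h := by
  have R := bRel_of_mem (F := K) g2_mem
  obtain ⟨u₁, hu₁, n, hn, u₂, hu₂, rfl⟩ := ree_bruhat hK hσ hG
  have hnH : n ∈ chevG2.diagonalSubgroup K := by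
    rw [← R.borel_inf_monomial R.bv R.xinj]
    refine Subgroup.mem_inf.mpr ⟨?_, hn.1⟩
    have : u₁⁻¹ * (u₁ * n * u₂) * u₂⁻¹ ∈ chevG2.borelSubgroup K :=
      mul_mem (mul_mem (inv_mem (BRel.U_le_B _ _ hu₁.1)) hB) (inv_mem (BRel.U_le_B _ _ hu₂.1))
    have e : u₁⁻¹ * (u₁ * n * u₂) * u₂⁻¹ = n := by group
    rwa [e] at this
  refine ⟨u₁ * (n * u₂ * n⁻¹), Subgroup.mem_inf.mpr ⟨mul_mem hu₁.1 ?_, mul_mem hu₁.2
    (mul_mem (mul_mem hn.2 hu₂.2) (inv_mem hn.2))⟩, n, Subgroup.mem_inf.mpr ⟨hnH, hn.2⟩, by group⟩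
  exact (Subgroup.mem_normalizer_iff.mp (R.hU hnH) _).mp hu₂.1

/-- The core of `B¹` in `G¹` is trivial (on elements). -/
theorem ree_core (hK : Fintype.card K = 3 ^ (2 * m + 1)) (hσ : ReeSig m σ)
    {x : GL chevG2.Idx K} (hx : x ∈ twistedG2 K (3 ^ m))
    (hconj : ∀ b ∈ twistedG2 K (3 ^ m), b * x * b⁻¹ ∈ chevG2.borelSubgroup K) : x = 1 := by
  have R := bRel_of_mem (F := K) g2_mem
  have hX := R.xadd
  have hn0 := reeN0_mul_g2N0 hK hσ hX
  have hn0G := reeN0_mem_G1 hX m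
  -- elements of `B¹` conjugated into `B` by `n₀` lie in `H`
  have key : ∀ y ∈ twistedG2 K (3 ^ m), y ∈ chevG2.borelSubgroup K →
      reeN0 hX * y * (reeN0 hX)⁻¹ ∈ chevG2.borelSubgroup K → y ∈ chevG2.diagonalSubgroup K := by
    intro y hyG hyB hyn
    obtain ⟨u, hu, h, hh, rfl⟩ := ree_B_decomp hK hσ hyB hyG
    have e : reeN0 hX * (u * h) * (reeN0 hX)⁻¹ =
        (reeN0 hX * u * (reeN0 hX)⁻¹) * (reeN0 hX * h * (reeN0 hX)⁻¹) := by group
    rw [e] at hyn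
    have hh' : reeN0 hX * h * (reeN0 hX)⁻¹ ∈ chevG2.borelSubgroup K :=
      BRel.H_le_B _ _ (R.N_conj_H _ (reeN0_mem_N hX) _ hh.1)
    have hv : reeN0 hX * u * (reeN0 hX)⁻¹ ∈ chevG2.borelSubgroup K ⊓ chevG2.negUnipotent K := by
      refine Subgroup.mem_inf.mpr ⟨?_, ree_n_conj_U hn0 u hu.1⟩
      have := mul_mem hyn (inv_mem hh')
      rwa [mul_inv_cancel_right] at this
    rw [R.bv, Subgroup.mem_bot] at hv
    have hu1 : u = 1 := by
      have : u = (reeN0 hX)⁻¹ * (reeN0 hX * u * (reeN0 hX)⁻¹) * reeN0 hX := by group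
      rw [this, hv]; group
    rw [hu1, one_mul]
    exact hh.1
  have hxB : x ∈ chevG2.borelSubgroup K := by
    have := hconj 1 (one_mem _)
    simpa using this
  have hxH : x ∈ chevG2.diagonalSubgroup K := key x hx hxB (hconj _ hn0G)
  -- `x` commutes with `u' = x_{2a+b}(1) x_{3a+2b}(1)`
  have hu'G : wordGL hX (reeWordU (3 ^ m) 0 0 1) ∈ twistedG2 K (3 ^ m) := reeU_mem_G1 hX _ _ _
  have hu'U : wordGL hX (reeWordU (3 ^ m) 0 0 1) ∈ chevG2.posUnipotent K := reeU_mem_U hX _ _ _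
  have hu' : wordGL hX (reeWordU (3 ^ m) 0 0 1) = xGL hX 9 1 * xGL hX 11 1 := by
    rw [wordGL_reeU]
    simp [w4, xGL_zero]
  set u' := wordGL hX (reeWordU (3 ^ m) 0 0 1) with hu'def
  have hyH : u' * x * u'⁻¹ ∈ chevG2.diagonalSubgroup K := by
    apply key _ (mul_mem (mul_mem hu'G hx) (inv_mem hu'G)) (hconj _ hu'G)
    have e : reeN0 hX * (u' * x * u'⁻¹) * (reeN0 hX)⁻¹ =
        (reeN0 hX * u') * x * (reeN0 hX * u')⁻¹ := by group
    rw [e]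
    exact hconj _ (mul_mem hn0G hu'G)
  have hcomm : x * u' * x⁻¹ = u' := by
    have h1 : u' * (x * u'⁻¹ * x⁻¹) ∈ chevG2.posUnipotent K ⊓ chevG2.diagonalSubgroup K := by
      refine Subgroup.mem_inf.mpr ⟨mul_mem hu'U
        ((Subgroup.mem_normalizer_iff.mp (R.hU hxH) _).mp (inv_mem hu'U)), ?_⟩
      have e : u' * (x * u'⁻¹ * x⁻¹) = (u' * x * u'⁻¹) * x⁻¹ := by group
      rw [e]
      exact mul_mem hyH (inv_mem hxH)
    rw [R.uh, Subgroup.mem_bot] at h1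
    have : x * u' * x⁻¹ = (u' * (x * u'⁻¹ * x⁻¹))⁻¹ * u' := by group
    rw [this, h1, inv_one, one_mul]
  obtain ⟨z, hz, rfl⟩ := ree_H_fixed hK hσ hX hxH (twistedG2_le_sigFix hK hσ hx).2
  rw [hu', g2_h_conj_9_11 hX ((map_ne_zero _).mpr hz) hz, g2_w_9_11, g2_w_9_11] at hcomm
  obtain ⟨-, -, -, -, -, h6⟩ := g2_U_unique hX hcomm
  rw [mul_one] at h6
  rw [h6, map_one, g2_hGL_one hX (by decide), g2_hGL_one hX (by decide), one_mul]

end ree13

end Cfsg.Agent.Helper36
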