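import Cfsg.Agent.Helper36.Ree13

/-!
# The (B,N)-pair of the Ree group (helper36)
-/

set_option autoImplicit false

namespace Cfsg.Agent.Helper36

open Cfsg Cfsg.Lie

section ree14

variable {K : Type*} [Field K] [CharP K 3] [Fintype K] {m : ℕ}
  {σ : ↥(chevG2.group K) →* ↥(chevG2.group K)}

/-- The double coset condition, in the ambient group. -/
theorem ree_bn_mul (hK : Fintype.card K = 3 ^ (2 * m + 1)) (hσ : ReeSig m σ) (hX : XAdd chevG2 K)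
    {b n : GL chevG2.Idx K} (hbB : b ∈ chevG2.borelSubgroup K) (hbG : b ∈ twistedG2 K (3 ^ m))
    (hnN : n ∈ chevG2.monomialSubgroup K) (hnG : n ∈ twistedG2 K (3 ^ m)) :
    (∃ x ∈ chevG2.borelSubgroup K ⊓ twistedG2 K (3 ^ m),
      ∃ y ∈ chevG2.borelSubgroup K ⊓ twistedG2 K (3 ^ m),
        reeN0 hX * b * n = x * (reeN0 hX * n) * y) ∨
    (∃ x ∈ chevG2.borelSubgroup K ⊓ twistedG2 K (3 ^ m),
      ∃ y ∈ chevG2.borelSubgroup K ⊓ twistedG2 K (3 ^ m), reeN0 hX * b * n = x * n * y) := by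
  have R := bRel_of_mem (F := K) g2_mem
  have hs0 := reeN0_mul_g2N0 hK hσ hX
  have hsG := reeN0_mem_G1 hX m
  have hsN := reeN0_mem_N hX
  have hsH := reeN0_not_mem_H hX
  by_cases hnH : n ∈ chevG2.diagonalSubgroup K
  · left
    have hnB := BRel.H_le_B _ _ hnH
    exact ⟨1, one_mem _, n⁻¹ * b * n, Subgroup.mem_inf.mpr ⟨mul_mem (mul_mem (inv_mem hnB) hbB) hnB,
      mul_mem (mul_mem (inv_mem hnG) hbG) hnG⟩, by group⟩
  · obtain ⟨u, hu, h, hh, rfl⟩ := ree_B_decomp hK hσ hbB hbG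
    rw [Subgroup.mem_inf] at hu hh
    have hvV : reeN0 hX * u * (reeN0 hX)⁻¹ ∈ chevG2.negUnipotent K := ree_n_conj_U hs0 u hu.1
    have hvG : reeN0 hX * u * (reeN0 hX)⁻¹ ∈ twistedG2 K (3 ^ m) :=
      mul_mem (mul_mem hsG hu.2) (inv_mem hsG)
    have hhnN : h * n ∈ chevG2.monomialSubgroup K :=
      mul_mem (diagonal_le_monomial _ _ hh.1) hnN
    have hhnH : h * n ∉ chevG2.diagonalSubgroup K := fun hc => hnH (by
      have := mul_mem (inv_mem hh.1) hc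
      rwa [inv_mul_cancel_left] at this)
    have hkH : reeN0 hX * (h * n) ∈ chevG2.diagonalSubgroup K :=
      ree_N_mul hK hσ hsN hsG hsH hhnN (mul_mem hh.2 hnG) hhnH
    have hkG : reeN0 hX * (h * n) ∈ twistedG2 K (3 ^ m) := mul_mem hsG (mul_mem hh.2 hnG)
    have e : reeN0 hX * (u * h) * n =
        (reeN0 hX * u * (reeN0 hX)⁻¹) * (reeN0 hX * (h * n)) := by group
    obtain ⟨u₁, hu₁, n', hn', u₂, hu₂, hv⟩ := ree_bruhat hK hσ hvG
    rw [Subgroup.mem_inf] at hu₁ hn' hu₂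
    by_cases hn'H : n' ∈ chevG2.diagonalSubgroup K
    · left
      have hv1 : reeN0 hX * u * (reeN0 hX)⁻¹ = 1 := by
        have : reeN0 hX * u * (reeN0 hX)⁻¹ ∈ chevG2.borelSubgroup K ⊓ chevG2.negUnipotent K := by
          refine Subgroup.mem_inf.mpr ⟨?_, hvV⟩
          rw [hv]
          exact mul_mem (mul_mem (BRel.U_le_B _ _ hu₁.1) (BRel.H_le_B _ _ hn'H))
            (BRel.U_le_B _ _ hu₂.1)
        rwa [R.bv, Subgroup.mem_bot] at this
      have hsnH : reeN0 hX * n ∈ chevG2.diagonalSubgroup K :=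
        ree_N_mul hK hσ hsN hsG hsH hnN hnG hnH
      refine ⟨1, one_mem _, (reeN0 hX * n)⁻¹ * (reeN0 hX * (h * n)), ?_, ?_⟩
      · exact Subgroup.mem_inf.mpr ⟨BRel.H_le_B _ _ (mul_mem (inv_mem hsnH) hkH),
          mul_mem (inv_mem (mul_mem hsG hnG)) hkG⟩
      · rw [e, hv1]; group
    · right
      have hnn' : n⁻¹ * n' ∈ chevG2.diagonalSubgroup K :=
        ree_N_mul hK hσ (inv_mem hnN) (inv_mem hnG)
          (fun hc => hnH (by simpa using inv_mem hc)) hn'.1 hn'.2 hn'H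
      refine ⟨u₁, Subgroup.mem_inf.mpr ⟨BRel.U_le_B _ _ hu₁.1, hu₁.2⟩,
        n⁻¹ * n' * u₂ * (reeN0 hX * (h * n)), ?_, ?_⟩
      · exact Subgroup.mem_inf.mpr ⟨mul_mem (mul_mem (BRel.H_le_B _ _ hnn')
          (BRel.U_le_B _ _ hu₂.1)) (BRel.H_le_B _ _ hkH),
          mul_mem (mul_mem (mul_mem (inv_mem hnG) hn'.2) hu₂.2) hkG⟩
      · rw [e, hv]; group

theorem reeU_zero (hX : XAdd chevG2 K) : wordGL hX (reeWordU (3 ^ m) (0 : K) 0 0) = 1 := by
  rw [wordGL_reeU]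
  simp [w4, xGL_zero]

/-- `s B s ≠ B`, in the ambient group. -/
theorem ree_bn_conj_ne (hK : Fintype.card K = 3 ^ (2 * m + 1)) (hσ : ReeSig m σ)
    (hX : XAdd chevG2 K) :
    reeN0 hX * wordGL hX (reeWordU (3 ^ m) 0 1 0) * reeN0 hX ∉ chevG2.borelSubgroup K := by
  have R := bRel_of_mem (F := K) g2_mem
  have hs0 := reeN0_mul_g2N0 hK hσ hX
  have hsG := reeN0_mem_G1 hX m
  have hsN := reeN0_mem_N hX
  have hsH := reeN0_not_mem_H hX
  intro hc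
  have hss : reeN0 hX * reeN0 hX ∈ chevG2.diagonalSubgroup K :=
    ree_N_mul hK hσ hsN hsG hsH hsN hsG hsH
  set u := wordGL hX (reeWordU (3 ^ m) (0 : K) 1 0) with hu
  have hv : reeN0 hX * u * (reeN0 hX)⁻¹ ∈ chevG2.borelSubgroup K ⊓ chevG2.negUnipotent K := by
    refine Subgroup.mem_inf.mpr ⟨?_, ree_n_conj_U hs0 u (reeU_mem_U hX _ _ _)⟩
    have e : reeN0 hX * u * (reeN0 hX)⁻¹ = (reeN0 hX * u * reeN0 hX) * (reeN0 hX * reeN0 hX)⁻¹ := by
      group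
    rw [e]
    exact mul_mem hc (inv_mem (BRel.H_le_B _ _ hss))
  rw [R.bv, Subgroup.mem_bot] at hv
  have hu1 : u = 1 := by
    have : u = (reeN0 hX)⁻¹ * (reeN0 hX * u * (reeN0 hX)⁻¹) * reeN0 hX := by group
    rw [this, hv]; group
  rw [hu, ← reeU_zero (m := m) hX] at hu1
  exact one_ne_zero (reeU_inj hX hu1).2.1

/-- The (B,N)-pair of `²G₂(3^(2m+1))`. -/
theorem ree_bn (hK : Fintype.card K = 3 ^ (2 * m + 1)) (hσ : ReeSig m σ) :
    ∃ P : Cfsg.BNPair ↥(twistedG2 K (3 ^ m)),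
      P.B = (chevG2.borelSubgroup K ⊓ twistedG2 K (3 ^ m)).subgroupOf (twistedG2 K (3 ^ m)) ∧
      P.N = (chevG2.monomialSubgroup K ⊓ twistedG2 K (3 ^ m)).subgroupOf
        (twistedG2 K (3 ^ m)) := by
  have R := bRel_of_mem (F := K) g2_mem
  have hX := R.xadd
  have hsG := reeN0_mem_G1 hX m
  have hsN := reeN0_mem_N hX
  have hsH := reeN0_not_mem_H hX
  have hss : reeN0 hX * reeN0 hX ∈ chevG2.diagonalSubgroup K :=
    ree_N_mul hK hσ hsN hsG hsH hsN hsG hsH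
  refine ⟨{
    B := (chevG2.borelSubgroup K ⊓ twistedG2 K (3 ^ m)).subgroupOf (twistedG2 K (3 ^ m))
    N := (chevG2.monomialSubgroup K ⊓ twistedG2 K (3 ^ m)).subgroupOf (twistedG2 K (3 ^ m))
    S := {⟨reeN0 hX, hsG⟩}
    sup_eq_top := ?_
    conj_mem := ?_
    subset := ?_
    sq_mem := ?_
    inj := ?_
    closure_sup := ?_
    mul_mem_union := ?_
    conj_ne := ?_ }, rfl, rfl⟩
  · rw [eq_top_iff]
    rintro ⟨g, hg⟩ -
    obtain ⟨u₁, hu₁, n, hn, u₂, hu₂, rfl⟩ := ree_bruhat hK hσ hg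
    have hn0 := hn
    rw [Subgroup.mem_inf] at hu₁ hn hu₂
    have e : (⟨u₁ * n * u₂, hg⟩ : ↥(twistedG2 K (3 ^ m))) =
        ⟨u₁, hu₁.2⟩ * ⟨n, hn.2⟩ * ⟨u₂, hu₂.2⟩ := rfl
    rw [e]
    exact mul_mem (mul_mem (Subgroup.mem_sup_left (Subgroup.mem_subgroupOf.mpr
      ⟨BRel.U_le_B _ _ hu₁.1, hu₁.2⟩)) (Subgroup.mem_sup_right (Subgroup.mem_subgroupOf.mpr hn0)))
      (Subgroup.mem_sup_left (Subgroup.mem_subgroupOf.mpr ⟨BRel.U_le_B _ _ hu₂.1, hu₂.2⟩))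
  · intro n hn t ht
    obtain ⟨htB, htN⟩ := Subgroup.mem_inf.mp ht
    rw [Subgroup.mem_subgroupOf, Subgroup.mem_inf] at hn htB htN
    rw [Subgroup.mem_subgroupOf]
    have htH : (t : GL chevG2.Idx K) ∈ chevG2.diagonalSubgroup K := by
      rw [← R.borel_inf_monomial R.bv R.xinj]
      exact ⟨htB.1, htN.1⟩
    exact ⟨BRel.H_le_B _ _ (R.N_conj_H _ hn.1 _ htH), (n * t * n⁻¹).2⟩
  · rintro s hs
    rw [Set.mem_singleton_iff] at hs
    subst hs
    exact Subgroup.mem_subgroupOf.mpr ⟨hsN, hsG⟩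
  · rintro s hs
    rw [Set.mem_singleton_iff] at hs
    subst hs
    exact Subgroup.mem_subgroupOf.mpr ⟨BRel.H_le_B _ _ hss, mul_mem hsG hsG⟩
  · rintro s hs s' hs' -
    rw [Set.mem_singleton_iff] at hs hs'
    rw [hs, hs']
  · apply le_antisymm
    · refine sup_le ?_ inf_le_right
      rw [Subgroup.closure_le]
      rintro s hs
      rw [Set.mem_singleton_iff] at hs
      subst hs
      exact Subgroup.mem_subgroupOf.mpr ⟨hsN, hsG⟩
    · rintro ⟨n, hnG⟩ hn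
      rw [Subgroup.mem_subgroupOf] at hn
      have hn' := Subgroup.mem_inf.mp hn
      by_cases hnH : n ∈ chevG2.diagonalSubgroup K
      · refine Subgroup.mem_sup_right (Subgroup.mem_inf.mpr ⟨?_, ?_⟩)
        · exact Subgroup.mem_subgroupOf.mpr ⟨BRel.H_le_B _ _ hnH, hnG⟩
        · exact Subgroup.mem_subgroupOf.mpr hn
      · have hk : (reeN0 hX)⁻¹ * n ∈ chevG2.diagonalSubgroup K :=
          ree_N_mul hK hσ (inv_mem hsN) (inv_mem hsG)
            (fun hc => hsH (by simpa using inv_mem hc)) hn'.1 hnG hnH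
        have e : (⟨n, hnG⟩ : ↥(twistedG2 K (3 ^ m))) =
            ⟨reeN0 hX, hsG⟩ * ⟨(reeN0 hX)⁻¹ * n, mul_mem (inv_mem hsG) hnG⟩ := by
          apply Subtype.ext
          show n = reeN0 hX * ((reeN0 hX)⁻¹ * n)
          group
        rw [e]
        refine mul_mem (Subgroup.mem_sup_left (Subgroup.subset_closure rfl))
          (Subgroup.mem_sup_right (Subgroup.mem_inf.mpr ⟨?_, ?_⟩))
        · exact Subgroup.mem_subgroupOf.mpr (Subgroup.mem_inf.mpr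
            ⟨BRel.H_le_B _ _ hk, mul_mem (inv_mem hsG) hnG⟩)
        · exact Subgroup.mem_subgroupOf.mpr (Subgroup.mem_inf.mpr
            ⟨diagonal_le_monomial _ _ hk, mul_mem (inv_mem hsG) hnG⟩)
  · rintro s hs ⟨n, hnG⟩ hn ⟨b, hbG⟩ hb
    rw [Set.mem_singleton_iff] at hs
    subst hs
    rw [Subgroup.mem_subgroupOf, Subgroup.mem_inf] at hn hb
    rcases ree_bn_mul hK hσ hX hb.1 hbG hn.1 hnG with ⟨x, hx, y, hy, e⟩ | ⟨x, hx, y, hy, e⟩
    · left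
      rw [DoubleCoset.mem_doubleCoset]
      exact ⟨⟨x, (Subgroup.mem_inf.mp hx).2⟩, Subgroup.mem_subgroupOf.mpr hx,
        ⟨y, (Subgroup.mem_inf.mp hy).2⟩, Subgroup.mem_subgroupOf.mpr hy, Subtype.ext e⟩
    · right
      rw [DoubleCoset.mem_doubleCoset]
      exact ⟨⟨x, (Subgroup.mem_inf.mp hx).2⟩, Subgroup.mem_subgroupOf.mpr hx,
        ⟨y, (Subgroup.mem_inf.mp hy).2⟩, Subgroup.mem_subgroupOf.mpr hy, Subtype.ext e⟩
  · rintro s hs
    rw [Set.mem_singleton_iff] at hs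
    subst hs
    intro heq
    have hu : (⟨wordGL hX (reeWordU (3 ^ m) 0 1 0), reeU_mem_G1 hX _ _ _⟩ :
        ↥(twistedG2 K (3 ^ m))) ∈
        ((chevG2.borelSubgroup K ⊓ twistedG2 K (3 ^ m)).subgroupOf (twistedG2 K (3 ^ m)) :
          Set ↥(twistedG2 K (3 ^ m))) :=
      Subgroup.mem_subgroupOf.mpr ⟨BRel.U_le_B _ _ (reeU_mem_U hX _ _ _), reeU_mem_G1 hX _ _ _⟩
    have h2 := Set.mem_image_of_mem (fun b : ↥(twistedG2 K (3 ^ m)) =>
      (⟨reeN0 hX, hsG⟩ : ↥(twistedG2 K (3 ^ m))) * b * ⟨reeN0 hX, hsG⟩) hu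
    rw [heq] at h2
    exact ree_bn_conj_ne hK hσ hX (Subgroup.mem_subgroupOf.mp h2).1

end ree14

end Cfsg.Agent.Helper36
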