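import Cfsg.Agent.Helper36.Ree14

/-!
# The order of the Ree group (helper36)
-/

set_option autoImplicit false

namespace Cfsg.Agent.Helper36

open Cfsg Cfsg.Lie

section ree15

variable {K : Type*} [Field K] [CharP K 3] [Fintype K] {m : ℕ}
  {σ : ↥(chevG2.group K) →* ↥(chevG2.group K)}

theorem ree_U_le_unGens (hK : Fintype.card K = 3 ^ (2 * m + 1)) (hσ : ReeSig m σ)
    (hX : XAdd chevG2 K) :
    chevG2.posUnipotent K ≤ Subgroup.closure (unGens chevG2 K (reeN0 hX)) := by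
  have hs0 := reeN0_mul_g2N0 hK hσ hX
  unfold ChevalleyDatum.posUnipotent
  apply Subgroup.closure_mono
  rintro g ⟨r, t, hr, hg⟩
  refine ⟨r, t, hr, ?_, hg⟩
  rintro _ ⟨y, hy, rfl⟩
  obtain ⟨t', rfl⟩ := (mem_rootSubgroup_iff hX r y).mp hy
  exact ree_n_conj_U hs0 _ (xGL_mem_posUnipotent hX hr t')

omit [CharP K 3] [Fintype K] in
theorem g2_UH_unique {u u' h h' : GL chevG2.Idx K} (hu : u ∈ chevG2.posUnipotent K)
    (hu' : u' ∈ chevG2.posUnipotent K) (hh : h ∈ chevG2.diagonalSubgroup K)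
    (hh' : h' ∈ chevG2.diagonalSubgroup K) (e : u * h = u' * h') : u = u' ∧ h = h' := by
  have R := bRel_of_mem (F := K) g2_mem
  have h1 : u'⁻¹ * u ∈ chevG2.posUnipotent K ⊓ chevG2.diagonalSubgroup K := by
    refine Subgroup.mem_inf.mpr ⟨mul_mem (inv_mem hu') hu, ?_⟩
    have e2 : u'⁻¹ * u = h' * h⁻¹ := by
      have : u'⁻¹ * u = u'⁻¹ * (u * h) * h⁻¹ := by group
      rw [this, e]; group
    rw [e2]
    exact mul_mem hh' (inv_mem hh)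
  rw [R.uh, Subgroup.mem_bot] at h1
  have hu1 : u = u' := by
    have : u = u' * (u'⁻¹ * u) := by group
    rw [this, h1, mul_one]
  subst hu1
  exact ⟨rfl, mul_left_cancel e⟩

/-- The Bruhat parametrisation of `²G₂(q)`. -/
noncomputable def reeOrdMap (hX : XAdd chevG2 K) (m : ℕ) :
    (↥(chevG2.posUnipotent K ⊓ twistedG2 K (3 ^ m)) ×
      ↥(chevG2.diagonalSubgroup K ⊓ twistedG2 K (3 ^ m))) ⊕
    (↥(chevG2.posUnipotent K ⊓ twistedG2 K (3 ^ m)) ×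
      ↥(chevG2.diagonalSubgroup K ⊓ twistedG2 K (3 ^ m)) ×
      ↥(chevG2.posUnipotent K ⊓ twistedG2 K (3 ^ m))) → ↥(twistedG2 K (3 ^ m))
  | Sum.inl p => ⟨(p.1 : GL chevG2.Idx K) * (p.2 : GL chevG2.Idx K),
      mul_mem (Subgroup.mem_inf.mp p.1.2).2 (Subgroup.mem_inf.mp p.2.2).2⟩
  | Sum.inr p => ⟨(p.1 : GL chevG2.Idx K) * (p.2.1 : GL chevG2.Idx K) * reeN0 hX *
      (p.2.2 : GL chevG2.Idx K),
      mul_mem (mul_mem (mul_mem (Subgroup.mem_inf.mp p.1.2).2 (Subgroup.mem_inf.mp p.2.1.2).2)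
        (reeN0_mem_G1 hX m)) (Subgroup.mem_inf.mp p.2.2.2).2⟩

theorem reeOrdMap_bij (hK : Fintype.card K = 3 ^ (2 * m + 1)) (hσ : ReeSig m σ)
    (hX : XAdd chevG2 K) : Function.Bijective (reeOrdMap hX m) := by
  have R := bRel_of_mem (F := K) g2_mem
  have hsG := reeN0_mem_G1 hX m
  have hsN := reeN0_mem_N hX
  have hsH := reeN0_not_mem_H hX
  have hsB := reeN0_not_mem_B hX
  constructor
  · rintro (⟨⟨u, hu⟩, ⟨h, hh⟩⟩ | ⟨⟨u, hu⟩, ⟨h, hh⟩, ⟨u₂, hu₂⟩⟩)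
      (⟨⟨u', hu'⟩, ⟨h', hh'⟩⟩ | ⟨⟨u', hu'⟩, ⟨h', hh'⟩, ⟨u₂', hu₂'⟩⟩) e
    · have e' : u * h = u' * h' := congrArg Subtype.val e
      obtain ⟨rfl, rfl⟩ := g2_UH_unique (Subgroup.mem_inf.mp hu).1 (Subgroup.mem_inf.mp hu').1
        (Subgroup.mem_inf.mp hh).1 (Subgroup.mem_inf.mp hh').1 e'
      rfl
    · exfalso
      have e' : u * h = u' * h' * reeN0 hX * u₂' := congrArg Subtype.val e
      apply hsB
      have e2 : reeN0 hX = (u' * h')⁻¹ * (u * h) * u₂'⁻¹ := by rw [e']; group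
      rw [e2]
      exact mul_mem (mul_mem (inv_mem (mul_mem (BRel.U_le_B _ _ (Subgroup.mem_inf.mp hu').1)
        (BRel.H_le_B _ _ (Subgroup.mem_inf.mp hh').1)))
        (mul_mem (BRel.U_le_B _ _ (Subgroup.mem_inf.mp hu).1)
        (BRel.H_le_B _ _ (Subgroup.mem_inf.mp hh).1)))
        (inv_mem (BRel.U_le_B _ _ (Subgroup.mem_inf.mp hu₂').1))
    · exfalso
      have e' : u * h * reeN0 hX * u₂ = u' * h' := congrArg Subtype.val e
      apply hsB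
      have e2 : reeN0 hX = (u * h)⁻¹ * (u' * h') * u₂⁻¹ := by rw [← e']; group
      rw [e2]
      exact mul_mem (mul_mem (inv_mem (mul_mem (BRel.U_le_B _ _ (Subgroup.mem_inf.mp hu).1)
        (BRel.H_le_B _ _ (Subgroup.mem_inf.mp hh).1)))
        (mul_mem (BRel.U_le_B _ _ (Subgroup.mem_inf.mp hu').1)
        (BRel.H_le_B _ _ (Subgroup.mem_inf.mp hh').1)))
        (inv_mem (BRel.U_le_B _ _ (Subgroup.mem_inf.mp hu₂).1))
    · have e' : u * h * reeN0 hX * u₂ = u' * h' * reeN0 hX * u₂' := congrArg Subtype.val e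
      have hle := ree_U_le_unGens hK hσ hX
      obtain ⟨-, h2⟩ := R.normal_form_unique
        (mul_mem (BRel.U_le_B _ _ (Subgroup.mem_inf.mp hu).1)
          (BRel.H_le_B _ _ (Subgroup.mem_inf.mp hh).1))
        (mul_mem (BRel.U_le_B _ _ (Subgroup.mem_inf.mp hu').1)
          (BRel.H_le_B _ _ (Subgroup.mem_inf.mp hh').1)) hsN hsN
        (hle (Subgroup.mem_inf.mp hu₂).1) (hle (Subgroup.mem_inf.mp hu₂').1) e'
      obtain ⟨h3, rfl⟩ := h2 rfl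
      obtain ⟨rfl, rfl⟩ := g2_UH_unique (Subgroup.mem_inf.mp hu).1 (Subgroup.mem_inf.mp hu').1
        (Subgroup.mem_inf.mp hh).1 (Subgroup.mem_inf.mp hh').1 h3
      rfl
  · rintro ⟨g, hg⟩
    obtain ⟨u₁, hu₁, n, hn, u₂, hu₂, rfl⟩ := ree_bruhat hK hσ hg
    have hu₁' := Subgroup.mem_inf.mp hu₁
    have hu₂' := Subgroup.mem_inf.mp hu₂
    have hn' := Subgroup.mem_inf.mp hn
    by_cases hnH : n ∈ chevG2.diagonalSubgroup K
    · have hc : n * u₂ * n⁻¹ ∈ chevG2.posUnipotent K :=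
        (Subgroup.mem_normalizer_iff.mp (R.hU hnH) _).mp hu₂'.1
      refine ⟨Sum.inl (⟨u₁ * (n * u₂ * n⁻¹), Subgroup.mem_inf.mpr ⟨mul_mem hu₁'.1 hc,
        mul_mem hu₁'.2 (mul_mem (mul_mem hn'.2 hu₂'.2) (inv_mem hn'.2))⟩⟩,
        ⟨n, Subgroup.mem_inf.mpr ⟨hnH, hn'.2⟩⟩), ?_⟩
      apply Subtype.ext
      show u₁ * (n * u₂ * n⁻¹) * n = u₁ * n * u₂
      group
    · have hk : n * (reeN0 hX)⁻¹ ∈ chevG2.diagonalSubgroup K :=
        ree_N_mul hK hσ hn'.1 hn'.2 hnH (inv_mem hsN) (inv_mem hsG)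
          (fun hc => hsH (by simpa using inv_mem hc))
      refine ⟨Sum.inr (⟨u₁, hu₁⟩, ⟨n * (reeN0 hX)⁻¹, Subgroup.mem_inf.mpr ⟨hk,
        mul_mem hn'.2 (inv_mem hsG)⟩⟩, ⟨u₂, hu₂⟩), ?_⟩
      apply Subtype.ext
      show u₁ * (n * (reeN0 hX)⁻¹) * reeN0 hX * u₂ = u₁ * n * u₂
      group

/-- `|²G₂(q)| = q³ (q - 1) (q³ + 1)`. -/
theorem ree_card (hK : Fintype.card K = 3 ^ (2 * m + 1)) (hσ : ReeSig m σ) :
    Nat.card ↥(twistedG2 K (3 ^ m)) =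
      (3 ^ (2 * m + 1)) ^ 3 * (3 ^ (2 * m + 1) - 1) * ((3 ^ (2 * m + 1)) ^ 3 + 1) := by
  have hX := xAdd_of_mem (F := K) g2_mem
  rw [← Nat.card_congr (Equiv.ofBijective _ (reeOrdMap_bij hK hσ hX)), Nat.card_sum,
    Nat.card_prod, Nat.card_prod, Nat.card_prod, ree_U_card hK hσ, ree_H_card hK hσ]
  generalize 3 ^ (2 * m + 1) = q
  ring

end ree15

end Cfsg.Agent.Helper36
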