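import Cfsg.Agent.Helper36.Ree15

/-!
# The structure of `U` for `G₂` in characteristic 3 and the torus action (helper36)
-/

set_option autoImplicit false

namespace Cfsg.Agent.Helper36

open Cfsg Cfsg.Lie

section ree16

variable {K : Type*} [Field K]

theorem g2_comm_nil (hX : XAdd chevG2 K) {r s : ℕ} (hr : r < chevG2.nroots)
    (hs : s < chevG2.nroots) (h1 : s ≠ r) (h2 : s ≠ chevG2.neg r)
    (hc : chevG2.commTerms r s = []) (t u : K) : Commute (xGL hX r t) (xGL hX s u) := by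
  have R := bRel_of_mem (F := K) g2_mem
  have h := cf_xGL hX (R.cf r hr s hs h1 h2) t u
  simp only [ChevalleyDatum.commWord, hc, List.map_nil, wordGL_nil, mul_one] at h
  exact h.symm

variable [CharP K 3]

theorem g2_comm_7_9 (hX : XAdd chevG2 K) (t u : K) : Commute (xGL hX 7 t) (xGL hX 9 u) := by
  have R := bRel_of_mem (F := K) g2_mem
  have h3 := three_eq_zero' (K := K)
  have hc : chevG2.commTerms 7 9 = [(10, 3, 1, 1)] := by decide
  have h := cf_xGL hX (R.cf 7 (by decide) 9 (by decide) (by decide) (by decide)) t u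
  simp only [ChevalleyDatum.commWord, hc, List.map_cons, List.map_nil, wordGL_cons, wordGL_nil,
    mul_one] at h
  have e : ((3 : ℤ) : K) * (-t) ^ 1 * u ^ 1 = 0 := by push_cast; rw [h3]; ring
  rw [e, xGL_zero, mul_one] at h
  exact h.symm

theorem g2_swap_7_8 (hX : XAdd chevG2 K) (t u : K) :
    xGL hX 8 u * xGL hX 7 t = xGL hX 7 t * xGL hX 8 u * xGL hX 9 (2 * t * u) := by
  have R := bRel_of_mem (F := K) g2_mem
  have h3 := three_eq_zero' (K := K)
  have hc : chevG2.commTerms 7 8 = [(9, -2, 1, 1), (10, -3, 2, 1), (11, 3, 1, 2)] := by decide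
  rw [cf_xGL hX (R.cf 7 (by decide) 8 (by decide) (by decide) (by decide)) t u]
  simp only [ChevalleyDatum.commWord, hc, List.map_cons, List.map_nil, wordGL_cons, wordGL_nil,
    mul_one]
  have e10 : ((-3 : ℤ) : K) * (-t) ^ 2 * u ^ 1 = 0 := by push_cast; rw [h3]; ring
  have e11 : ((3 : ℤ) : K) * (-t) ^ 1 * u ^ 2 = 0 := by push_cast; rw [h3]; ring
  have e9 : ((-2 : ℤ) : K) * (-t) ^ 1 * u ^ 1 = 2 * t * u := by push_cast; ring
  rw [e10, e11, e9, xGL_zero, xGL_zero, mul_one, mul_one]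

omit [CharP K 3] in
theorem g2_swap_6_10 (hX : XAdd chevG2 K) (t u : K) :
    xGL hX 10 u * xGL hX 6 t = xGL hX 6 t * xGL hX 10 u * xGL hX 11 (-(t * u)) := by
  have R := bRel_of_mem (F := K) g2_mem
  have hc : chevG2.commTerms 6 10 = [(11, 1, 1, 1)] := by decide
  rw [cf_xGL hX (R.cf 6 (by decide) 10 (by decide) (by decide) (by decide)) t u]
  simp only [ChevalleyDatum.commWord, hc, List.map_cons, List.map_nil, wordGL_cons, wordGL_nil,
    mul_one]
  have e11 : ((1 : ℤ) : K) * (-t) ^ 1 * u ^ 1 = -(t * u) := by push_cast; ring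
  rw [e11]

/-- `W = X₈X₉X₁₀X₁₁` is normalised by `X₇`. -/
theorem g2_w4_x7 (hX : XAdd chevG2 K) (C Dd E F A : K) :
    w4 hX 8 9 10 11 C Dd E F * xGL hX 7 A = xGL hX 7 A * w4 hX 8 9 10 11 C (2 * A * C + Dd) E F := by
  have c11 : Commute (xGL hX 7 A) (xGL hX 11 F) :=
    g2_comm_nil hX (by decide) (by decide) (by decide) (by decide) (by decide) _ _
  have c10 : Commute (xGL hX 7 A) (xGL hX 10 E) :=
    g2_comm_nil hX (by decide) (by decide) (by decide) (by decide) (by decide) _ _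
  have c9 : Commute (xGL hX 7 A) (xGL hX 9 Dd) := g2_comm_7_9 hX _ _
  unfold w4
  calc xGL hX 8 C * xGL hX 9 Dd * xGL hX 10 E * xGL hX 11 F * xGL hX 7 A
      = xGL hX 8 C * xGL hX 9 Dd * xGL hX 10 E * (xGL hX 7 A * xGL hX 11 F) := by
        rw [c11.eq]; simp only [mul_assoc]
    _ = xGL hX 8 C * xGL hX 9 Dd * (xGL hX 7 A * xGL hX 10 E) * xGL hX 11 F := by
        rw [c10.eq]; simp only [mul_assoc]
    _ = xGL hX 8 C * (xGL hX 7 A * xGL hX 9 Dd) * xGL hX 10 E * xGL hX 11 F := by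
        rw [c9.eq]; simp only [mul_assoc]
    _ = (xGL hX 8 C * xGL hX 7 A) * xGL hX 9 Dd * xGL hX 10 E * xGL hX 11 F := by
        simp only [mul_assoc]
    _ = xGL hX 7 A * xGL hX 8 C * (xGL hX 9 (2 * A * C) * xGL hX 9 Dd) * xGL hX 10 E *
          xGL hX 11 F := by
        rw [g2_swap_7_8]; simp only [mul_assoc]
    _ = xGL hX 7 A * (xGL hX 8 C * xGL hX 9 (2 * A * C + Dd) * xGL hX 10 E * xGL hX 11 F) := by
        rw [xGL_mul]; simp only [mul_assoc]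

/-- `W = X₈X₉X₁₀X₁₁` is normalised by `X₆`. -/
theorem g2_w4_x6 (hX : XAdd chevG2 K) (C Dd E F B : K) :
    w4 hX 8 9 10 11 C Dd E F * xGL hX 6 B = xGL hX 6 B * w4 hX 8 9 10 11 C Dd E (-(B * E) + F) := by
  have c11 : Commute (xGL hX 6 B) (xGL hX 11 F) :=
    g2_comm_nil hX (by decide) (by decide) (by decide) (by decide) (by decide) _ _
  have c9 : Commute (xGL hX 6 B) (xGL hX 9 Dd) :=
    g2_comm_nil hX (by decide) (by decide) (by decide) (by decide) (by decide) _ _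
  have c8 : Commute (xGL hX 6 B) (xGL hX 8 C) :=
    g2_comm_nil hX (by decide) (by decide) (by decide) (by decide) (by decide) _ _
  unfold w4
  calc xGL hX 8 C * xGL hX 9 Dd * xGL hX 10 E * xGL hX 11 F * xGL hX 6 B
      = xGL hX 8 C * xGL hX 9 Dd * (xGL hX 10 E * xGL hX 6 B) * xGL hX 11 F := by
        simp only [mul_assoc]; rw [c11.eq]
    _ = xGL hX 8 C * (xGL hX 6 B * xGL hX 9 Dd) * xGL hX 10 E *
          (xGL hX 11 (-(B * E)) * xGL hX 11 F) := by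
        rw [g2_swap_6_10, c9.eq]; simp only [mul_assoc]
    _ = xGL hX 6 B * (xGL hX 8 C * xGL hX 9 Dd * xGL hX 10 E * xGL hX 11 (-(B * E) + F)) := by
        rw [xGL_mul, ← mul_assoc (xGL hX 8 C), ← c8.eq]; simp only [mul_assoc]

/-- The product of two elements of `U` in normal form: the coefficients at the simple roots
add. -/
theorem g2_U_mul (hX : XAdd chevG2 K) (A B C Dd E F A' B' C' D' E' F' : K) :
    (xGL hX 7 A * xGL hX 6 B * w4 hX 8 9 10 11 C Dd E F) *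
        (xGL hX 7 A' * xGL hX 6 B' * w4 hX 8 9 10 11 C' D' E' F') =
      xGL hX 7 (A + A') * xGL hX 6 (B + B') *
        w4 hX 8 9 10 11 (1 * A' * B + C + C') (A' ^ 2 * B + (2 * A' * C + Dd) + D')
          (-1 * A' ^ 3 * B + E + E')
          (-(B' * (-1 * A' ^ 3 * B + E)) + (-(A' ^ 3 * B ^ 2) + F) + F') := by
  have S := six_pos hX
  have h1 := g2_w4_x7 hX C Dd E F A'
  have h2 := S.main A' B C (2 * A' * C + Dd) E F
  have h3 := g2_w4_x6 hX (1 * A' * B + C) (A' ^ 2 * B + (2 * A' * C + Dd))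
    (-1 * A' ^ 3 * B + E) (-(A' ^ 3 * B ^ 2) + F) B'
  have h4 := S.w4_mul (1 * A' * B + C) (A' ^ 2 * B + (2 * A' * C + Dd))
    (-1 * A' ^ 3 * B + E) (-(B' * (-1 * A' ^ 3 * B + E)) + (-(A' ^ 3 * B ^ 2) + F)) C' D' E' F'
  calc (xGL hX 7 A * xGL hX 6 B * w4 hX 8 9 10 11 C Dd E F) *
        (xGL hX 7 A' * xGL hX 6 B' * w4 hX 8 9 10 11 C' D' E' F')
      = xGL hX 7 A * xGL hX 6 B * (w4 hX 8 9 10 11 C Dd E F * xGL hX 7 A') * xGL hX 6 B' *
          w4 hX 8 9 10 11 C' D' E' F' := by simp only [mul_assoc]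
    _ = xGL hX 7 A * (xGL hX 6 B * xGL hX 7 A' * w4 hX 8 9 10 11 C (2 * A' * C + Dd) E F) *
          xGL hX 6 B' * w4 hX 8 9 10 11 C' D' E' F' := by
        rw [h1]; simp only [mul_assoc]
    _ = xGL hX 7 A * xGL hX 7 A' * xGL hX 6 B *
          (w4 hX 8 9 10 11 (1 * A' * B + C) (A' ^ 2 * B + (2 * A' * C + Dd))
            (-1 * A' ^ 3 * B + E) (-(A' ^ 3 * B ^ 2) + F) * xGL hX 6 B') *
          w4 hX 8 9 10 11 C' D' E' F' := by
        rw [h2]; simp only [mul_assoc]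
    _ = xGL hX 7 (A + A') * (xGL hX 6 B * xGL hX 6 B') *
          (w4 hX 8 9 10 11 (1 * A' * B + C) (A' ^ 2 * B + (2 * A' * C + Dd))
            (-1 * A' ^ 3 * B + E) (-(B' * (-1 * A' ^ 3 * B + E)) + (-(A' ^ 3 * B ^ 2) + F)) *
          w4 hX 8 9 10 11 C' D' E' F') := by
        rw [h3, xGL_mul]; simp only [mul_assoc]
    _ = _ := by rw [xGL_mul, h4]

omit [CharP K 3] in
theorem g2_hh_conj_x (hX : XAdd chevG2 K) {a z : K} (ha : a ≠ 0) (hz : z ≠ 0) {s : ℕ}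
    (hs : s < 12) (t : K) :
    (hGL hX 7 a * hGL hX 6 z) * xGL hX s t * (hGL hX 7 a * hGL hX 6 z)⁻¹ =
      xGL hX s (a ^ chevG2.pairing 7 s * (z ^ chevG2.pairing 6 s * t)) := by
  have e : (hGL hX 7 a * hGL hX 6 z) * xGL hX s t * (hGL hX 7 a * hGL hX 6 z)⁻¹ =
      hGL hX 7 a * (hGL hX 6 z * xGL hX s t * (hGL hX 6 z)⁻¹) * (hGL hX 7 a)⁻¹ := by group
  rw [e, g2_hGL_conj_x hX (by decide) hs hz, g2_hGL_conj_x hX (by decide) hs ha]

omit [CharP K 3] in
/-- The action of `h_a(a) h_b(z)` on `U`. -/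
theorem g2_hh_conj_U (hX : XAdd chevG2 K) {a z : K} (ha : a ≠ 0) (hz : z ≠ 0)
    (A B C Dd E F : K) :
    (hGL hX 7 a * hGL hX 6 z) * (xGL hX 7 A * xGL hX 6 B * w4 hX 8 9 10 11 C Dd E F) *
        (hGL hX 7 a * hGL hX 6 z)⁻¹ =
      xGL hX 7 (a ^ (2 : ℤ) * (z ^ (-1 : ℤ) * A)) * xGL hX 6 (a ^ (-3 : ℤ) * (z ^ (2 : ℤ) * B)) *
        w4 hX 8 9 10 11 (a ^ (-1 : ℤ) * (z ^ (1 : ℤ) * C)) (a ^ (1 : ℤ) * (z ^ (0 : ℤ) * Dd))
          (a ^ (3 : ℤ) * (z ^ (-1 : ℤ) * E)) (a ^ (0 : ℤ) * (z ^ (1 : ℤ) * F)) := by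
  have e : (hGL hX 7 a * hGL hX 6 z) * (xGL hX 7 A * xGL hX 6 B * w4 hX 8 9 10 11 C Dd E F) *
        (hGL hX 7 a * hGL hX 6 z)⁻¹ =
      ((hGL hX 7 a * hGL hX 6 z) * xGL hX 7 A * (hGL hX 7 a * hGL hX 6 z)⁻¹) *
      ((hGL hX 7 a * hGL hX 6 z) * xGL hX 6 B * (hGL hX 7 a * hGL hX 6 z)⁻¹) *
      (((hGL hX 7 a * hGL hX 6 z) * xGL hX 8 C * (hGL hX 7 a * hGL hX 6 z)⁻¹) *
       ((hGL hX 7 a * hGL hX 6 z) * xGL hX 9 Dd * (hGL hX 7 a * hGL hX 6 z)⁻¹) *
       ((hGL hX 7 a * hGL hX 6 z) * xGL hX 10 E * (hGL hX 7 a * hGL hX 6 z)⁻¹) *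
       ((hGL hX 7 a * hGL hX 6 z) * xGL hX 11 F * (hGL hX 7 a * hGL hX 6 z)⁻¹)) := by
    unfold w4; group
  rw [e, g2_hh_conj_x hX ha hz (by decide), g2_hh_conj_x hX ha hz (by decide),
    g2_hh_conj_x hX ha hz (by decide), g2_hh_conj_x hX ha hz (by decide),
    g2_hh_conj_x hX ha hz (by decide), g2_hh_conj_x hX ha hz (by decide)]
  have p77 : chevG2.pairing 7 7 = 2 := by decide
  have p67 : chevG2.pairing 6 7 = -1 := by decide
  have p76 : chevG2.pairing 7 6 = -3 := by decide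
  have p66 : chevG2.pairing 6 6 = 2 := by decide
  have p78 : chevG2.pairing 7 8 = -1 := by decide
  have p68 : chevG2.pairing 6 8 = 1 := by decide
  have p79 : chevG2.pairing 7 9 = 1 := by decide
  have p69 : chevG2.pairing 6 9 = 0 := by decide
  have p710 : chevG2.pairing 7 10 = 3 := by decide
  have p610 : chevG2.pairing 6 10 = -1 := by decide
  have p711 : chevG2.pairing 7 11 = 0 := by decide
  have p611 : chevG2.pairing 6 11 = 1 := by decide
  rw [p77, p67, p76, p66, p78, p68, p79, p69, p710, p610, p711, p611]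
  rfl

end ree16

end Cfsg.Agent.Helper36
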