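import Cfsg.Agent.Helper36.Ree16

/-!
# The Ree groups `²G₂(3^(2m+1))`, `m ≥ 1`, are perfect (helper36)
-/

set_option autoImplicit false

namespace Cfsg.Agent.Helper36

open Cfsg Cfsg.Lie

section ree17

variable {K : Type*} [Field K] [CharP K 3]

theorem reeV_mem_V (hX : XAdd chevG2 K) (m : ℕ) (t u v : K) :
    wordGL hX (reeWordV (3 ^ m) t u v) ∈ chevG2.negUnipotent K := by
  rw [wordGL_reeV]
  unfold w4
  exact mul_mem (mul_mem (xGL_mem_negUnipotent hX (by decide) _)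
    (xGL_mem_negUnipotent hX (by decide) _)) (mul_mem (mul_mem (mul_mem
    (xGL_mem_negUnipotent hX (by decide) _) (xGL_mem_negUnipotent hX (by decide) _))
    (xGL_mem_negUnipotent hX (by decide) _)) (xGL_mem_negUnipotent hX (by decide) _))

theorem reeU_mul0 (hX : XAdd chevG2 K) (m : ℕ) (t u v u' v' : K) :
    wordGL hX (reeWordU (3 ^ m) t u v) * wordGL hX (reeWordU (3 ^ m) 0 u' v') =
      wordGL hX (reeWordU (3 ^ m) t (u + u') (v + v')) := by
  rw [wordGL_reeU, wordGL_reeU, wordGL_reeU]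
  simp only [map_zero, xGL_zero, one_mul, zero_mul, zero_add, mul_zero, map_add]
  rw [mul_assoc, (six_pos hX).w4_mul]
  congr 2 <;> ring

/-- The derived subgroup of `G¹`, as a subgroup of the ambient group. -/
noncomputable def reeDer (K : Type*) [Field K] (m : ℕ) : Subgroup (GL chevG2.Idx K) :=
  (commutator ↥(twistedG2 K (3 ^ m))).map (twistedG2 K (3 ^ m)).subtype

omit [CharP K 3] in
theorem reeDer_comm {m : ℕ} {a b : GL chevG2.Idx K} (ha : a ∈ twistedG2 K (3 ^ m))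
    (hb : b ∈ twistedG2 K (3 ^ m)) : a * b * a⁻¹ * b⁻¹ ∈ reeDer K m := by
  have h := Subgroup.commutator_mem_commutator
    (Subgroup.mem_top (⟨a, ha⟩ : ↥(twistedG2 K (3 ^ m))))
    (Subgroup.mem_top (⟨b, hb⟩ : ↥(twistedG2 K (3 ^ m))))
  rw [commutatorElement_def, ← commutator_def] at h
  unfold reeDer
  rw [Subgroup.mem_map]
  refine ⟨_, h, ?_⟩
  simp only [Subgroup.subtype_apply, Subgroup.coe_mul, Subgroup.coe_inv]

omit [CharP K 3] in
theorem reeDer_conj {m : ℕ} {g d : GL chevG2.Idx K} (hg : g ∈ twistedG2 K (3 ^ m))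
    (hd : d ∈ reeDer K m) : g * d * g⁻¹ ∈ reeDer K m := by
  unfold reeDer at hd ⊢
  rw [Subgroup.mem_map] at hd ⊢
  obtain ⟨d₀, hd₀, rfl⟩ := hd
  have hN : (commutator ↥(twistedG2 K (3 ^ m))).Normal := inferInstance
  refine ⟨(⟨g, hg⟩ : ↥(twistedG2 K (3 ^ m))) * d₀ * (⟨g, hg⟩ : ↥(twistedG2 K (3 ^ m)))⁻¹,
    hN.conj_mem _ hd₀ _, ?_⟩
  simp only [Subgroup.subtype_apply, Subgroup.coe_mul, Subgroup.coe_inv]

variable [Fintype K] {m : ℕ} {σ : ↥(chevG2.group K) →* ↥(chevG2.group K)}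

omit [CharP K 3] in
theorem ree_exists_z (hK : Fintype.card K = 3 ^ (2 * m + 1)) (hm : 1 ≤ m) :
    ∃ z : K, z ≠ 0 ∧ z ^ 3 ≠ z := by
  classical
  by_contra hcon
  push Not at hcon
  have hsub : (Finset.univ : Finset K) ⊆ {0, 1, -1} := by
    intro z _
    by_cases hz : z = 0
    · simp [hz]
    · have h3 := hcon z hz
      have : z * (z - 1) * (z + 1) = 0 := by linear_combination h3
      rcases mul_eq_zero.mp this with h | h
      · rcases mul_eq_zero.mp h with h | h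
        · exact absurd h hz
        · simp [sub_eq_zero.mp h]
      · simp [eq_neg_of_add_eq_zero_left h]
  have hc := Finset.card_le_card hsub
  rw [Finset.card_univ, hK] at hc
  have h3 : ({0, 1, -1} : Finset K).card ≤ 3 := Finset.card_le_three
  have : 3 ^ 3 ≤ 3 ^ (2 * m + 1) := Nat.pow_le_pow_right (by norm_num) (by omega)
  omega

/-- Conjugation by `h(z) = h_a(z^θ) h_b(z)` on the elements of `U¹`. -/
theorem ree_h_conj (hK : Fintype.card K = 3 ^ (2 * m + 1)) (hσ : ReeSig m σ) (hX : XAdd chevG2 K)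
    {z a : K} (hz : z ≠ 0) (ha : a = frT K m z) (t u v : K) :
    (hGL hX 7 a * hGL hX 6 z) * wordGL hX (reeWordU (3 ^ m) t u v) *
        (hGL hX 7 a * hGL hX 6 z)⁻¹ =
      wordGL hX (reeWordU (3 ^ m) ((a ^ 3)⁻¹ * z ^ 2 * t) (a ^ 3 * z⁻¹ * u) (z * v)) := by
  have R := bRel_of_mem (F := K) g2_mem
  have ha0 : a ≠ 0 := by rw [ha]; exact (map_ne_zero _).mpr hz
  have hH : hGL hX 7 a * hGL hX 6 z ∈ chevG2.diagonalSubgroup K :=
    mul_mem (hGL_mem hX (by decide) ha0) (hGL_mem hX (by decide) hz)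
  have hG : hGL hX 7 a * hGL hX 6 z ∈ twistedG2 K (3 ^ m) := by
    rw [ha]; exact reeH_mem hK hX hz
  have hmem : (hGL hX 7 a * hGL hX 6 z) * wordGL hX (reeWordU (3 ^ m) t u v) *
      (hGL hX 7 a * hGL hX 6 z)⁻¹ ∈ chevG2.posUnipotent K ⊓ twistedG2 K (3 ^ m) :=
    Subgroup.mem_inf.mpr ⟨(Subgroup.mem_normalizer_iff.mp (R.hU hH) _).mp (reeU_mem_U hX _ _ _),
      mul_mem (mul_mem hG (reeU_mem_G1 hX _ _ _)) (inv_mem hG)⟩
  obtain ⟨t', u', v', e⟩ := (ree_U_iff hK hσ hX _).mp hmem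
  rw [e]
  rw [wordGL_reeU, g2_hh_conj_U hX ha0 hz, wordGL_reeU] at e
  obtain ⟨-, h2, -, -, h5, h6⟩ := g2_U_unique hX e
  rw [← h2, ← h5, ← h6]
  have e2 : a ^ (-3 : ℤ) * (z ^ (2 : ℤ) * t) = (a ^ 3)⁻¹ * z ^ 2 * t := by
    rw [zpow_neg, zpow_ofNat, zpow_ofNat, mul_assoc]
  have e5 : a ^ (3 : ℤ) * (z ^ (-1 : ℤ) * u) = a ^ 3 * z⁻¹ * u := by
    rw [zpow_ofNat, zpow_neg_one, mul_assoc]
  have e6 : a ^ (0 : ℤ) * (z ^ (1 : ℤ) * v) = z * v := by
    rw [zpow_zero, zpow_one, one_mul]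
  rw [e2, e5, e6]

/-- `²G₂(3^(2m+1))` is perfect for `m ≥ 1`. -/
theorem ree_perfect (hK : Fintype.card K = 3 ^ (2 * m + 1)) (hσ : ReeSig m σ) (hm : 1 ≤ m) :
    commutator ↥(twistedG2 K (3 ^ m)) = ⊤ := by
  have R := bRel_of_mem (F := K) g2_mem
  have hX := R.xadd
  obtain ⟨z, hz0, hz3⟩ := ree_exists_z hK hm
  obtain ⟨a, ha⟩ : ∃ a : K, a = frT K m z := ⟨_, rfl⟩
  have ha0 : a ≠ 0 := by rw [ha]; exact (map_ne_zero _).mpr hz0
  have ha3 : a ^ 3 = frL K m z := by rw [ha, frL_apply, frT_apply, ← pow_mul, ← pow_succ]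
  have hz1 : z - 1 ≠ 0 := by
    intro hc
    apply hz3
    rw [sub_eq_zero.mp hc, one_pow]
  have hγ : a ^ 3 * z⁻¹ - 1 ≠ 0 := by
    intro hc
    have hc' : a ^ 3 * z⁻¹ = 1 := sub_eq_zero.mp hc
    have h1 : a ^ 3 = z := by
      calc a ^ 3 = a ^ 3 * z⁻¹ * z := by field_simp
        _ = z := by rw [hc', one_mul]
    have h2 : a = z := by
      have := frT_frL hK z
      rw [← ha3, h1, ← ha] at this
      exact this
    apply hz3
    rw [← h2] at h1
    rw [← h2]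
    exact h1
  have hβ : (a ^ 3)⁻¹ * z ^ 2 - 1 ≠ 0 := by
    intro hc
    have hc' : (a ^ 3)⁻¹ * z ^ 2 = 1 := sub_eq_zero.mp hc
    have h1 : z ^ 2 = a ^ 3 := by
      calc z ^ 2 = a ^ 3 * ((a ^ 3)⁻¹ * z ^ 2) := by field_simp
        _ = a ^ 3 := by rw [hc', mul_one]
    have h2 : a ^ 2 = z := by
      have := frT_frL hK z
      rw [← ha3, ← h1, map_pow, ← ha] at this
      exact this
    have h3 : a = 1 := by
      have h4 : a ^ 3 * (a - 1) = 0 := by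
        rw [← h2] at h1
        linear_combination h1
      rcases mul_eq_zero.mp h4 with h | h
      · exact absurd (pow_eq_zero_iff (by norm_num) |>.mp h) ha0
      · exact sub_eq_zero.mp h
    apply hz1
    rw [← h2, h3]
    ring
  have hG : hGL hX 7 a * hGL hX 6 z ∈ twistedG2 K (3 ^ m) := by
    rw [ha]; exact reeH_mem hK hX hz0
  have hH : hGL hX 7 a * hGL hX 6 z ∈ chevG2.diagonalSubgroup K :=
    mul_mem (hGL_mem hX (by decide) ha0) (hGL_mem hX (by decide) hz0)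
  -- step 1: the elements `X(0, u, v)`
  have step1 : ∀ u v : K, wordGL hX (reeWordU (3 ^ m) 0 u v) ∈ reeDer K m := by
    intro u v
    have hc := reeDer_comm hG (reeU_mem_G1 (m := m) hX (0 : K) (u / (a ^ 3 * z⁻¹ - 1))
      (v / (z - 1)))
    rw [ree_h_conj hK hσ hX hz0 ha] at hc
    have e : wordGL hX (reeWordU (3 ^ m) ((a ^ 3)⁻¹ * z ^ 2 * 0)
        (a ^ 3 * z⁻¹ * (u / (a ^ 3 * z⁻¹ - 1))) (z * (v / (z - 1)))) =
        wordGL hX (reeWordU (3 ^ m) 0 u v) *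
          wordGL hX (reeWordU (3 ^ m) 0 (u / (a ^ 3 * z⁻¹ - 1)) (v / (z - 1))) := by
      rw [reeU_mul0]
      have e1 : (a ^ 3)⁻¹ * z ^ 2 * 0 = 0 := mul_zero _
      have e2 : a ^ 3 * z⁻¹ * (u / (a ^ 3 * z⁻¹ - 1)) = u + u / (a ^ 3 * z⁻¹ - 1) := by
        have : (a ^ 3 * z⁻¹ - 1) * (u / (a ^ 3 * z⁻¹ - 1)) = u := mul_div_cancel₀ _ hγ
        linear_combination this
      have e3 : z * (v / (z - 1)) = v + v / (z - 1) := by
        have : (z - 1) * (v / (z - 1)) = v := mul_div_cancel₀ _ hz1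
        linear_combination this
      rw [e1, e2, e3]
    rw [e, mul_inv_cancel_right] at hc
    exact hc
  -- step 2: some `X(t, u, v)` for every `t`
  have step2 : ∀ t : K, ∃ u v : K, wordGL hX (reeWordU (3 ^ m) t u v) ∈ reeDer K m := by
    intro t
    obtain ⟨s, hs⟩ : ∃ s : K, ((a ^ 3)⁻¹ * z ^ 2 - 1) * s = t :=
      ⟨t / ((a ^ 3)⁻¹ * z ^ 2 - 1), mul_div_cancel₀ _ hβ⟩
    have hc := reeDer_comm hG (reeU_mem_G1 (m := m) hX s 0 0)
    have hy : (hGL hX 7 a * hGL hX 6 z) * wordGL hX (reeWordU (3 ^ m) s 0 0) *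
        (hGL hX 7 a * hGL hX 6 z)⁻¹ * (wordGL hX (reeWordU (3 ^ m) s 0 0))⁻¹ ∈
        chevG2.posUnipotent K ⊓ twistedG2 K (3 ^ m) :=
      Subgroup.mem_inf.mpr ⟨mul_mem ((Subgroup.mem_normalizer_iff.mp (R.hU hH) _).mp
        (reeU_mem_U hX _ _ _)) (inv_mem (reeU_mem_U hX _ _ _)),
        mul_mem (mul_mem (mul_mem hG (reeU_mem_G1 hX _ _ _)) (inv_mem hG))
          (inv_mem (reeU_mem_G1 hX _ _ _))⟩
    obtain ⟨t'', u'', v'', ey⟩ := (ree_U_iff hK hσ hX _).mp hy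
    have e1 : wordGL hX (reeWordU (3 ^ m) t'' u'' v'') * wordGL hX (reeWordU (3 ^ m) s 0 0) =
        (hGL hX 7 a * hGL hX 6 z) * wordGL hX (reeWordU (3 ^ m) s 0 0) *
          (hGL hX 7 a * hGL hX 6 z)⁻¹ := by
      rw [← ey, inv_mul_cancel_right]
    rw [ree_h_conj hK hσ hX hz0 ha, wordGL_reeU, wordGL_reeU, wordGL_reeU, g2_U_mul] at e1
    obtain ⟨-, h2, -⟩ := g2_U_unique hX e1
    have ht : t'' = t := by linear_combination h2 + hs
    refine ⟨u'', v'', ?_⟩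
    rw [← ht, ← ey]
    exact hc
  -- step 3: all of `U¹`
  have step3 : ∀ t u v : K, wordGL hX (reeWordU (3 ^ m) t u v) ∈ reeDer K m := by
    intro t u v
    obtain ⟨u'', v'', h⟩ := step2 t
    have e : wordGL hX (reeWordU (3 ^ m) t u v) = wordGL hX (reeWordU (3 ^ m) t u'' v'') *
        wordGL hX (reeWordU (3 ^ m) 0 (u - u'') (v - v'')) := by
      rw [reeU_mul0]
      congr 2 <;> ring
    rw [e]
    exact mul_mem h (step1 _ _)
  -- step 4: all of `V¹`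
  have hs0 := reeN0_mul_g2N0 hK hσ hX
  have hsG := reeN0_mem_G1 hX m
  have step4 : ∀ t u v : K, wordGL hX (reeWordV (3 ^ m) t u v) ∈ reeDer K m := by
    intro t u v
    have hv : (reeN0 hX)⁻¹ * wordGL hX (reeWordV (3 ^ m) t u v) * reeN0 hX ∈
        chevG2.posUnipotent K ⊓ twistedG2 K (3 ^ m) :=
      Subgroup.mem_inf.mpr ⟨ree_n_inv_conj_V hs0 _ (reeV_mem_V hX m t u v),
        mul_mem (mul_mem (inv_mem hsG) (reeV_mem_G1 hX _ _ _)) hsG⟩
    obtain ⟨t', u', v', e⟩ := (ree_U_iff hK hσ hX _).mp hv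
    have e2 : wordGL hX (reeWordV (3 ^ m) t u v) = reeN0 hX *
        ((reeN0 hX)⁻¹ * wordGL hX (reeWordV (3 ^ m) t u v) * reeN0 hX) * (reeN0 hX)⁻¹ := by group
    rw [e2, e]
    exact reeDer_conj hsG (step3 t' u' v')
  have hle : twistedG2 K (3 ^ m) ≤ reeDer K m := by
    unfold twistedG2 ChevalleyDatum.genSubgroup
    rw [Subgroup.closure_le]
    rintro g ⟨w, ⟨t, u, v, rfl | rfl⟩, hg⟩
    · have : g = wordGL hX (reeWordU (3 ^ m) t u v) := Units.ext (by rw [hg, wordGL_val])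
      rw [this]
      exact step3 t u v
    · have : g = wordGL hX (reeWordV (3 ^ m) t u v) := Units.ext (by rw [hg, wordGL_val])
      rw [this]
      exact step4 t u v
  rw [eq_top_iff]
  rintro ⟨g, hg⟩ -
  obtain ⟨y, hy, e⟩ := hle hg
  have : y = ⟨g, hg⟩ := Subtype.ext e
  rw [← this]
  exact hy

end ree17

end Cfsg.Agent.Helper36
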