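import Cfsg.Agent.Helper36.Ree17
import Mathlib.GroupTheory.IsPerfect

/-!
# The Ree groups `²G₂(3^(2m+1))`, `m ≥ 1`, are simple (helper36)
-/

set_option autoImplicit false

namespace Cfsg.Agent.Helper36

open Cfsg Cfsg.Lie

section ree18

variable {K : Type*} [Field K] [CharP K 3] [Fintype K] {m : ℕ}
  {σ : ↥(chevG2.group K) →* ↥(chevG2.group K)}

theorem ree_U_solvable (hK : Fintype.card K = 3 ^ (2 * m + 1)) (hσ : ReeSig m σ) :
    Group.IsSolvable ↥(chevG2.posUnipotent K ⊓ twistedG2 K (3 ^ m)) := by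
  haveI : Fact (Nat.Prime 3) := ⟨Nat.prime_three⟩
  have hc : Nat.card ↥(chevG2.posUnipotent K ⊓ twistedG2 K (3 ^ m)) = 3 ^ ((2 * m + 1) * 3) := by
    rw [ree_U_card hK hσ, pow_mul]
  have hnil := (IsPGroup.of_card hc).isNilpotent
  infer_instance

theorem ree_not_comm (hK : Fintype.card K = 3 ^ (2 * m + 1)) (hσ : ReeSig m σ) :
    ¬ IsMulCommutative ↥(twistedG2 K (3 ^ m)) := by
  have R := bRel_of_mem (F := K) g2_mem
  have hX := R.xadd
  have hsG := reeN0_mem_G1 hX m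
  have hsN := reeN0_mem_N hX
  have hsH := reeN0_not_mem_H hX
  have hss : reeN0 hX * reeN0 hX ∈ chevG2.diagonalSubgroup K :=
    ree_N_mul hK hσ hsN hsG hsH hsN hsG hsH
  have huG := reeU_mem_G1 (m := m) hX (0 : K) 1 0
  intro hc
  apply ree_bn_conj_ne hK hσ hX
  have hcomm : (⟨wordGL hX (reeWordU (3 ^ m) 0 1 0), huG⟩ : ↥(twistedG2 K (3 ^ m))) *
      ⟨reeN0 hX, hsG⟩ = ⟨reeN0 hX, hsG⟩ * ⟨wordGL hX (reeWordU (3 ^ m) 0 1 0), huG⟩ :=
    hc.is_comm.comm _ _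
  have hcomm' : wordGL hX (reeWordU (3 ^ m) 0 1 0) * reeN0 hX =
      reeN0 hX * wordGL hX (reeWordU (3 ^ m) 0 1 0) := congrArg Subtype.val hcomm
  rw [mul_assoc, hcomm', ← mul_assoc]
  exact mul_mem (BRel.H_le_B _ _ hss) (BRel.U_le_B _ _ (reeU_mem_U hX _ _ _))

/-- `²G₂(3^(2m+1))` is simple for `m ≥ 1`. -/
theorem ree_simple (hK : Fintype.card K = 3 ^ (2 * m + 1)) (hσ : ReeSig m σ) (hm : 1 ≤ m) :
    IsSimpleGroup ↥(twistedG2 K (3 ^ m)) := by
  have R := bRel_of_mem (F := K) g2_mem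
  have hX := R.xadd
  have hsG := reeN0_mem_G1 hX m
  have hnt : Nontrivial ↥(twistedG2 K (3 ^ m)) := by
    refine ⟨⟨⟨reeN0 hX, hsG⟩, 1, fun h => reeN0_not_mem_B hX ?_⟩⟩
    have h' : reeN0 hX = 1 := congrArg Subtype.val h
    rw [h']
    exact one_mem _
  refine ⟨fun M hM => ?_⟩
  by_cases hMB : ∀ x ∈ M, (x : GL chevG2.Idx K) ∈ chevG2.borelSubgroup K
  · left
    rw [Subgroup.eq_bot_iff_forall]
    intro x hx
    apply Subtype.ext
    apply ree_core hK hσ x.2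
    intro b hb
    have := hMB _ (hM.conj_mem x hx ⟨b, hb⟩)
    simpa only [Subgroup.coe_mul, Subgroup.coe_inv] using this
  · right
    push Not at hMB
    obtain ⟨x, hxM, hxB⟩ := hMB
    obtain ⟨u₁, hu₁, n, hn, u₂, hu₂, e⟩ := ree_bruhat hK hσ x.2
    have hu₁' := Subgroup.mem_inf.mp hu₁
    have hu₂' := Subgroup.mem_inf.mp hu₂
    have hn' := Subgroup.mem_inf.mp hn
    have hnH : n ∉ chevG2.diagonalSubgroup K := by
      intro hc
      apply hxB
      rw [e]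
      exact mul_mem (mul_mem (BRel.U_le_B _ _ hu₁'.1) (BRel.H_le_B _ _ hc))
        (BRel.U_le_B _ _ hu₂'.1)
    have hn0 := ree_N_cases hK hσ hn'.1 hn'.2 hnH
    have hM' := hM
    have hsolv := ree_U_solvable hK hσ
    let f : ↥(twistedG2 K (3 ^ m)) →* ↥(twistedG2 K (3 ^ m)) ⧸ M := QuotientGroup.mk' M
    let ι : ↥(chevG2.posUnipotent K ⊓ twistedG2 K (3 ^ m)) →* ↥(twistedG2 K (3 ^ m)) :=
      Subgroup.inclusion inf_le_right
    let T : Subgroup ↥(twistedG2 K (3 ^ m)) := (f.comp ι).range.comap f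
    have hTU : ∀ (u : GL chevG2.Idx K) (hu : u ∈ chevG2.posUnipotent K ⊓ twistedG2 K (3 ^ m)),
        (⟨u, (Subgroup.mem_inf.mp hu).2⟩ : ↥(twistedG2 K (3 ^ m))) ∈ T :=
      fun u hu => ⟨⟨u, hu⟩, rfl⟩
    have hTM : ∀ y ∈ M, y ∈ T := by
      intro y hy
      refine ⟨1, ?_⟩
      rw [map_one]
      exact ((QuotientGroup.eq_one_iff y).mpr hy).symm
    have hTn : (⟨n, hn'.2⟩ : ↥(twistedG2 K (3 ^ m))) ∈ T := by
      have e2 : (⟨n, hn'.2⟩ : ↥(twistedG2 K (3 ^ m))) =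
          (⟨u₁, hu₁'.2⟩ : ↥(twistedG2 K (3 ^ m)))⁻¹ * x *
            (⟨u₂, hu₂'.2⟩ : ↥(twistedG2 K (3 ^ m)))⁻¹ := by
        apply Subtype.ext
        simp only [Subgroup.coe_mul, Subgroup.coe_inv]
        rw [e]
        group
      rw [e2]
      exact mul_mem (mul_mem (inv_mem (hTU u₁ hu₁)) (hTM x hxM)) (inv_mem (hTU u₂ hu₂))
    have hle : twistedG2 K (3 ^ m) ≤ T.map (twistedG2 K (3 ^ m)).subtype := by
      unfold twistedG2 ChevalleyDatum.genSubgroup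
      rw [Subgroup.closure_le]
      rintro g ⟨w, ⟨t, u, v, rfl | rfl⟩, hg⟩
      · have hg' : g = wordGL hX (reeWordU (3 ^ m) t u v) := Units.ext (by rw [hg, wordGL_val])
        rw [hg']
        exact ⟨_, hTU _ (Subgroup.mem_inf.mpr ⟨reeU_mem_U hX _ _ _, reeU_mem_G1 hX _ _ _⟩), rfl⟩
      · have hg' : g = wordGL hX (reeWordV (3 ^ m) t u v) := Units.ext (by rw [hg, wordGL_val])
        rw [hg']
        have hv : n⁻¹ * wordGL hX (reeWordV (3 ^ m) t u v) * n ∈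
            chevG2.posUnipotent K ⊓ twistedG2 K (3 ^ m) :=
          Subgroup.mem_inf.mpr ⟨ree_n_inv_conj_V hn0 _ (reeV_mem_V hX m t u v),
            mul_mem (mul_mem (inv_mem hn'.2) (reeV_mem_G1 hX _ _ _)) hn'.2⟩
        refine ⟨_, mul_mem (mul_mem hTn (hTU _ hv)) (inv_mem hTn), ?_⟩
        show n * (n⁻¹ * wordGL hX (reeWordV (3 ^ m) t u v) * n) * n⁻¹ = _
        group
    have hsurj : Function.Surjective (f.comp ι) := by
      intro q
      obtain ⟨g, rfl⟩ := QuotientGroup.mk'_surjective M q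
      obtain ⟨y, hy, ey⟩ := hle g.2
      have : y = g := Subtype.ext ey
      rw [this] at hy
      exact hy
    have hperf : Group.IsPerfect ↥(twistedG2 K (3 ^ m)) := ⟨ree_perfect hK hσ hm⟩
    have hsolvQ : Group.IsSolvable (↥(twistedG2 K (3 ^ m)) ⧸ M) := Group.isSolvable_of_surjective hsurj
    have hsub : Subsingleton (↥(twistedG2 K (3 ^ m)) ⧸ M) :=
      not_nontrivial_iff_subsingleton.mp
        (fun hnt => Group.IsPerfect.not_isSolvable (↥(twistedG2 K (3 ^ m)) ⧸ M) inferInstance)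
    exact QuotientGroup.subgroup_eq_top_of_subsingleton M hsub

end ree18

end Cfsg.Agent.Helper36
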