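import Cfsg.Agent.Helper36.StTheta

/-!
# The centre of Steinberg's presented group for unimodular Cartan matrices (helper36)

In a group `Γ` with the relations of `StBasic` and relation (R3) (`HMul`), the subgroup `H̄`
is abelian, every element of it is a product `∏_i h̄_{p_i}(t_i)`, and, when the Cartan matrix has an
integral inverse, `θ` is injective on `H̄`.  Hence the presented group has trivial centre for
`G₂`, `F₄`, `E₈`.
-/

set_option autoImplicit false

namespace Cfsg.Agent.Helper36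

open Cfsg Cfsg.Lie

section

variable {D : ChevalleyDatum} {F : Type*} [Field F] {η : ℕ → ℕ → ℤ} {f₀ : ℕ → ℤ} {g : ℕ → ℕ → ℤ}
  {Γ : Type*} [Group Γ] {x : ℕ → F → Γ} {θ : Γ →* GL D.Idx F}

/-- Relation (R3): `h̄_r(t) h̄_r(u) = h̄_r(t u)`. -/
def HMul (D : ChevalleyDatum) (x : ℕ → F → Γ) : Prop :=
  ∀ r < D.nroots, ∀ t u : F, t ≠ 0 → u ≠ 0 → hS D x r t * hS D x r u = hS D x r (t * u)

theorem HMul.one (hm : HMul D x) {r : ℕ} (hr : r < D.nroots) : hS D x r 1 = 1 := by
  have h := hm r hr 1 1 one_ne_zero one_ne_zero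
  rw [mul_one] at h
  exact mul_left_cancel (h.trans (mul_one _).symm)

theorem HMul.inv (hm : HMul D x) {r : ℕ} (hr : r < D.nroots) {c : F} (hc : c ≠ 0) :
    (hS D x r c)⁻¹ = hS D x r c⁻¹ := by
  apply inv_eq_of_mul_eq_one_right
  rw [hm r hr c c⁻¹ hc (inv_ne_zero hc), mul_inv_cancel₀ hc, hm.one hr]

/-- The elements of `H̄` commute with every `h̄_r(u)`. -/
theorem SCtx.HS_comm_hS (C : SCtx D F η f₀ g) (S : SRel D F x θ) (hm : HMul D x) {h : Γ}
    (hh : h ∈ HS D x) {r : ℕ} (hr : r < D.nroots) {u : F} (hu : u ≠ 0) :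
    h * hS D x r u = hS D x r u * h := by
  obtain ⟨χ, hχ⟩ := C.HS_conj_nS S hh
  have h1 := hχ r hr u
  have h2 := hχ r hr (-1)
  have h3 := hm r hr u ((χ r : Fˣ) : F) hu (Units.ne_zero _)
  unfold hS at h3 ⊢
  have h4 : nS D x r (((χ r : Fˣ) : F) * -1) = (nS D x r ((χ r : Fˣ) : F))⁻¹ := by
    rw [S.nS_inv, mul_neg_one]
  have h5 : nS D x r (((χ r : Fˣ) : F) * u) =
      nS D x r u * nS D x r (-1) * nS D x r ((χ r : Fˣ) : F) := by
    rw [mul_comm ((χ r : Fˣ) : F) u]
    have h6 : nS D x r (u * ((χ r : Fˣ) : F)) * nS D x r (-1) =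
        nS D x r u * nS D x r (-1) * nS D x r ((χ r : Fˣ) : F) * nS D x r (-1) := by
      rw [← h3]; group
    exact mul_right_cancel h6
  have e : h * (nS D x r u * nS D x r (-1)) * h⁻¹ = nS D x r u * nS D x r (-1) := by
    have e1 : h * (nS D x r u * nS D x r (-1)) * h⁻¹ =
        (h * nS D x r u * h⁻¹) * (h * nS D x r (-1) * h⁻¹) := by group
    rw [e1, h1, h2, h4, h5]; group
  calc h * (nS D x r u * nS D x r (-1)) = h * (nS D x r u * nS D x r (-1)) * h⁻¹ * h := by group
    _ = nS D x r u * nS D x r (-1) * h := by rw [e]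

/-- `H̄` is abelian. -/
theorem SCtx.HS_comm (C : SCtx D F η f₀ g) (S : SRel D F x θ) (hm : HMul D x) :
    ∀ a ∈ HS D x, ∀ b ∈ HS D x, a * b = b * a := by
  intro a ha b hb
  unfold HS at hb
  induction hb using Subgroup.closure_induction with
  | mem y hy =>
    obtain ⟨i, hi, c, hc, rfl⟩ := hy
    exact C.HS_comm_hS S hm ha (C.R.wf.simple_lt i hi) hc
  | one => rw [mul_one, one_mul]
  | mul p q _ _ ihp ihq => rw [← mul_assoc, ihp, mul_assoc, ihq, mul_assoc]
  | inv p _ ih =>
    have h1 : p⁻¹ * (a * p) * p⁻¹ = p⁻¹ * (p * a) * p⁻¹ := by rw [ih]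
    have h2 : p⁻¹ * (a * p) * p⁻¹ = p⁻¹ * a := by group
    have h3 : p⁻¹ * (p * a) * p⁻¹ = a * p⁻¹ := by group
    rw [← h3, ← h1, h2]

/-- The product `∏_{i ∈ L} h̄_{p_i}(t_i)`. -/
def hProd (D : ChevalleyDatum) (x : ℕ → F → Γ) (L : List ℕ) (t : ℕ → Fˣ) : Γ :=
  (L.map fun i => hS D x (D.simple i) ((t i : Fˣ) : F)).prod

theorem hProd_nil (t : ℕ → Fˣ) : hProd D x [] t = 1 := rfl

theorem hProd_cons (i : ℕ) (L : List ℕ) (t : ℕ → Fˣ) :
    hProd D x (i :: L) t = hS D x (D.simple i) ((t i : Fˣ) : F) * hProd D x L t := by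
  unfold hProd
  rw [List.map_cons, List.prod_cons]

theorem hProd_congr {L : List ℕ} {t t' : ℕ → Fˣ} (h : ∀ i ∈ L, t i = t' i) :
    hProd D x L t = hProd D x L t' := by
  unfold hProd
  congr 1
  apply List.map_congr_left
  intro i hi
  rw [h i hi]

theorem hProd_one (C : SCtx D F η f₀ g) (hm : HMul D x) {L : List ℕ} (hL : ∀ i ∈ L, i < D.rank)
    {t : ℕ → Fˣ} (ht : ∀ i ∈ L, t i = 1) : hProd D x L t = 1 := by
  induction L with
  | nil => rfl
  | cons i L ih =>
    rw [hProd_cons, ih (fun j hj => hL j (List.mem_cons_of_mem _ hj))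
      (fun j hj => ht j (List.mem_cons_of_mem _ hj)), ht i List.mem_cons_self, Units.val_one,
      hm.one (C.R.wf.simple_lt i (hL i List.mem_cons_self)), one_mul]

theorem hProd_mem (L : List ℕ) (hL : ∀ i ∈ L, i < D.rank) (t : ℕ → Fˣ) :
    hProd D x L t ∈ HS D x := by
  unfold hProd
  apply Subgroup.list_prod_mem
  intro y hy
  rw [List.mem_map] at hy
  obtain ⟨i, hi, rfl⟩ := hy
  exact hS_mem_HS (hL i hi) (Units.ne_zero _)

theorem SCtx.hS_mul_hProd (C : SCtx D F η f₀ g) (S : SRel D F x θ) (hm : HMul D x) {i : ℕ}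
    (hi : i < D.rank) (c : Fˣ) (t : ℕ → Fˣ) :
    ∀ L : List ℕ, (∀ j ∈ L, j < D.rank) → L.Nodup → i ∈ L →
      hS D x (D.simple i) ((c : Fˣ) : F) * hProd D x L t =
        hProd D x L (Function.update t i (c * t i)) := by
  intro L
  induction L with
  | nil => intro _ _ h; exact absurd h List.not_mem_nil
  | cons j L ih =>
    intro hL hnd hiL
    have hj := hL j List.mem_cons_self
    have hL' : ∀ k ∈ L, k < D.rank := fun k hk => hL k (List.mem_cons_of_mem _ hk)
    rw [List.nodup_cons] at hnd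
    rw [hProd_cons, hProd_cons]
    by_cases hij : j = i
    · subst hij
      rw [Function.update_self, ← mul_assoc,
        hm _ (C.R.wf.simple_lt j hj) _ _ (Units.ne_zero _) (Units.ne_zero _), Units.val_mul]
      congr 1
      apply hProd_congr
      intro k hk
      have hkj : k ≠ j := fun h => hnd.1 (h ▸ hk)
      rw [Function.update_of_ne hkj]
    · have hiL' : i ∈ L := by
        rcases List.mem_cons.mp hiL with h | h
        · exact absurd h.symm hij
        · exact h
      rw [Function.update_of_ne hij, ← ih hL' hnd.2 hiL', ← mul_assoc, ← mul_assoc]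
      congr 1
      exact (C.HS_comm_hS S hm (hS_mem_HS hi (Units.ne_zero _)) (C.R.wf.simple_lt j hj)
        (Units.ne_zero _))

/-- Every element of `H̄` is a product `∏_i h̄_{p_i}(t_i)`. -/
theorem SCtx.HS_eq_hProd (C : SCtx D F η f₀ g) (S : SRel D F x θ) (hm : HMul D x) :
    ∀ h ∈ HS D x, ∃ t : ℕ → Fˣ, h = hProd D x (List.range D.rank) t := by
  intro h hh
  have hR : ∀ j ∈ List.range D.rank, j < D.rank := fun j hj => List.mem_range.mp hj
  unfold HS at hh
  induction hh using Subgroup.closure_induction_left with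
  | one => exact ⟨fun _ => 1, (hProd_one C hm hR (fun _ _ => rfl)).symm⟩
  | mul_left a ha b _ ih =>
    obtain ⟨i, hi, c, hc, rfl⟩ := ha
    obtain ⟨t, rfl⟩ := ih
    refine ⟨Function.update t i (Units.mk0 c hc * t i), ?_⟩
    exact C.hS_mul_hProd S hm hi (Units.mk0 c hc) t _ hR List.nodup_range (List.mem_range.mpr hi)
  | inv_mul_cancel a ha b _ ih =>
    obtain ⟨i, hi, c, hc, rfl⟩ := ha
    obtain ⟨t, rfl⟩ := ih
    rw [hm.inv (C.R.wf.simple_lt i hi) hc]
    refine ⟨Function.update t i (Units.mk0 c⁻¹ (inv_ne_zero hc) * t i), ?_⟩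
    exact C.hS_mul_hProd S hm hi (Units.mk0 c⁻¹ (inv_ne_zero hc)) t _ hR List.nodup_range
      (List.mem_range.mpr hi)

/-- The image of `∏_i h̄_{p_i}(t_i)` is a diagonal matrix. -/
theorem SRel.map_hProd (S : SRel D F x θ) (hX : XAdd D F) (hHD : Cfsg.Agent.Helper17.HDiag D F)
    (hs : ∀ i < D.rank, D.simple i < D.nroots) (t : ℕ → Fˣ) :
    ∀ L : List ℕ, (∀ i ∈ L, i < D.rank) →
      ((θ (hProd D x L t) : GL D.Idx F) : Matrix D.Idx D.Idx F) =
        Matrix.diagonal (Sum.elim (fun _ => (1 : F)) (fun s : Fin D.nroots =>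
          (((L.map fun i => t i ^ D.pairing (D.simple i) s.val).prod : Fˣ) : F))) := by
  intro L
  induction L with
  | nil =>
    intro _
    rw [hProd_nil, map_one, Units.val_one, ← Matrix.diagonal_one]
    congr 1
    funext b
    rcases b with j | s
    · rfl
    · simp
  | cons i L ih =>
    intro hL
    rw [hProd_cons, map_mul, Units.val_mul, ih (fun j hj => hL j (List.mem_cons_of_mem _ hj)),
      S.map_hS hX, hGL_val, hHD _ (hs i (hL i List.mem_cons_self)) _ (Units.ne_zero _),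
      Matrix.diagonal_mul_diagonal]
    congr 1
    funext b
    rcases b with j | s
    · simp
    · simp only [Sum.elim_inr, List.map_cons, List.prod_cons, Units.val_mul,
        Units.val_zpow_eq_zpow_val]

end

/-! ### Unimodular Cartan matrices -/

theorem list_prod_range_eq {M : Type*} [CommMonoid M] (f : ℕ → M) (n : ℕ) :
    ((List.range n).map f).prod = ∏ i ∈ Finset.range n, f i := by
  induction n with
  | zero => simp
  | succ n ih => rw [List.prod_range_succ, ih, Finset.prod_range_succ]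

theorem list_sum_range_eq {M : Type*} [AddCommMonoid M] (f : ℕ → M) (n : ℕ) :
    ((List.range n).map f).sum = ∑ i ∈ Finset.range n, f i := by
  induction n with
  | zero => simp
  | succ n ih => rw [List.sum_range_succ, ih, Finset.sum_range_succ]

theorem zpow_range_sum {G : Type*} [CommGroup G] (a : G) (c : ℕ → ℤ) (n : ℕ) :
    a ^ (∑ j ∈ Finset.range n, c j) = ∏ j ∈ Finset.range n, a ^ c j := by
  induction n with
  | zero => simp
  | succ n ih => rw [Finset.sum_range_succ, Finset.prod_range_succ, zpow_add, ih]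

theorem unimod_aux {G : Type*} [CommGroup G] (n : ℕ) (A B : ℕ → ℕ → ℤ)
    (hAB : ∀ i < n, ∀ k < n, ∑ j ∈ Finset.range n, A i j * B j k = if i = k then 1 else 0)
    (t : ℕ → G) (h : ∀ j < n, ∏ i ∈ Finset.range n, t i ^ A i j = 1) : ∀ k < n, t k = 1 := by
  intro k hk
  have h1 : ∏ i ∈ Finset.range n, t i ^ (∑ j ∈ Finset.range n, A i j * B j k) = t k := by
    rw [Finset.prod_eq_single k]
    · rw [hAB k hk k hk, if_pos rfl, zpow_one]
    · intro i hi hik
      rw [hAB i (Finset.mem_range.mp hi) k hk, if_neg hik, zpow_zero]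
    · intro hk'; exact absurd (Finset.mem_range.mpr hk) hk'
  rw [← h1]
  have h2 : ∀ i ∈ Finset.range n, t i ^ (∑ j ∈ Finset.range n, A i j * B j k) =
      ∏ j ∈ Finset.range n, (t i ^ A i j) ^ B j k := by
    intro i _
    rw [zpow_range_sum]
    apply Finset.prod_congr rfl
    intro j _
    rw [zpow_mul]
  rw [Finset.prod_congr rfl h2, Finset.prod_comm]
  apply Finset.prod_eq_one
  intro j hj
  rw [Finset.prod_zpow, h j (Finset.mem_range.mp hj), one_zpow]

/-- The integral matrix `B` is a right inverse of the Cartan matrix. -/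
def uniChk (D : ChevalleyDatum) (B : List (List ℤ)) : Bool :=
  (List.range D.rank).all fun i => (List.range D.rank).all fun k =>
    decide (((List.range D.rank).map fun j =>
      D.pairing (D.simple i) (D.simple j) * ((B.getD j []).getD k 0)).sum = if i = k then 1 else 0)

theorem uniChk_spec {D : ChevalleyDatum} {B : List (List ℤ)} (h : uniChk D B = true) :
    ∀ i < D.rank, ∀ k < D.rank, ∑ j ∈ Finset.range D.rank,
      D.pairing (D.simple i) (D.simple j) * ((B.getD j []).getD k 0) = if i = k then 1 else 0 := by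
  intro i hi k hk
  unfold uniChk at h
  rw [List.all_eq_true] at h
  have h1 := h i (List.mem_range.mpr hi)
  rw [List.all_eq_true] at h1
  have h2 := h1 k (List.mem_range.mpr hk)
  rw [decide_eq_true_eq] at h2
  rw [← h2, list_sum_range_eq]

theorem uniChk_G2 : uniChk chevG2 [[2, 3], [1, 2]] = true := by decide +kernel

theorem uniChk_F4 : uniChk chevF4 [[2, 3, 4, 2], [3, 6, 8, 4], [2, 4, 6, 3], [1, 2, 3, 2]] = true := by
  decide +kernel

theorem uniChk_E8 : uniChk chevE8 [[4, 5, 7, 10, 8, 6, 4, 2], [5, 8, 10, 15, 12, 9, 6, 3],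
    [7, 10, 14, 20, 16, 12, 8, 4], [10, 15, 20, 30, 24, 18, 12, 6], [8, 12, 16, 24, 20, 15, 10, 5],
    [6, 9, 12, 18, 15, 12, 8, 4], [4, 6, 8, 12, 10, 8, 6, 3], [2, 3, 4, 6, 5, 4, 3, 2]] = true := by
  decide +kernel

theorem exists_uniChk {D : ChevalleyDatum} (hD : D ∈ [chevG2, chevF4, chevE8]) :
    ∃ B, uniChk D B = true := by
  simp only [List.mem_cons, List.not_mem_nil, or_false] at hD
  rcases hD with rfl | rfl | rfl
  · exact ⟨_, uniChk_G2⟩
  · exact ⟨_, uniChk_F4⟩
  · exact ⟨_, uniChk_E8⟩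

section

variable {D : ChevalleyDatum} {F : Type*} [Field F] {η : ℕ → ℕ → ℤ} {f₀ : ℕ → ℤ} {g : ℕ → ℕ → ℤ}
  {Γ : Type*} [Group Γ] {x : ℕ → F → Γ} {θ : Γ →* GL D.Idx F}

/-- When the Cartan matrix has an integral inverse, `θ` is injective on `H̄`. -/
theorem SCtx.HS_ker_trivial (C : SCtx D F η f₀ g) (S : SRel D F x θ) (hm : HMul D x)
    (hHD : Cfsg.Agent.Helper17.HDiag D F) {B : List (List ℤ)} (hB : uniChk D B = true) :
    ∀ h ∈ HS D x, θ h = 1 → h = 1 := by
  intro h hh h1
  obtain ⟨t, rfl⟩ := C.HS_eq_hProd S hm h hh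
  have hR : ∀ j ∈ List.range D.rank, j < D.rank := fun j hj => List.mem_range.mp hj
  have h2 := S.map_hProd C.R.xadd hHD C.R.wf.simple_lt t (List.range D.rank) hR
  rw [h1, Units.val_one] at h2
  have h3 : ∀ j < D.rank, ∏ i ∈ Finset.range D.rank,
      t i ^ D.pairing (D.simple i) (D.simple j) = 1 := by
    intro j hj
    have h4 := congrFun (congrFun h2 (Sum.inr ⟨D.simple j, C.R.wf.simple_lt j hj⟩))
      (Sum.inr ⟨D.simple j, C.R.wf.simple_lt j hj⟩)
    rw [Matrix.one_apply_eq, Matrix.diagonal_apply_eq, Sum.elim_inr] at h4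
    rw [← list_prod_range_eq]
    exact Units.ext h4.symm
  have h5 := unimod_aux D.rank (fun i j => D.pairing (D.simple i) (D.simple j))
    (fun j k => (B.getD j []).getD k 0) (uniChk_spec hB) t h3
  exact hProd_one C hm hR (fun i hi => h5 i (hR i hi))

end

section

variable (D : ChevalleyDatum) {K : Type*} [Field K]

/-- Relation (R3) in Steinberg's presented group. -/
theorem stHMul : HMul D (D.stGen K) := by
  intro r hr t u ht hu
  have h : D.stH r t * D.stH r u * (D.stH r (t * u))⁻¹ ∈ D.steinbergRels K :=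
    Or.inr ⟨r, t, u, hr, ht, hu, rfl⟩
  have h1 := PresentedGroup.one_of_mem h
  rw [map_mul, map_mul, map_inv, mk_stH, mk_stH, mk_stH] at h1
  exact mul_inv_eq_one.mp h1

/-- For `G₂`, `F₄`, `E₈` the presented group has trivial centre. -/
theorem st_center_trivial (hD : D ∈ [chevG2, chevF4, chevE8]) (z : D.SteinbergGroup K)
    (hz : z ∈ Subgroup.center (D.SteinbergGroup K)) : z = 1 := by
  have hD' : D ∈ [chevG2, chevB2, chevD4, chevF4, chevE6, chevE7, chevE8] := by
    simp only [List.mem_cons, List.not_mem_nil, or_false] at hD ⊢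
    rcases hD with rfl | rfl | rfl <;> simp
  obtain ⟨B, hB⟩ := exists_uniChk hD
  obtain ⟨f₀, g, C⟩ := sCtx_of_mem (F := K) hD'
  have S := sRel_steinberg D (stTheta (K := K) D hD') (fun r t _ => stTheta_val D hD' r t)
  have h1 := (stTheta_ker D hD' z).mpr hz
  exact C.HS_ker_trivial S (stHMul D) (Cfsg.Agent.Helper17.hDiag_of_mem hD') hB z
    (C.ker_le S z h1).1 h1

end

end Cfsg.Agent.Helper36
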