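import Mathlib

/-!
# Rank one computations: relation (R3) over finite fields (helper36)

A pair of one-parameter subgroups `X`, `Y` of a group with `n(t) = X(t) Y(-t⁻¹) X(t)` acting
on them as in `SL₂` (`Rk1`).  Then, with `h(t) = n(t) n(-1)`:

* `Rk1.H_conj_H`: `h(t) h(v) h(t)⁻¹ = h(t²v) h(t²)⁻¹`;
* `Rk1.gauss`: `h(1 + a) h(a / (1 + a)) = h(a)`;
* `Rk1.H_mul_of_finite`: if the elements `h(t) h(u) h(tu)⁻¹` are central and the field is finite,
  then `h(t) h(u) = h(tu)` (Steinberg).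
-/

set_option autoImplicit false

namespace Cfsg.Agent.Helper36

section

variable {Γ : Type*} [Group Γ] {F : Type*} [Field F]

/-- `n(t) = X(t) Y(-t⁻¹) X(t)`. -/
def r1N (X Y : F → Γ) (t : F) : Γ := X t * Y (-t⁻¹) * X t

/-- `h(t) = n(t) n(-1)`. -/
def r1H (X Y : F → Γ) (t : F) : Γ := r1N X Y t * r1N X Y (-1)

/-- A pair of one-parameter subgroups on which `n(t)` acts as in `SL₂`. -/
structure Rk1 (X Y : F → Γ) : Prop where
  addX : ∀ a b, X a * X b = X (a + b)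
  addY : ∀ a b, Y a * Y b = Y (a + b)
  conjX : ∀ t, t ≠ 0 → ∀ a, r1N X Y t * X a * (r1N X Y t)⁻¹ = Y (-(t⁻¹ * t⁻¹ * a))
  conjY : ∀ t, t ≠ 0 → ∀ a, r1N X Y t * Y a * (r1N X Y t)⁻¹ = X (-(t * t * a))

variable {X Y : F → Γ}

theorem Rk1.X_zero (h : Rk1 X Y) : X 0 = 1 := by
  have h1 := h.addX 0 0
  rw [add_zero] at h1
  exact mul_left_cancel (h1.trans (mul_one _).symm)

theorem Rk1.Y_zero (h : Rk1 X Y) : Y 0 = 1 := by
  have h1 := h.addY 0 0
  rw [add_zero] at h1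
  exact mul_left_cancel (h1.trans (mul_one _).symm)

theorem Rk1.X_inv (h : Rk1 X Y) (a : F) : (X a)⁻¹ = X (-a) :=
  inv_eq_of_mul_eq_one_right (by rw [h.addX, add_neg_cancel, h.X_zero])

theorem Rk1.Y_inv (h : Rk1 X Y) (a : F) : (Y a)⁻¹ = Y (-a) :=
  inv_eq_of_mul_eq_one_right (by rw [h.addY, add_neg_cancel, h.Y_zero])

theorem Rk1.N_inv (h : Rk1 X Y) (t : F) : (r1N X Y t)⁻¹ = r1N X Y (-t) := by
  unfold r1N
  rw [mul_inv_rev, mul_inv_rev, h.X_inv, h.Y_inv]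
  simp only [neg_neg, inv_neg, mul_assoc]

theorem Rk1.H_one (h : Rk1 X Y) : r1H X Y 1 = 1 := by
  unfold r1H
  rw [← h.N_inv, mul_inv_cancel]

theorem Rk1.H_conj_X (h : Rk1 X Y) {t : F} (ht : t ≠ 0) (a : F) :
    r1H X Y t * X a * (r1H X Y t)⁻¹ = X (t * t * a) := by
  unfold r1H
  have e : ∀ p q z : Γ, p * q * z * (p * q)⁻¹ = p * (q * z * q⁻¹) * p⁻¹ := by intros; group
  rw [e, h.conjX (-1) (neg_ne_zero.mpr one_ne_zero) a, h.conjY t ht]
  congr 1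
  rw [inv_neg, inv_one]
  ring

theorem Rk1.H_conj_Y (h : Rk1 X Y) {t : F} (ht : t ≠ 0) (a : F) :
    r1H X Y t * Y a * (r1H X Y t)⁻¹ = Y (t⁻¹ * t⁻¹ * a) := by
  unfold r1H
  have e : ∀ p q z : Γ, p * q * z * (p * q)⁻¹ = p * (q * z * q⁻¹) * p⁻¹ := by intros; group
  rw [e, h.conjY (-1) (neg_ne_zero.mpr one_ne_zero) a, h.conjX t ht]
  congr 1
  ring

theorem Rk1.H_conj_N (h : Rk1 X Y) {t : F} (ht : t ≠ 0) {v : F} (hv : v ≠ 0) :
    r1H X Y t * r1N X Y v * (r1H X Y t)⁻¹ = r1N X Y (t * t * v) := by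
  have e : ∀ p a b c : Γ, p * (a * b * c) * p⁻¹ = (p * a * p⁻¹) * (p * b * p⁻¹) * (p * c * p⁻¹) := by
    intros; group
  have e2 : t⁻¹ * t⁻¹ * -v⁻¹ = -(t * t * v)⁻¹ := by
    field_simp
  rw [r1N, e, h.H_conj_X ht, h.H_conj_Y ht, e2]
  rfl

/-- `h(t) h(v) h(t)⁻¹ = h(t²v) h(t²)⁻¹`. -/
theorem Rk1.H_conj_H (h : Rk1 X Y) {t : F} (ht : t ≠ 0) {v : F} (hv : v ≠ 0) :
    r1H X Y t * r1H X Y v * (r1H X Y t)⁻¹ = r1H X Y (t * t * v) * (r1H X Y (t * t))⁻¹ := by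
  have e : ∀ p a b : Γ, p * (a * b) * p⁻¹ = (p * a * p⁻¹) * (p * b * p⁻¹) := by intros; group
  have h1 := h.H_conj_N ht hv
  have e3 : t * t * -1 = -(t * t) := by ring
  have h2 : r1H X Y t * r1N X Y (-1) * (r1H X Y t)⁻¹ = (r1N X Y (t * t))⁻¹ := by
    rw [h.H_conj_N ht (neg_ne_zero.mpr (one_ne_zero (α := F))), e3, h.N_inv]
  have h3 : r1H X Y t * r1H X Y v * (r1H X Y t)⁻¹ = r1N X Y (t * t * v) * (r1N X Y (t * t))⁻¹ := by
    conv_lhs => rw [show r1H X Y v = r1N X Y v * r1N X Y (-1) from rfl]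
    rw [e, h1, h2]
  rw [h3]
  unfold r1H
  group

theorem Rk1.N_eq (h : Rk1 X Y) {s : F} (hs : s ≠ 0) :
    r1N X Y s = Y (-s⁻¹) * X s * Y (-s⁻¹) := by
  have c1 := h.conjX s hs s
  have c2 := h.conjY s hs (-s⁻¹)
  have e1 : -(s⁻¹ * s⁻¹ * s) = -s⁻¹ := by field_simp
  have e2 : -(s * s * -s⁻¹) = s := by field_simp
  rw [e1] at c1
  rw [e2] at c2
  have e : r1N X Y s = (r1N X Y s * X s * (r1N X Y s)⁻¹) * (r1N X Y s * Y (-s⁻¹) * (r1N X Y s)⁻¹) *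
      (r1N X Y s * X s * (r1N X Y s)⁻¹) := by
    have e' : (r1N X Y s * X s * (r1N X Y s)⁻¹) * (r1N X Y s * Y (-s⁻¹) * (r1N X Y s)⁻¹) *
        (r1N X Y s * X s * (r1N X Y s)⁻¹) = r1N X Y s * (X s * Y (-s⁻¹) * X s) * (r1N X Y s)⁻¹ := by
      group
    rw [e']
    change r1N X Y s = r1N X Y s * r1N X Y s * (r1N X Y s)⁻¹
    group
  rw [c1, c2] at e
  exact e

theorem Rk1.X_eq (h : Rk1 X Y) {s : F} (hs : s ≠ 0) :
    X s = Y s⁻¹ * r1N X Y s * Y s⁻¹ := by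
  rw [h.N_eq hs]
  have e : Y s⁻¹ * (Y (-s⁻¹) * X s * Y (-s⁻¹)) * Y s⁻¹ =
      (Y s⁻¹ * Y (-s⁻¹)) * X s * (Y (-s⁻¹) * Y s⁻¹) := by group
  rw [e, h.addY, h.addY, add_neg_cancel, neg_add_cancel, h.Y_zero, one_mul, mul_one]

theorem Rk1.Y_eq (h : Rk1 X Y) {b : F} (hb : b ≠ 0) :
    Y b = X b⁻¹ * r1N X Y (-b⁻¹) * X b⁻¹ := by
  have e0 : -(-b⁻¹)⁻¹ = b := by rw [inv_neg, inv_inv, neg_neg]
  have e : X b⁻¹ * r1N X Y (-b⁻¹) * X b⁻¹ =
      (X b⁻¹ * X (-b⁻¹)) * Y (-(-b⁻¹)⁻¹) * (X (-b⁻¹) * X b⁻¹) := by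
    unfold r1N; group
  rw [e, e0, h.addX, h.addX, add_neg_cancel, neg_add_cancel, h.X_zero, one_mul, mul_one]

/-- `h(1 + a) h(a / (1 + a)) = h(a)`: the two Gauss decompositions of `X(a) Y(1)`. -/
theorem Rk1.gauss (h : Rk1 X Y) {a : F} (ha : a ≠ 0) (h1 : 1 + a ≠ 0) :
    r1H X Y (1 + a) * r1H X Y (a / (1 + a)) = r1H X Y a := by
  have hY1 : Y 1 = X 1 * r1N X Y (-1) * X 1 := by
    have h2 := h.Y_eq (b := 1) one_ne_zero
    rw [inv_one] at h2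
    exact h2
  have hc : ∀ c : F, Y c * r1N X Y (-1) = r1N X Y (-1) * X (-c) := by
    intro c
    have h2 := h.conjY 1 one_ne_zero c
    rw [one_mul, one_mul] at h2
    rw [← h.N_inv 1, ← h2]
    group
  have E1 : X a * Y 1 = Y (1 + a)⁻¹ * r1H X Y (1 + a) * X (a / (1 + a)) := by
    have hX := h.X_eq (s := 1 + a) h1
    have s1 : X a * Y 1 = X (1 + a) * r1N X Y (-1) * X 1 := by
      rw [hY1, ← mul_assoc, ← mul_assoc, h.addX, add_comm]
    have s2 : X (1 + a) * r1N X Y (-1) * X 1 =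
        Y (1 + a)⁻¹ * r1N X Y (1 + a) * (Y (1 + a)⁻¹ * r1N X Y (-1)) * X 1 := by
      conv_lhs => rw [hX]
      group
    have s3 : Y (1 + a)⁻¹ * r1N X Y (1 + a) * (Y (1 + a)⁻¹ * r1N X Y (-1)) * X 1 =
        Y (1 + a)⁻¹ * (r1N X Y (1 + a) * r1N X Y (-1)) * (X (-(1 + a)⁻¹) * X 1) := by
      rw [hc]; group
    have e4 : -(1 + a)⁻¹ + 1 = a / (1 + a) := by field_simp; ring
    rw [s1, s2, s3, h.addX, e4]
    rfl
  have E2 : X a * Y 1 =
      Y (1 + a)⁻¹ * (r1H X Y a * (r1H X Y (a / (1 + a)))⁻¹) * X (a / (1 + a)) := by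
    have hXa := h.X_eq (s := a) ha
    have hσ0 : a⁻¹ + 1 ≠ 0 := by
      intro h0
      apply h1
      have : a * (a⁻¹ + 1) = 1 + a := by field_simp
      rw [← this, h0, mul_zero]
    have hσi : (a⁻¹ + 1)⁻¹ = a / (1 + a) := by field_simp
    have hYσ := h.Y_eq (b := a⁻¹ + 1) hσ0
    rw [hσi] at hYσ
    have hcx := h.conjX a ha (a / (1 + a))
    have hNN : r1N X Y a * r1N X Y (-(a / (1 + a))) =
        r1H X Y a * (r1H X Y (a / (1 + a)))⁻¹ := by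
      unfold r1H
      rw [← h.N_inv (a / (1 + a))]
      group
    have s1 : X a * Y 1 = Y a⁻¹ * r1N X Y a * Y (a⁻¹ + 1) := by
      conv_lhs => rw [hXa]
      rw [mul_assoc, h.addY]
    have s2 : Y a⁻¹ * r1N X Y a * Y (a⁻¹ + 1) =
        Y a⁻¹ * (r1N X Y a * X (a / (1 + a)) * (r1N X Y a)⁻¹) *
          (r1N X Y a * r1N X Y (-(a / (1 + a)))) * X (a / (1 + a)) := by
      rw [hYσ]; group
    have e4 : a⁻¹ + -(a⁻¹ * a⁻¹ * (a / (1 + a))) = (1 + a)⁻¹ := by field_simp; ring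
    rw [s1, s2, hcx, hNN, h.addY, e4]
  have h3 := E1.symm.trans E2
  have h4 : r1H X Y (1 + a) = r1H X Y a * (r1H X Y (a / (1 + a)))⁻¹ :=
    mul_left_cancel (mul_right_cancel h3)
  rw [h4, inv_mul_cancel_right]

/-- Over a finite field, if the elements `h(t) h(u) h(tu)⁻¹` are central then they are trivial
(Steinberg). -/
theorem Rk1.H_mul_of_finite [Finite F] (h : Rk1 X Y)
    (hZ : ∀ t u : F, t ≠ 0 → u ≠ 0 → ∀ γ : Γ,
      γ * (r1H X Y t * r1H X Y u * (r1H X Y (t * u))⁻¹) =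
        (r1H X Y t * r1H X Y u * (r1H X Y (t * u))⁻¹) * γ) :
    ∀ t u : F, t ≠ 0 → u ≠ 0 → r1H X Y t * r1H X Y u = r1H X Y (t * u) := by
  obtain ⟨g, hg⟩ := IsCyclic.exists_monoid_generator (α := Fˣ)
  have hg0 : (g : F) ≠ 0 := Units.ne_zero g
  have hpow : ∀ t : F, t ≠ 0 → ∃ k : ℕ, t = (g : F) ^ k := by
    intro t ht
    obtain ⟨k, hk⟩ := (Submonoid.mem_powers_iff _ _).mp (hg (Units.mk0 t ht))
    refine ⟨k, ?_⟩
    have h2 := congrArg Units.val hk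
    rw [Units.val_pow_eq_pow_val, Units.val_mk0] at h2
    exact h2.symm
  -- every `h(t)` is a central multiple of a power of `h(g)`
  have hrep : ∀ k : ℕ, ∃ z : Γ, (∀ γ : Γ, Commute γ z) ∧
      r1H X Y ((g : F) ^ k) = z * r1H X Y (g : F) ^ k := by
    intro k
    induction k with
    | zero => exact ⟨1, fun γ => Commute.one_right γ, by rw [pow_zero, pow_zero, h.H_one, mul_one]⟩
    | succ k ih =>
      obtain ⟨z, hz, hk⟩ := ih
      obtain ⟨f, hfd⟩ : ∃ f : Γ, f = r1H X Y (g : F) * r1H X Y ((g : F) ^ k) *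
          (r1H X Y ((g : F) * (g : F) ^ k))⁻¹ := ⟨_, rfl⟩
      have hf : ∀ γ : Γ, Commute γ f := by
        intro γ
        rw [hfd]
        exact hZ (g : F) ((g : F) ^ k) hg0 (pow_ne_zero k hg0) γ
      refine ⟨f⁻¹ * z, fun γ => ((hf γ).inv_right).mul_right (hz γ), ?_⟩
      have e1 : r1H X Y ((g : F) ^ (k + 1)) =
          f⁻¹ * (r1H X Y (g : F) * r1H X Y ((g : F) ^ k)) := by
        rw [hfd, pow_succ']; group
      rw [e1, hk, pow_succ', mul_assoc f⁻¹ z, ← mul_assoc (r1H X Y (g : F)) z,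
        (hz (r1H X Y (g : F))).eq, mul_assoc]
  have hcomm : ∀ t u : F, t ≠ 0 → u ≠ 0 → r1H X Y t * r1H X Y u = r1H X Y u * r1H X Y t := by
    intro t u ht hu
    obtain ⟨k, rfl⟩ := hpow t ht
    obtain ⟨l, rfl⟩ := hpow u hu
    obtain ⟨z, hz, hk⟩ := hrep k
    obtain ⟨z', hz', hl⟩ := hrep l
    rw [hk, hl]
    exact (((hz _).symm).mul_left ((hz' _).mul_right (Commute.pow_pow_self _ k l))).eq
  have hsq : ∀ t v : F, t ≠ 0 → v ≠ 0 →
      r1H X Y (t * t) * r1H X Y v = r1H X Y (t * t * v) := by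
    intro t v ht hv
    have h4 := h.H_conj_H ht hv
    rw [hcomm t v ht hv, mul_inv_cancel_right] at h4
    rw [hcomm (t * t) v (mul_ne_zero ht ht) hv]
    conv_lhs => rw [h4]
    rw [inv_mul_cancel_right]
  have hcls : ∀ t : F, t ≠ 0 →
      (∃ s : F, s ≠ 0 ∧ t = s * s) ∨ (∃ s : F, s ≠ 0 ∧ t = s * s * (g : F)) := by
    intro t ht
    obtain ⟨k, rfl⟩ := hpow t ht
    rcases Nat.even_or_odd' k with ⟨m, rfl | rfl⟩
    · left; exact ⟨(g : F) ^ m, pow_ne_zero m hg0, by ring⟩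
    · right; exact ⟨(g : F) ^ m, pow_ne_zero m hg0, by ring⟩
  have comm4 : ∀ A B G : Γ, G * B = B * G → A * G * (B * G) = A * (B * (G * G)) := by
    intro A B G h2
    have h3 : B * (G * G) = G * (B * G) :=
      calc B * (G * G) = (B * G) * G := (mul_assoc _ _ _).symm
        _ = (G * B) * G := by rw [h2]
        _ = G * (B * G) := mul_assoc _ _ _
    rw [h3, mul_assoc]
  have hgg : r1H X Y (g : F) * r1H X Y (g : F) = r1H X Y ((g : F) * (g : F)) := by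
    by_cases hS : ∃ s : F, (g : F) = s * s
    · obtain ⟨s, hs⟩ := hS
      have hs0 : s ≠ 0 := by
        rintro rfl
        rw [mul_zero] at hs
        exact hg0 hs
      have h5 := hsq s (g : F) hs0 hg0
      rw [← hs] at h5
      exact h5
    · have := Fintype.ofFinite F
      have hchar : ringChar F ≠ 2 := by
        intro h2
        obtain ⟨s, hs⟩ := FiniteField.isSquare_of_char_two h2 (g : F)
        exact hS ⟨s, hs⟩
      have hodd := FiniteField.odd_card_of_char_ne_two hchar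
      obtain ⟨a, b, hab⟩ : ∃ a b : F, a * a + b * b = (g : F)⁻¹ := by
        obtain ⟨a, b, hab⟩ := FiniteField.exists_root_sum_quadratic (R := F)
          (f := Polynomial.X ^ 2) (g := Polynomial.X ^ 2 - Polynomial.C (g : F)⁻¹)
          (Polynomial.degree_X_pow 2) (Polynomial.degree_X_pow_sub_C (by decide) _) hodd
        refine ⟨a, b, ?_⟩
        simp only [Polynomial.eval_pow, Polynomial.eval_X, Polynomial.eval_sub,
          Polynomial.eval_C] at hab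
        linear_combination hab
      have hab' : (g : F) * (a * a + b * b) = 1 := by rw [hab, mul_inv_cancel₀ hg0]
      have ha : a ≠ 0 := by
        rintro rfl
        apply hS
        refine ⟨b⁻¹, ?_⟩
        rw [zero_mul, zero_add] at hab
        rw [← mul_inv, hab, inv_inv]
      have hb : b ≠ 0 := by
        rintro rfl
        apply hS
        refine ⟨a⁻¹, ?_⟩
        rw [mul_zero, add_zero] at hab
        rw [← mul_inv, hab, inv_inv]
      have hc0 : (g : F)⁻¹ * a⁻¹ ≠ 0 := mul_ne_zero (inv_ne_zero hg0) (inv_ne_zero ha)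
      have e3 : (g : F) * ((g : F)⁻¹ * a⁻¹) * ((g : F)⁻¹ * a⁻¹) - 1 =
          ((g : F)⁻¹ * a⁻¹) * ((g : F)⁻¹ * a⁻¹) * (b * b * ((g : F) * (g : F))) := by
        field_simp
        linear_combination (-1 : F) * hab'
      have e1 : 1 + ((g : F) * ((g : F)⁻¹ * a⁻¹) * ((g : F)⁻¹ * a⁻¹) - 1) =
          ((g : F)⁻¹ * a⁻¹) * ((g : F)⁻¹ * a⁻¹) * (g : F) := by ring
      have hα0 : (g : F) * ((g : F)⁻¹ * a⁻¹) * ((g : F)⁻¹ * a⁻¹) - 1 ≠ 0 := by
        rw [e3]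
        exact mul_ne_zero (mul_ne_zero hc0 hc0) (mul_ne_zero (mul_ne_zero hb hb)
          (mul_ne_zero hg0 hg0))
      have h1' : 1 + ((g : F) * ((g : F)⁻¹ * a⁻¹) * ((g : F)⁻¹ * a⁻¹) - 1) ≠ 0 := by
        rw [e1]
        exact mul_ne_zero (mul_ne_zero hc0 hc0) hg0
      have e2 : ((g : F) * ((g : F)⁻¹ * a⁻¹) * ((g : F)⁻¹ * a⁻¹) - 1) /
          (1 + ((g : F) * ((g : F)⁻¹ * a⁻¹) * ((g : F)⁻¹ * a⁻¹) - 1)) = b * b * (g : F) := by
        rw [div_eq_iff h1', e1, e3]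
        ring
      have key := h.gauss hα0 h1'
      rw [e2] at key
      rw [e1] at key
      rw [e3] at key
      have hbg : b * b * ((g : F) * (g : F)) ≠ 0 :=
        mul_ne_zero (mul_ne_zero hb hb) (mul_ne_zero hg0 hg0)
      rw [← hsq _ (g : F) hc0 hg0, ← hsq b (g : F) hb hg0, ← hsq _ _ hc0 hbg,
        ← hsq b _ hb (mul_ne_zero hg0 hg0)] at key
      exact mul_left_cancel (mul_left_cancel
        ((comm4 _ _ _ (hcomm (g : F) (b * b) hg0 (mul_ne_zero hb hb))).symm.trans key))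
  intro t u ht hu
  rcases hcls t ht with ⟨s, hs, rfl⟩ | ⟨s, hs, rfl⟩
  · exact hsq s u hs hu
  · rcases hcls u hu with ⟨s', hs', rfl⟩ | ⟨s', hs', rfl⟩
    · rw [hcomm _ _ ht hu, hsq s' _ hs' ht]
      congr 1
      ring
    · have e : s * s * (g : F) * (s' * s' * (g : F)) =
          s * s * (s' * s' * ((g : F) * (g : F))) := by ring
      have hgg0 : (g : F) * (g : F) ≠ 0 := mul_ne_zero hg0 hg0
      rw [e, ← hsq s (g : F) hs hg0, ← hsq s' (g : F) hs' hg0,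
        ← hsq s _ hs (mul_ne_zero (mul_ne_zero hs' hs') hgg0), ← hsq s' _ hs' hgg0, ← hgg]
      exact comm4 _ _ _ (hcomm (g : F) (s' * s') hg0 (mul_ne_zero hs' hs'))

end

end Cfsg.Agent.Helper36
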