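import Cfsg.Agent.Helper36.StCover
import Cfsg.Agent.Helper36.StCenter
import Cfsg.Agent.Helper36.StRankOne
import Cfsg.Agent.Helper17.ChevSL2Hom

/-!
# Relation (R3) is a consequence of (R1), (R2) over finite fields (helper36)

* `nGL_mul_x_self`, `nGL_mul_x_neg`: the action of `n_r(t)` on `x_{±r}` in the Chevalley group;
* `SCtx.rk1_simple`: the rank one relations `Rk1` in a group with Steinberg's relations;
* `SCtx.hMul`: over a finite field, `h̄_r(t) h̄_r(u) = h̄_r(tu)` for all roots;
* `coverEquiv`: the groups presented by (R1), (R2) and by (R1)-(R3) coincide over finite fields.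
-/

set_option autoImplicit false

namespace Cfsg.Agent.Helper36

open Cfsg Cfsg.Lie Cfsg.Agent.Helper17

section

variable {D : ChevalleyDatum} {F : Type*} [Field F]

theorem nWord_mem (m : ℕ) (t : F) : ∀ p ∈ D.nWord m t, p.1 = m ∨ p.1 = D.neg m := by
  intro p hp
  unfold ChevalleyDatum.nWord at hp
  simp only [List.mem_cons, List.not_mem_nil, or_false] at hp
  rcases hp with rfl | rfl | rfl <;> simp

/-- `n_m(t) x_m(a) = x_{-m}(-t⁻²a) n_m(t)` in the Chevalley group. -/
theorem nGL_mul_x_self (hX : XAdd D F) {m : ℕ} (hR : RankOne D m) (hC : CartanFacts D) {t : F}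
    (ht : t ≠ 0) (a : F) :
    nGL hX m t * xGL hX m a = xGL hX (D.neg m) (-(t⁻¹ * t⁻¹ * a)) * nGL hX m t := by
  have hw : wordGL hX (D.nWord m t ++ [(m, a)]) =
      wordGL hX ((D.neg m, -(t⁻¹ * t⁻¹ * a)) :: D.nWord m t) := by
    apply Units.ext
    rw [wordGL_val, wordGL_val]
    apply wordMat_eq_of_sl2Word_eq hR hC
    · intro p hp
      rcases List.mem_append.mp hp with h | h
      · exact nWord_mem m t p h
      · rw [List.mem_singleton] at h; left; rw [h]
    · intro p hp
      rcases List.mem_cons.mp hp with h | h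
      · right; rw [h]
      · exact nWord_mem m t p h
    · unfold sl2Word ChevalleyDatum.nWord
      simp only [List.map_cons, List.map_nil, List.prod_cons, List.prod_nil, List.cons_append,
        List.nil_append, if_true, if_neg hR.neg_ne]
      ext i j
      fin_cases i <;> fin_cases j <;>
        simp [sl2U, sl2L, Matrix.mul_apply, Fin.sum_univ_two, ht]
      all_goals (field_simp; try ring)
  rw [wordGL_append, wordGL_cons, wordGL_cons, wordGL_nil, mul_one] at hw
  exact hw

/-- `n_m(t) x_{-m}(a) = x_m(-t²a) n_m(t)` in the Chevalley group. -/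
theorem nGL_mul_x_neg (hX : XAdd D F) {m : ℕ} (hR : RankOne D m) (hC : CartanFacts D) {t : F}
    (ht : t ≠ 0) (a : F) :
    nGL hX m t * xGL hX (D.neg m) a = xGL hX m (-(t * t * a)) * nGL hX m t := by
  have hw : wordGL hX (D.nWord m t ++ [(D.neg m, a)]) =
      wordGL hX ((m, -(t * t * a)) :: D.nWord m t) := by
    apply Units.ext
    rw [wordGL_val, wordGL_val]
    apply wordMat_eq_of_sl2Word_eq hR hC
    · intro p hp
      rcases List.mem_append.mp hp with h | h
      · exact nWord_mem m t p h
      · rw [List.mem_singleton] at h; right; rw [h]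
    · intro p hp
      rcases List.mem_cons.mp hp with h | h
      · left; rw [h]
      · exact nWord_mem m t p h
    · unfold sl2Word ChevalleyDatum.nWord
      simp only [List.map_cons, List.map_nil, List.prod_cons, List.prod_nil, List.cons_append,
        List.nil_append, if_true, if_neg hR.neg_ne]
      ext i j
      fin_cases i <;> fin_cases j <;>
        simp [sl2U, sl2L, Matrix.mul_apply, Fin.sum_univ_two, ht]
      all_goals (field_simp; try ring)
  rw [wordGL_append, wordGL_cons, wordGL_cons, wordGL_nil, mul_one] at hw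
  exact hw

theorem hGL_mul (hX : XAdd D F) (hHD : HDiag D F) {r : ℕ} (hr : r < D.nroots) {t u : F}
    (ht : t ≠ 0) (hu : u ≠ 0) : hGL hX r t * hGL hX r u = hGL hX r (t * u) := by
  apply Units.ext
  rw [Units.val_mul, hGL_val, hGL_val, hGL_val, hHD r hr t ht, hHD r hr u hu,
    hHD r hr (t * u) (mul_ne_zero ht hu), Matrix.diagonal_mul_diagonal]
  congr 1
  funext b
  rcases b with j | s
  · simp
  · simp only [Sum.elim_inr]; rw [mul_zpow]

end

section

variable {D : ChevalleyDatum} {F : Type*} [Field F] {η : ℕ → ℕ → ℤ} {f₀ : ℕ → ℤ} {g : ℕ → ℕ → ℤ}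
  {Γ : Type*} [Group Γ] {x : ℕ → F → Γ} {θ : Γ →* GL D.Idx F}

/-- The rank one relations for a fundamental root in a group with Steinberg's relations. -/
theorem SCtx.rk1_simple (C : SCtx D F η f₀ g) (S : SRel D F x θ)
    (hR : ∀ r < D.nroots, RankOne D r) (hC : CartanFacts D) {i : ℕ} (hi : i < D.rank) :
    Rk1 (x (D.simple i)) (x (D.neg (D.simple i))) where
  addX := S.add _
  addY := S.add _
  conjX := by
    intro t ht a
    have W := C.R.wf
    have hp := W.simple_lt i hi
    have hG : nGL C.R.xadd (D.simple i) t * xGL C.R.xadd (D.simple i) a *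
        (nGL C.R.xadd (D.simple i) t)⁻¹ =
        xGL C.R.xadd (D.reflectRoot i (D.simple i)) (-(t⁻¹ * t⁻¹ * a)) := by
      rw [W.refl_simple i hi, nGL_mul_x_self C.R.xadd (hR _ hp) hC ht a, mul_inv_cancel_right]
    have h1 := C.conj_nS S hi ht hp a _ hG
    rw [W.refl_simple i hi] at h1
    exact h1
  conjY := by
    intro t ht a
    have W := C.R.wf
    have hp := W.simple_lt i hi
    have hrefl : D.reflectRoot i (D.neg (D.simple i)) = D.simple i := by
      rw [W.refl_neg i hi _ hp, W.refl_simple i hi, W.neg_neg _ hp]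
    have hG : nGL C.R.xadd (D.simple i) t * xGL C.R.xadd (D.neg (D.simple i)) a *
        (nGL C.R.xadd (D.simple i) t)⁻¹ =
        xGL C.R.xadd (D.reflectRoot i (D.neg (D.simple i))) (-(t * t * a)) := by
      rw [hrefl, nGL_mul_x_neg C.R.xadd (hR _ hp) hC ht a, mul_inv_cancel_right]
    have h1 := C.conj_nS S hi ht (W.neg_lt _ hp) a _ hG
    rw [hrefl] at h1
    exact h1

/-- Over a finite field `h̄_p(t) h̄_p(u) = h̄_p(tu)` for the fundamental roots `p`. -/
theorem SCtx.hMul_simple [Finite F] (C : SCtx D F η f₀ g) (S : SRel D F x θ)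
    (hR : ∀ r < D.nroots, RankOne D r) (hC : CartanFacts D) (hHD : HDiag D F) {i : ℕ}
    (hi : i < D.rank) : ∀ t u : F, t ≠ 0 → u ≠ 0 →
      hS D x (D.simple i) t * hS D x (D.simple i) u = hS D x (D.simple i) (t * u) := by
  have hk := C.rk1_simple S hR hC hi
  have hp := C.R.wf.simple_lt i hi
  apply hk.H_mul_of_finite
  intro t u ht hu γ
  have hker : θ (hS D x (D.simple i) t * hS D x (D.simple i) u *
      (hS D x (D.simple i) (t * u))⁻¹) = 1 := by
    rw [map_mul, map_mul, map_inv, S.map_hS C.R.xadd, S.map_hS C.R.xadd, S.map_hS C.R.xadd,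
      hGL_mul C.R.xadd hHD hp ht hu, mul_inv_cancel]
  exact Subgroup.mem_center_iff.mp (C.ker_le S _ hker).2 γ

/-- Over a finite field relation (R3) holds in every group with the relations (R1), (R2) mapping
to the Chevalley group. -/
theorem SCtx.hMul [Finite F] (C : SCtx D F η f₀ g) (S : SRel D F x θ)
    (hR : ∀ r < D.nroots, RankOne D r) (hC : CartanFacts D) (hHD : HDiag D F) : HMul D x := by
  intro r hr t u ht hu
  have W := C.R.wf
  obtain ⟨L, hL, i, hi, hw⟩ := W.reach r hr
  have hp := W.simple_lt i hi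
  have hm := C.hMul_simple S hR hC hHD hi
  have hconj : ∀ c : F, nWS D x L * nS D x (D.simple i) c * (nWS D x L)⁻¹ =
      nS D x r ((eW D η L (D.simple i) : F) * c) := by
    intro c
    have h1 := C.conj_nWS_nS S hL hp c
    rw [hw] at h1
    exact h1
  have hkmul : ∀ t u : F, t ≠ 0 → u ≠ 0 →
      (nWS D x L * hS D x (D.simple i) t * (nWS D x L)⁻¹) *
        (nWS D x L * hS D x (D.simple i) u * (nWS D x L)⁻¹) =
      nWS D x L * hS D x (D.simple i) (t * u) * (nWS D x L)⁻¹ := by
    intro t u ht hu
    rw [← hm t u ht hu]; group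
  have hsplit : ∀ t : F, nWS D x L * hS D x (D.simple i) t * (nWS D x L)⁻¹ =
      (nWS D x L * nS D x (D.simple i) t * (nWS D x L)⁻¹) *
        (nWS D x L * nS D x (D.simple i) (-1) * (nWS D x L)⁻¹) := by
    intro t; unfold hS; group
  have hkeq : ∀ t : F, t ≠ 0 →
      nWS D x L * hS D x (D.simple i) t * (nWS D x L)⁻¹ = hS D x r t := by
    rcases C.R.eW_sgn hL hp with he | he
    · intro t _
      rw [hsplit, hconj, hconj, he]
      unfold hS
      simp
    · have hk : ∀ t : F, nWS D x L * hS D x (D.simple i) t * (nWS D x L)⁻¹ =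
          hS D x r (-t) * (hS D x r (-1))⁻¹ := by
        intro t
        rw [hsplit, hconj, hconj, he]
        have e1 : (((-1 : ℤ) : F)) * t = -t := by push_cast; ring
        have e2 : (((-1 : ℤ) : F)) * (-1) = 1 := by push_cast; ring
        rw [e1, e2, ← S.nS_one_sq r]
        unfold hS
        rw [← S.nS_inv r 1]
        group
      intro t ht
      have h1 : hS D x r 1 = 1 := by unfold hS; rw [← S.nS_inv r 1, mul_inv_cancel]
      have h1i : hS D x (D.simple i) 1 = 1 := by
        unfold hS; rw [← S.nS_inv _ 1, mul_inv_cancel]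
      have hkm1 : nWS D x L * hS D x (D.simple i) (-1) * (nWS D x L)⁻¹ = (hS D x r (-1))⁻¹ := by
        rw [hk (-1), neg_neg, h1, one_mul]
      have hk1 : nWS D x L * hS D x (D.simple i) 1 * (nWS D x L)⁻¹ = 1 := by
        rw [h1i]; group
      have hsq : (hS D x r (-1))⁻¹ * (hS D x r (-1))⁻¹ = 1 := by
        have h2 := hkmul (-1) (-1) (neg_ne_zero.mpr one_ne_zero) (neg_ne_zero.mpr one_ne_zero)
        have e : (-1 : F) * (-1) = 1 := by ring
        rw [hkm1, e, hk1] at h2
        exact h2
      have hkt := hk (-t)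
      rw [neg_neg] at hkt
      have hmul := hkmul (-t) (-1) (neg_ne_zero.mpr ht) (neg_ne_zero.mpr one_ne_zero)
      have e : (-t) * (-1 : F) = t := by ring
      rw [e, hkt, hkm1] at hmul
      rw [← hmul, mul_assoc, hsq, mul_one]
  rw [← hkeq t ht, ← hkeq u hu, ← hkeq (t * u) (mul_ne_zero ht hu)]
  exact hkmul t u ht hu

end

section

variable (D : ChevalleyDatum) {K : Type*} [Field K]

theorem mk_scH (r : ℕ) (t : K) :
    PresentedGroup.mk (D.steinbergRelsAB K) (D.stH r t) = hS D (D.scGen K) r t := by
  unfold ChevalleyDatum.stH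
  rw [mk_scWord]
  unfold ChevalleyDatum.hWord ChevalleyDatum.nWord hS nS
  simp only [sW_append, sW_cons, sW_nil, mul_one, mul_assoc]

theorem lift_of_eq_mk {α : Type*} (rels : Set (FreeGroup α)) (w : FreeGroup α) :
    FreeGroup.lift (fun p => (PresentedGroup.of p : PresentedGroup rels)) w =
      PresentedGroup.mk rels w := by
  have h : FreeGroup.lift (fun p => (PresentedGroup.of p : PresentedGroup rels)) =
      PresentedGroup.mk rels := by
    ext p
    simp [PresentedGroup.of]
  rw [h]

/-- The canonical homomorphism from the group presented by (R1), (R2) to the group presented by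
(R1)-(R3). -/
noncomputable def coverToSt : D.SteinbergCover K →* D.SteinbergGroup K :=
  PresentedGroup.toGroup (rels := D.steinbergRelsAB K)
    (f := fun p => (PresentedGroup.of p : D.SteinbergGroup K))
    (fun r hr => by
      rw [lift_of_eq_mk]
      exact PresentedGroup.one_of_mem (relsAB_subset D hr))

theorem coverToSt_mk (w : FreeGroup (Fin D.nroots × K)) :
    coverToSt D (PresentedGroup.mk (D.steinbergRelsAB K) w) =
      PresentedGroup.mk (D.steinbergRels K) w :=
  lift_of_eq_mk (D.steinbergRels K) w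

/-- The homomorphism back, when (R3) holds in the group presented by (R1), (R2). -/
noncomputable def stToCover (hm : HMul D (D.scGen K)) : D.SteinbergGroup K →* D.SteinbergCover K :=
  PresentedGroup.toGroup (rels := D.steinbergRels K)
    (f := fun p => (PresentedGroup.of p : D.SteinbergCover K))
    (fun r hr => by
      rw [lift_of_eq_mk]
      rcases hr with hr | ⟨r', t₁, t₂, hr', ht₁, ht₂, rfl⟩
      · exact PresentedGroup.one_of_mem hr
      · rw [map_mul, map_mul, map_inv, mk_scH, mk_scH, mk_scH, hm r' hr' t₁ t₂ ht₁ ht₂,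
          mul_inv_cancel])

/-- The groups presented by (R1), (R2) and by (R1)-(R3) coincide when (R3) holds in the first. -/
noncomputable def coverEquiv (hm : HMul D (D.scGen K)) :
    D.SteinbergCover K ≃* D.SteinbergGroup K :=
  MonoidHom.toMulEquiv (coverToSt D) (stToCover D hm)
    (PresentedGroup.ext (fun p => by
      rw [MonoidHom.comp_apply, MonoidHom.id_apply]
      unfold coverToSt stToCover
      rw [PresentedGroup.toGroup.of, PresentedGroup.toGroup.of]))
    (PresentedGroup.ext (fun p => by
      rw [MonoidHom.comp_apply, MonoidHom.id_apply]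
      unfold coverToSt stToCover
      rw [PresentedGroup.toGroup.of, PresentedGroup.toGroup.of]))

theorem coverEquiv_scGen (hm : HMul D (D.scGen K)) (r : ℕ) (t : K) :
    coverEquiv D hm (D.scGen K r t) = D.stGen K r t := by
  unfold ChevalleyDatum.scGen ChevalleyDatum.stGen
  exact coverToSt_mk D _

/-- Relation (R3) in the group presented by (R1), (R2), over a finite field. -/
theorem scHMul [Finite K] (hD : D ∈ [chevG2, chevB2, chevD4, chevF4, chevE6, chevE7, chevE8]) :
    HMul D (D.scGen K) := by
  obtain ⟨f₀, g, C⟩ := sCtx_of_mem (F := K) hD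
  have S := sRel_cover D (scTheta (K := K) D hD) (fun r t _ => scTheta_val D hD r t)
  exact C.hMul S (fun r hr => rankOne_of_mem hD hr) (cartanFacts_of_mem hD)
    (hDiag_of_mem hD)

end

end Cfsg.Agent.Helper36
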