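import Cfsg.Agent.Helper36.Ree7
import Cfsg.Agent.Helper36.StR3

/-!
# The subgroups `B¹`, `N¹` of the Ree group (helper36)
-/

set_option autoImplicit false

namespace Cfsg.Agent.Helper36

open Cfsg Cfsg.Lie

theorem mul3_comm {M : Type*} [Monoid M] (a₁ a₂ a₃ b₁ b₂ b₃ : M) (h12 : Commute b₁ a₂)
    (h13 : Commute b₁ a₃) (h23 : Commute b₂ a₃) :
    (a₁ * b₁) * (a₂ * b₂) * (a₃ * b₃) = (a₁ * a₂ * a₃) * (b₁ * b₂ * b₃) := by
  calc (a₁ * b₁) * (a₂ * b₂) * (a₃ * b₃) = a₁ * (b₁ * a₂) * b₂ * (a₃ * b₃) := by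
        simp only [mul_assoc]
    _ = a₁ * (a₂ * b₁) * b₂ * (a₃ * b₃) := by rw [h12.eq]
    _ = a₁ * a₂ * ((b₁ * b₂) * a₃) * b₃ := by simp only [mul_assoc]
    _ = a₁ * a₂ * (a₃ * (b₁ * b₂)) * b₃ := by rw [(h13.mul_left h23).eq]
    _ = _ := by simp only [mul_assoc]

section ree8

variable {K : Type*} [Field K] [CharP K 3] {m : ℕ} {σ : ↥(chevG2.group K) →* ↥(chevG2.group K)}

theorem g2_comm_8_1 (hX : XAdd chevG2 K) (t u : K) : Commute (xGL hX 8 t) (xGL hX 1 u) := by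
  have R := bRel_of_mem (F := K) g2_mem
  have hc : chevG2.commTerms 8 1 = [] := by decide
  have h := cf_xGL hX (R.cf 8 (by decide) 1 (by decide) (by decide) (by decide)) t u
  simp only [ChevalleyDatum.commWord, hc, List.map_nil, wordGL_nil, mul_one] at h
  exact h.symm

theorem g2_comm_3_10 (hX : XAdd chevG2 K) (t u : K) : Commute (xGL hX 3 t) (xGL hX 10 u) := by
  have R := bRel_of_mem (F := K) g2_mem
  have hc : chevG2.commTerms 3 10 = [] := by decide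
  have h := cf_xGL hX (R.cf 3 (by decide) 10 (by decide) (by decide) (by decide)) t u
  simp only [ChevalleyDatum.commWord, hc, List.map_nil, wordGL_nil, mul_one] at h
  exact h.symm

/-- The element `n_{a+b}(1) n_{3a+b}(1)`. -/
noncomputable def reeN0 (hX : XAdd chevG2 K) : GL chevG2.Idx K := nGL hX 8 1 * nGL hX 10 1

theorem reeU010 (hX : XAdd chevG2 K) (m : ℕ) (u : K) :
    wordGL hX (reeWordU (3 ^ m) 0 u 0) = xGL hX 8 (frT K m u) * xGL hX 10 u := by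
  rw [wordGL_reeU]
  simp [w4, xGL_zero]

theorem reeV010 (hX : XAdd chevG2 K) (m : ℕ) (u : K) :
    wordGL hX (reeWordV (3 ^ m) 0 u 0) = xGL hX 3 (-frT K m u) * xGL hX 1 (-u) := by
  rw [wordGL_reeV]
  simp [w4, xGL_zero]

theorem reeN0_eq (hX : XAdd chevG2 K) (m : ℕ) :
    reeN0 hX = wordGL hX (reeWordU (3 ^ m) 0 1 0) * wordGL hX (reeWordV (3 ^ m) 0 1 0) *
      wordGL hX (reeWordU (3 ^ m) 0 1 0) := by
  rw [reeU010, reeV010, map_one]
  unfold reeN0
  rw [nGL_eq, nGL_eq]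
  have e8 : chevG2.neg 8 = 3 := rfl
  have e10 : chevG2.neg 10 = 1 := rfl
  rw [e8, e10, inv_one]
  exact (mul3_comm _ _ _ _ _ _ (g2_comm_3_10 hX _ _).symm ((six_pos hX).ce _ _).symm
    (g2_comm_8_1 hX _ _).symm).symm

theorem reeN0_mem_G1 [Fintype K] (hX : XAdd chevG2 K) (m : ℕ) :
    reeN0 hX ∈ twistedG2 K (3 ^ m) := by
  rw [reeN0_eq hX m]
  exact mul_mem (mul_mem (reeU_mem_G1 hX _ _ _) (reeV_mem_G1 hX _ _ _)) (reeU_mem_G1 hX _ _ _)

theorem reeN0_mem_N (hX : XAdd chevG2 K) : reeN0 hX ∈ chevG2.monomialSubgroup K := by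
  unfold reeN0
  exact mul_mem
    (Subgroup.mem_sup_right (Subgroup.subset_closure ⟨8, by decide, nGL_val hX 8 1⟩))
    (Subgroup.mem_sup_right (Subgroup.subset_closure ⟨10, by decide, nGL_val hX 10 1⟩))

theorem reeN0_not_mem_B (hX : XAdd chevG2 K) : reeN0 hX ∉ chevG2.borelSubgroup K := by
  have R := bRel_of_mem (F := K) g2_mem
  intro h
  have h1 : reeN0 hX * xGL hX 8 1 * (reeN0 hX)⁻¹ ∈ chevG2.borelSubgroup K :=
    mul_mem (mul_mem h (BRel.U_le_B _ _ (xGL_mem_posUnipotent hX (by decide) _))) (inv_mem h)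
  have hc : Commute (nGL hX 10 1) (xGL hX 8 1) := by
    rw [nGL_eq]
    have e10 : chevG2.neg 10 = 1 := rfl
    rw [e10]
    exact (((six_pos hX).ce _ _).symm.mul_left (g2_comm_8_1 hX _ _).symm).mul_left
      ((six_pos hX).ce _ _).symm
  have hs := nGL_mul_x_self hX (Cfsg.Agent.Helper17.rankOne_of_mem g2_mem (by decide : 8 < chevG2.nroots))
    (Cfsg.Agent.Helper17.cartanFacts_of_mem g2_mem) (one_ne_zero : (1 : K) ≠ 0) 1
  have e : reeN0 hX * xGL hX 8 1 * (reeN0 hX)⁻¹ = xGL hX (chevG2.neg 8) (-(1⁻¹ * 1⁻¹ * 1)) := by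
    unfold reeN0
    have e1 : nGL hX 8 1 * nGL hX 10 1 * xGL hX 8 1 * (nGL hX 8 1 * nGL hX 10 1)⁻¹ =
        nGL hX 8 1 * (nGL hX 10 1 * xGL hX 8 1) * (nGL hX 10 1)⁻¹ * (nGL hX 8 1)⁻¹ := by group
    rw [e1, hc.eq]
    have e2 : nGL hX 8 1 * (xGL hX 8 1 * nGL hX 10 1) * (nGL hX 10 1)⁻¹ * (nGL hX 8 1)⁻¹ =
        (nGL hX 8 1 * xGL hX 8 1) * (nGL hX 8 1)⁻¹ := by group
    rw [e2, hs]
    group
  rw [e] at h1
  have e8 : chevG2.neg 8 = 3 := rfl
  rw [e8] at h1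
  exact R.xneg_not_mem_B (by decide : chevG2.IsNegRoot 3) (by simp) h1

theorem reeN0_not_mem_H (hX : XAdd chevG2 K) : reeN0 hX ∉ chevG2.diagonalSubgroup K :=
  fun h => reeN0_not_mem_B hX (BRel.H_le_B _ _ h)

theorem g2N0_sq : g2N0 K * g2N0 K ∈ chevG2.diagonalSubgroup K := by
  have R := bRel_of_mem (F := K) g2_mem
  apply R.mem_H_of_conj (mul_mem g2N0_mem g2N0_mem)
  intro i hi
  have e : (g2N0 K * g2N0 K)⁻¹ * xGL R.xadd (chevG2.simple i) 1 * (g2N0 K * g2N0 K) =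
      (g2N0 K)⁻¹ * ((g2N0 K)⁻¹ * xGL R.xadd (chevG2.simple i) 1 * g2N0 K) * g2N0 K := by group
  rw [e]
  exact BRel.U_le_B _ _ (g2N0_inv_conj_V _ (g2N0_inv_conj_U _
    (xGL_mem_posUnipotent _ (R.wf.simple_pos i hi) _)))

variable [Fintype K]

/-- The Bruhat decomposition in the Ree group. -/
theorem ree_bruhat (hK : Fintype.card K = 3 ^ (2 * m + 1)) (hσ : ReeSig m σ)
    {g : GL chevG2.Idx K} (hg : g ∈ twistedG2 K (3 ^ m)) :
    ∃ u₁ ∈ chevG2.posUnipotent K ⊓ twistedG2 K (3 ^ m),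
      ∃ n ∈ chevG2.monomialSubgroup K ⊓ twistedG2 K (3 ^ m),
      ∃ u₂ ∈ chevG2.posUnipotent K ⊓ twistedG2 K (3 ^ m), g = u₁ * n * u₂ := by
  have hX := xAdd_of_mem (F := K) g2_mem
  obtain ⟨u₁, hu₁, n, hn, u₂, hu₂, rfl⟩ := ree_sig_bruhat hK hσ (twistedG2_le_sigFix hK hσ hg)
  have h1 : u₁ ∈ twistedG2 K (3 ^ m) := by
    obtain ⟨t, u, v, rfl⟩ := g2_U_fixed hK hσ hX hu₁.1 hu₁.2.2
    exact reeU_mem_G1 hX t u v
  have h2 : u₂ ∈ twistedG2 K (3 ^ m) := by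
    obtain ⟨t, u, v, rfl⟩ := g2_U_fixed hK hσ hX hu₂.1 hu₂.2.2
    exact reeU_mem_G1 hX t u v
  have h3 : n ∈ twistedG2 K (3 ^ m) := by
    have : u₁⁻¹ * (u₁ * n * u₂) * u₂⁻¹ ∈ twistedG2 K (3 ^ m) :=
      mul_mem (mul_mem (inv_mem h1) hg) (inv_mem h2)
    have e : u₁⁻¹ * (u₁ * n * u₂) * u₂⁻¹ = n := by group
    rwa [e] at this
  exact ⟨u₁, Subgroup.mem_inf.mpr ⟨hu₁.1, h1⟩, n, Subgroup.mem_inf.mpr ⟨hn.1, h3⟩, u₂,
    Subgroup.mem_inf.mpr ⟨hu₂.1, h2⟩, rfl⟩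

/-- The elements of `N ⊓ G¹` outside `H` lie in `H n₀⁻¹`. -/
theorem ree_N_cases (hK : Fintype.card K = 3 ^ (2 * m + 1)) (hσ : ReeSig m σ)
    {n : GL chevG2.Idx K} (hn : n ∈ chevG2.monomialSubgroup K) (hG : n ∈ twistedG2 K (3 ^ m))
    (hH : n ∉ chevG2.diagonalSubgroup K) : n * g2N0 K ∈ chevG2.diagonalSubgroup K := by
  rcases ree_N_dich hσ hn (twistedG2_le_sigFix hK hσ hG).2 with h | h
  · exact absurd h hH
  · exact h

/-- The product of two elements of `N ⊓ G¹` outside `H` lies in `H`. -/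
theorem ree_N_mul (hK : Fintype.card K = 3 ^ (2 * m + 1)) (hσ : ReeSig m σ)
    {a b : GL chevG2.Idx K} (ha : a ∈ chevG2.monomialSubgroup K) (haG : a ∈ twistedG2 K (3 ^ m))
    (haH : a ∉ chevG2.diagonalSubgroup K) (hb : b ∈ chevG2.monomialSubgroup K)
    (hbG : b ∈ twistedG2 K (3 ^ m)) (hbH : b ∉ chevG2.diagonalSubgroup K) :
    a * b ∈ chevG2.diagonalSubgroup K := by
  have R := bRel_of_mem (F := K) g2_mem
  have h1 := ree_N_cases hK hσ ha haG haH
  have h2 := ree_N_cases hK hσ hb hbG hbH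
  have e : a * b = (a * g2N0 K) * ((g2N0 K)⁻¹ * (b * g2N0 K) * g2N0 K) * (g2N0 K * g2N0 K)⁻¹ := by
    group
  rw [e]
  exact mul_mem (mul_mem h1 (R.N_conj_H' _ g2N0_mem _ h2)) (inv_mem g2N0_sq)

/-- `N¹ / H¹` has order two. -/
theorem ree_N_quot (hK : Fintype.card K = 3 ^ (2 * m + 1)) (hσ : ReeSig m σ) :
    ∃ φ : ↥(chevG2.monomialSubgroup K ⊓ twistedG2 K (3 ^ m)) →* Multiplicative (ZMod 2),
      Function.Surjective φ ∧
      φ.ker = (chevG2.diagonalSubgroup K ⊓ twistedG2 K (3 ^ m)).subgroupOf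
        (chevG2.monomialSubgroup K ⊓ twistedG2 K (3 ^ m)) := by
  classical
  have hX := xAdd_of_mem (F := K) g2_mem
  let f : ↥(chevG2.monomialSubgroup K ⊓ twistedG2 K (3 ^ m)) → Multiplicative (ZMod 2) :=
    fun n => if (n : GL chevG2.Idx K) ∈ chevG2.diagonalSubgroup K then 1
      else Multiplicative.ofAdd (1 : ZMod 2)
  have hmul : ∀ a b, f (a * b) = f a * f b := by
    intro a b
    simp only [f]
    by_cases ha : (a : GL chevG2.Idx K) ∈ chevG2.diagonalSubgroup K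
    · by_cases hb : (b : GL chevG2.Idx K) ∈ chevG2.diagonalSubgroup K
      · rw [if_pos ha, if_pos hb, if_pos (by rw [Subgroup.coe_mul]; exact mul_mem ha hb)]
        rfl
      · have hab : ((a * b : ↥(chevG2.monomialSubgroup K ⊓ twistedG2 K (3 ^ m))) :
            GL chevG2.Idx K) ∉ chevG2.diagonalSubgroup K := by
          rw [Subgroup.coe_mul]
          intro h
          apply hb
          have := mul_mem (inv_mem ha) h
          rwa [inv_mul_cancel_left] at this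
        rw [if_pos ha, if_neg hb, if_neg hab]
        rfl
    · by_cases hb : (b : GL chevG2.Idx K) ∈ chevG2.diagonalSubgroup K
      · have hab : ((a * b : ↥(chevG2.monomialSubgroup K ⊓ twistedG2 K (3 ^ m))) :
            GL chevG2.Idx K) ∉ chevG2.diagonalSubgroup K := by
          rw [Subgroup.coe_mul]
          intro h
          apply ha
          have := mul_mem h (inv_mem hb)
          rwa [mul_inv_cancel_right] at this
        rw [if_neg ha, if_pos hb, if_neg hab]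
        rfl
      · have hab : ((a * b : ↥(chevG2.monomialSubgroup K ⊓ twistedG2 K (3 ^ m))) :
            GL chevG2.Idx K) ∈ chevG2.diagonalSubgroup K := by
          rw [Subgroup.coe_mul]
          exact ree_N_mul hK hσ a.2.1 a.2.2 ha b.2.1 b.2.2 hb
        rw [if_neg ha, if_neg hb, if_pos hab]
        rfl
  refine ⟨MonoidHom.mk' f hmul, ?_, ?_⟩
  · intro y
    have h01 : ∀ z : ZMod 2, z = 0 ∨ z = 1 := by decide
    rcases h01 (Multiplicative.toAdd y) with h | h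
    · refine ⟨1, ?_⟩
      show f 1 = y
      simp only [f]
      rw [if_pos (by rw [Subgroup.coe_one]; exact one_mem _)]
      exact (Multiplicative.toAdd.injective h).symm
    · refine ⟨⟨reeN0 hX, Subgroup.mem_inf.mpr ⟨reeN0_mem_N hX, reeN0_mem_G1 hX m⟩⟩, ?_⟩
      show f _ = y
      simp only [f]
      rw [if_neg (reeN0_not_mem_H hX)]
      exact (Multiplicative.toAdd.injective h).symm
  · ext n
    rw [MonoidHom.mem_ker, Subgroup.mem_subgroupOf, Subgroup.mem_inf]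
    show f n = 1 ↔ _
    simp only [f]
    constructor
    · intro h
      by_cases hn : (n : GL chevG2.Idx K) ∈ chevG2.diagonalSubgroup K
      · exact ⟨hn, n.2.2⟩
      · rw [if_neg hn] at h
        exact absurd h (by decide)
    · rintro ⟨hn, -⟩
      rw [if_pos hn]

end ree8

end Cfsg.Agent.Helper36
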