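import Cfsg.Agent.Helper36.Ree8
import Cfsg.Agent.Helper57.ReeData

/-!
# The involution `h_a(-1) h_b(-1)` lies in the Ree group (helper36)

A word identity over `𝔽₃`, checked with the bit-plane vectors of helper57 (`Helper57/R3Vec`,
`Helper57/ReeData`), and transported to every field of characteristic 3.
-/

set_option autoImplicit false

namespace Cfsg.Agent.Helper36

open Cfsg Cfsg.Lie Cfsg.Agent.Helper57 Matrix

theorem r3x_mulVec {r : ℕ} (hr : r < 12) (t : ZMod 3) (z : ℕ) :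
    (chevG2.x (ZMod 3) r t) *ᵥ r3Vec z = r3Vec (r3MvK (r3SpN r t.val) z) := by
  have h : chevG2.x (ZMod 3) r t = r3Mat (r3SpN r t.val) := by
    unfold ChevalleyDatum.x
    rw [dif_pos (show r < chevG2.nroots from hr)]
    exact r3_xmat t ⟨r, hr⟩
  rw [h, r3MvK_spec _ (r3Sp_lt t ⟨r, hr⟩)]

theorem r3word_mulVec (w : List (ℕ × ZMod 3)) (hw : ∀ e ∈ w, e.1 < 12) (z : ℕ) :
    (chevG2.wordMat (ZMod 3) w) *ᵥ r3Vec z = r3Vec (r3WordAct w z) := by
  induction w with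
  | nil => simp [ChevalleyDatum.wordMat, r3WordAct]
  | cons e w ih =>
    rw [wordMat_cons', ← Matrix.mulVec_mulVec,
      ih (fun e' he' => hw e' (List.mem_cons_of_mem _ he')), r3x_mulVec (hw e List.mem_cons_self)]
    rfl

theorem r3word_eq (w w' : List (ℕ × ZMod 3)) (hw : ∀ e ∈ w, e.1 < 12) (hw' : ∀ e ∈ w', e.1 < 12)
    (h : ∀ j : Fin 14, r3WordAct w (1 <<< j.val) = r3WordAct w' (1 <<< j.val)) :
    chevG2.wordMat (ZMod 3) w = chevG2.wordMat (ZMod 3) w' := by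
  ext i k
  have h1 := congrFun (r3word_mulVec w hw (1 <<< r3Num k)) i
  have h2 := congrFun (r3word_mulVec w' hw' (1 <<< r3Num k)) i
  rw [r3_unit k] at h1 h2
  simp only [Matrix.mulVec_single_one, Matrix.col_apply] at h1 h2
  rw [h1, h2, h ⟨r3Num k, r3Num_lt k⟩]

/-- A word in the generators over `𝔽₃` with product `h_a(-1) h_b(-1)`. -/
def reeIW : List (ℕ × ZMod 3) :=
  reeWordU 1 0 0 1 ++ reeWordV 1 0 1 0 ++ reeWordU 1 0 2 2 ++ reeWordV 1 1 1 2

theorem reeIW_lt : ∀ e ∈ reeIW, e.1 < 12 := by decide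

theorem reeIH_lt : ∀ e ∈ (chevG2.hWord 7 (-1 : ZMod 3) ++ chevG2.hWord 6 (-1 : ZMod 3)), e.1 < 12 := by
  decide

set_option maxRecDepth 100000 in
theorem reeIW_act : ∀ j : Fin 14, r3WordAct reeIW (1 <<< j.val) =
    r3WordAct (chevG2.hWord 7 (-1 : ZMod 3) ++ chevG2.hWord 6 (-1 : ZMod 3)) (1 <<< j.val) := by
  decide +kernel

theorem reeIW_eq : chevG2.wordMat (ZMod 3) reeIW =
    chevG2.wordMat (ZMod 3) (chevG2.hWord 7 (-1 : ZMod 3) ++ chevG2.hWord 6 (-1 : ZMod 3)) :=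
  r3word_eq _ _ reeIW_lt reeIH_lt reeIW_act

end Cfsg.Agent.Helper36
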