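import Mathlib
import Cfsg.Prelude.Def_GeometricClasses
import Cfsg.Prelude.Def_Classical
import Cfsg.Agent.Helper65.S74Defs
import Cfsg.Agent.Helper98.ELPMain
import Cfsg.Agent.Helper76.O12L2

set_option autoImplicit false
set_option linter.unusedSectionVars false
set_option linter.unusedVariables false

/-!
# CALL S74 (helper65; row S5974), stage T2B (`r = p = 2`, direction `⟹`) - helper36

Bad element: the Siegel element `x = [[1, A], [0, 1]]`, `A = T - Tᵀ` invertible (`d` even).  Every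
`x`-invariant nondegenerate subspace has dimension divisible by `4`.
-/

namespace Cfsg.Agent.Helper36.S74

open Module Cfsg Cfsg.Geo Cfsg.Agent.Helper65.S74
open scoped MatrixGroups

section core

variable {F : Type*} [Field F]

/-- abstract core: a nondegenerate bilinear form `B` and an endomorphism `h` with `h ∘ h = 0`,
`B v (h v) = 0` and isotropic kernel live in dimension divisible by `4`. -/
theorem t2b_alt_four {W : Type*} [AddCommGroup W] [Module F W] [FiniteDimensional F W]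
    (B : LinearMap.BilinForm F W) (hB : B.Nondegenerate) (h : W →ₗ[F] W)
    (hb : ∀ v, B v (h v) = 0) (hc : ∀ u v, h u = 0 → h v = 0 → B u v = 0)
    (hd : ∀ v, h (h v) = 0) : 4 ∣ Module.finrank F W := by
  classical
  obtain ⟨C, hC⟩ := Submodule.exists_isCompl (LinearMap.ker h)
  have hdim : finrank F (LinearMap.ker h) + finrank F C = finrank F W :=
    Submodule.finrank_add_eq_of_isCompl hC
  have hrn : finrank F (LinearMap.range h) + finrank F (LinearMap.ker h) = finrank F W :=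
    LinearMap.finrank_range_add_finrank_ker h
  have hRK : LinearMap.range h ≤ LinearMap.ker h := by
    rintro _ ⟨v, rfl⟩
    exact LinearMap.mem_ker.mpr (hd v)
  have h1 : finrank F (LinearMap.range h) ≤ finrank F (LinearMap.ker h) :=
    Submodule.finrank_mono hRK
  have hKo : LinearMap.ker h ≤ B.orthogonal (LinearMap.ker h) := by
    intro v hv u hu
    exact hc u v (LinearMap.mem_ker.mp hu) (LinearMap.mem_ker.mp hv)
  have h2 := LinearMap.BilinForm.finrank_orthogonal hB (LinearMap.ker h)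
  have h3 : finrank F (LinearMap.ker h) ≤ finrank F (B.orthogonal (LinearMap.ker h)) :=
    Submodule.finrank_mono hKo
  let β : LinearMap.BilinForm F C := B.compl₁₂ C.subtype (h ∘ₗ C.subtype)
  have hβ : ∀ u v : C, β u v = B (u : W) (h (v : W)) := fun u v => rfl
  have halt : β.IsAlt := fun v => by rw [hβ]; exact hb _
  have hsr : ∀ y : C, (∀ x : C, β x y = 0) → y = 0 := by
    intro y hy
    have hall : ∀ w : W, B w (h (y : W)) = 0 := by
      intro w
      have hw : w ∈ LinearMap.ker h ⊔ C := by rw [hC.sup_eq_top]; exact Submodule.mem_top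
      obtain ⟨k, hk, c, hc', rfl⟩ := Submodule.mem_sup.mp hw
      rw [map_add, LinearMap.add_apply, hc k (h (y : W)) (LinearMap.mem_ker.mp hk) (hd _), zero_add]
      exact hy ⟨c, hc'⟩
    have hy0 : h (y : W) = 0 := hB.2 _ hall
    have hmem : (y : W) ∈ LinearMap.ker h ⊓ C := ⟨LinearMap.mem_ker.mpr hy0, y.2⟩
    rw [hC.inf_eq_bot] at hmem
    exact Subtype.ext ((Submodule.mem_bot F).mp hmem)
  have hnd : β.Nondegenerate := by
    refine ⟨?_, hsr⟩
    intro x hx
    apply hsr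
    intro y
    have hneg := halt.neg_eq y x
    rw [hx y] at hneg
    exact neg_eq_zero.mp hneg
  have hev := Cfsg.Agent.Helper76.o12_alt_even β halt hnd
  obtain ⟨r, hr⟩ := hev
  exact ⟨r, by omega⟩

theorem t2b_polar (d : ℕ) (u v : Fin d ⊕ Fin d → F) :
    QuadraticMap.polar (Cfsg.quadFormPlus d F) u v
      = ∑ i : Fin d, (u (.inl i) * v (.inr i) + v (.inl i) * u (.inr i)) := by
  unfold QuadraticMap.polar Cfsg.quadFormPlus
  rw [← Finset.sum_sub_distrib, ← Finset.sum_sub_distrib]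
  refine Finset.sum_congr rfl fun i _ => ?_
  simp only [Pi.add_apply]
  ring

theorem t2b_alt_dot (d : ℕ) (T : Matrix (Fin d) (Fin d) F) (b : Fin d → F) :
    ∑ i : Fin d, ((T - T.transpose).mulVec b) i * b i = 0 := by
  have h1 : ∑ i : Fin d, ((T - T.transpose).mulVec b) i * b i
      = (T.mulVec b) ⬝ᵥ b - (T.transpose.mulVec b) ⬝ᵥ b := by
    simp only [Matrix.sub_mulVec, dotProduct, Pi.sub_apply, sub_mul, Finset.sum_sub_distrib]
  rw [h1, Matrix.mulVec_transpose, ← Matrix.dotProduct_mulVec, dotProduct_comm (T.mulVec b) b,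
    sub_self]

/-- concrete core: an invariant nondegenerate subspace of the Siegel element with invertible
`T - Tᵀ` has dimension divisible by `4`. -/
theorem t2b_core (d : ℕ) (T : Matrix (Fin d) (Fin d) F)
    (hinj : ∀ b : Fin d → F, (T - T.transpose).mulVec b = 0 → b = 0)
    (W : Submodule F (Fin d ⊕ Fin d → F))
    (hnd : ∀ u ∈ W, u ≠ 0 → ∃ v ∈ W, QuadraticMap.polar (Cfsg.quadFormPlus d F) u v ≠ 0)
    (hinv : W.map (Matrix.toLin' (Cfsg.Agent.Helper98.ELP.siegM T)) ≤ W) :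
    4 ∣ finrank F W := by
  classical
  set g : (Fin d ⊕ Fin d → F) →ₗ[F] (Fin d ⊕ Fin d → F) :=
    Matrix.toLin' (Cfsg.Agent.Helper98.ELP.siegM T) - 1 with hg
  have hg_inl : ∀ (v : Fin d ⊕ Fin d → F) (i : Fin d),
      g v (.inl i) = ((T - T.transpose).mulVec (fun j => v (.inr j))) i := by
    intro v i
    simp only [hg, LinearMap.sub_apply, Matrix.toLin'_apply, Module.End.one_apply, Pi.sub_apply]
    rw [Cfsg.Agent.Helper47.ELP.siegM_mulVec_inl]
    ring
  have hg_inr : ∀ (v : Fin d ⊕ Fin d → F) (i : Fin d), g v (.inr i) = 0 := by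
    intro v i
    simp only [hg, LinearMap.sub_apply, Matrix.toLin'_apply, Module.End.one_apply, Pi.sub_apply]
    rw [Cfsg.Agent.Helper47.ELP.siegM_mulVec_inr]
    ring
  have hgW : ∀ w ∈ W, g w ∈ W := by
    intro w hw
    have h1 : Matrix.toLin' (Cfsg.Agent.Helper98.ELP.siegM T) w ∈ W :=
      hinv (Submodule.mem_map_of_mem hw)
    have h2 : g w = Matrix.toLin' (Cfsg.Agent.Helper98.ELP.siegM T) w - w := rfl
    rw [h2]
    exact W.sub_mem h1 hw
  let B : LinearMap.BilinForm F W := LinearMap.mk₂ F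
      (fun u v : W => ∑ i : Fin d, ((u : Fin d ⊕ Fin d → F) (.inl i) * (v : Fin d ⊕ Fin d → F) (.inr i)
          + (v : Fin d ⊕ Fin d → F) (.inl i) * (u : Fin d ⊕ Fin d → F) (.inr i)))
      (by
        intro x y v
        simp only [Submodule.coe_add, Pi.add_apply]
        rw [← Finset.sum_add_distrib]
        exact Finset.sum_congr rfl fun i _ => by ring)
      (by
        intro c x v
        simp only [Submodule.coe_smul, Pi.smul_apply, smul_eq_mul]
        rw [Finset.mul_sum]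
        exact Finset.sum_congr rfl fun i _ => by ring)
      (by
        intro v x y
        simp only [Submodule.coe_add, Pi.add_apply]
        rw [← Finset.sum_add_distrib]
        exact Finset.sum_congr rfl fun i _ => by ring)
      (by
        intro c v x
        simp only [Submodule.coe_smul, Pi.smul_apply, smul_eq_mul]
        rw [Finset.mul_sum]
        exact Finset.sum_congr rfl fun i _ => by ring)
  have hBdef : ∀ u v : W, B u v = ∑ i : Fin d,
      ((u : Fin d ⊕ Fin d → F) (.inl i) * (v : Fin d ⊕ Fin d → F) (.inr i)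
          + (v : Fin d ⊕ Fin d → F) (.inl i) * (u : Fin d ⊕ Fin d → F) (.inr i)) := fun u v => rfl
  have hBapp : ∀ u v : W, B u v
      = QuadraticMap.polar (Cfsg.quadFormPlus d F) (u : Fin d ⊕ Fin d → F) (v : Fin d ⊕ Fin d → F) := by
    intro u v
    rw [t2b_polar, hBdef]
  have hBsymm : ∀ u v : W, B u v = B v u := by
    intro u v
    rw [hBapp, hBapp, QuadraticMap.polar_comm]
  have hBnd : B.Nondegenerate := by
    have hl : ∀ x : W, (∀ y : W, B x y = 0) → x = 0 := by
      intro x hx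
      by_contra hx0
      have hx0' : (x : Fin d ⊕ Fin d → F) ≠ 0 := fun h => hx0 (Subtype.ext h)
      obtain ⟨y, hy, hxy⟩ := hnd x x.2 hx0'
      exact hxy (by rw [← hBapp x ⟨y, hy⟩]; exact hx ⟨y, hy⟩)
    refine ⟨hl, ?_⟩
    intro y hy
    exact hl y (fun x => by rw [hBsymm]; exact hy x)
  let h : W →ₗ[F] W := g.restrict hgW
  have hh : ∀ w : W, ((h w : W) : Fin d ⊕ Fin d → F) = g (w : Fin d ⊕ Fin d → F) := fun w => rfl
  have hker : ∀ w : W, h w = 0 → ∀ j, (w : Fin d ⊕ Fin d → F) (.inr j) = 0 := by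
    intro w hw
    have h0 : g (w : Fin d ⊕ Fin d → F) = 0 := by rw [← hh, hw]; rfl
    have h1 : (T - T.transpose).mulVec (fun j => (w : Fin d ⊕ Fin d → F) (.inr j)) = 0 := by
      funext i
      rw [← hg_inl, h0]
      rfl
    intro j
    exact congrFun (hinj _ h1) j
  refine t2b_alt_four B hBnd h ?_ ?_ ?_
  · intro v
    rw [hBdef]
    simp only [hh, hg_inr, hg_inl, mul_zero, zero_add]
    exact t2b_alt_dot d T _
  · intro u v hu hv
    rw [hBdef]
    simp only [hker u hu, hker v hv, mul_zero, add_zero, Finset.sum_const_zero]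
  · intro v
    apply Subtype.ext
    rw [hh, hh]
    funext x
    cases x with
    | inl i =>
      rw [hg_inl]
      simp only [hg_inr]
      have hz : (fun j : Fin d => (0 : F)) = 0 := rfl
      rw [hz, Matrix.mulVec_zero]
      rfl
    | inr i =>
      rw [hg_inr]
      rfl

/-- the matrix `T = Σ_j E_{2j, 2j+1}`; `T - Tᵀ` is invertible for even `d`. -/
def t2T (d : ℕ) (F : Type*) [Field F] : Matrix (Fin d) (Fin d) F :=
  fun i j => if (i : ℕ) % 2 = 0 ∧ (j : ℕ) = (i : ℕ) + 1 then 1 else 0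

theorem t2T_inj (d : ℕ) (hd : Even d) (b : Fin d → F)
    (hb : (t2T d F - (t2T d F).transpose).mulVec b = 0) : b = 0 := by
  funext j
  obtain ⟨k, hk⟩ := hd
  have hjlt := j.isLt
  rcases Nat.even_or_odd (j : ℕ) with ⟨t, ht⟩ | ⟨t, ht⟩
  · have hj1 : (j : ℕ) + 1 < d := by omega
    have hrow : ∑ c : Fin d, ((if ((j : ℕ) + 1) % 2 = 0 ∧ (c : ℕ) = (j : ℕ) + 1 + 1 then (1 : F) else 0)
        - (if (c : ℕ) % 2 = 0 ∧ (j : ℕ) + 1 = (c : ℕ) + 1 then (1 : F) else 0)) * b c = 0 :=
      congrFun hb ⟨(j : ℕ) + 1, hj1⟩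
    rw [Finset.sum_eq_single j] at hrow
    · have c1 : ¬ (((j : ℕ) + 1) % 2 = 0 ∧ (j : ℕ) = (j : ℕ) + 1 + 1) := by omega
      have c2 : ((j : ℕ) % 2 = 0 ∧ (j : ℕ) + 1 = (j : ℕ) + 1) := by omega
      rw [if_neg c1, if_pos c2] at hrow
      simpa using hrow
    · intro c _ hc
      have c1 : ¬ (((j : ℕ) + 1) % 2 = 0 ∧ (c : ℕ) = (j : ℕ) + 1 + 1) := by omega
      have c2 : ¬ ((c : ℕ) % 2 = 0 ∧ (j : ℕ) + 1 = (c : ℕ) + 1) := by
        rintro ⟨_, h⟩
        exact hc (Fin.ext (by omega))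
      rw [if_neg c1, if_neg c2]
      simp
    · intro h
      exact absurd (Finset.mem_univ j) h
  · have hj1 : (j : ℕ) - 1 < d := by omega
    have hrow : ∑ c : Fin d, ((if ((j : ℕ) - 1) % 2 = 0 ∧ (c : ℕ) = (j : ℕ) - 1 + 1 then (1 : F) else 0)
        - (if (c : ℕ) % 2 = 0 ∧ (j : ℕ) - 1 = (c : ℕ) + 1 then (1 : F) else 0)) * b c = 0 :=
      congrFun hb ⟨(j : ℕ) - 1, hj1⟩
    rw [Finset.sum_eq_single j] at hrow
    · have c1 : (((j : ℕ) - 1) % 2 = 0 ∧ (j : ℕ) = (j : ℕ) - 1 + 1) := by omega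
      have c2 : ¬ ((j : ℕ) % 2 = 0 ∧ (j : ℕ) - 1 = (j : ℕ) + 1) := by omega
      rw [if_pos c1, if_neg c2] at hrow
      simpa using hrow
    · intro c _ hc
      have c1 : ¬ (((j : ℕ) - 1) % 2 = 0 ∧ (c : ℕ) = (j : ℕ) - 1 + 1) := by
        rintro ⟨_, h⟩
        exact hc (Fin.ext (by omega))
      have c2 : ¬ ((c : ℕ) % 2 = 0 ∧ (j : ℕ) - 1 = (c : ℕ) + 1) := by omega
      rw [if_neg c1, if_neg c2]
      simp
    · intro h
      exact absurd (Finset.mem_univ j) h

end core

variable {F : Type*} [Field F] [Fintype F]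

/-- T2B (`r = p = 2`, `⟹`). -/
theorem s74_two_even_bad {p : ℕ} [Fact p.Prime] [CharP F p] {q : ℕ} (hq : Fintype.card F = q)
    (d m : ℕ) (hd : 4 ≤ d) (hm : 2 ≤ m) (hme : Even m) (hmd : m < d) (hp2 : p = 2)
    (hall : AllHyp (Cfsg.quadFormPlus d F) 2 m) :
    (2 * d) % 4 = 2 ∨ m % 4 = 0 ∨ q % 4 = 1 := by
  classical
  by_contra hcon
  have hc1 : ¬ (2 * d) % 4 = 2 := fun h => hcon (Or.inl h)
  have hc2 : ¬ m % 4 = 0 := fun h => hcon (Or.inr (Or.inl h))
  have hdE : Even d := by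
    rcases Nat.even_or_odd d with h | ⟨k, hk⟩
    · exact h
    · omega
  subst hp2
  have h2F : (2 : F) = 0 := by exact_mod_cast CharP.cast_eq_zero F 2
  have hinj := t2T_inj (F := F) d hdE
  have hx : Cfsg.Agent.Helper98.ELP.sieg (t2T d F) ∈ Cfsg.Geo.omegaGL (Cfsg.quadFormPlus d F) := by
    have h := Cfsg.Agent.Helper98.ELP.sieg_mem_omega (n := Fin d) (F := F)
      (by rw [Fintype.card_fin]; omega) (t2T d F)
    exact h
  have hTT : (2 : ℕ) • t2T d F = 0 := by
    rw [two_nsmul, ← two_smul F (t2T d F), h2F, zero_smul]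
  have hsq : ∃ z : F, ((Cfsg.Agent.Helper98.ELP.sieg (t2T d F) ^ 2 : GL (Fin d ⊕ Fin d) F) :
      Matrix (Fin d ⊕ Fin d) (Fin d ⊕ Fin d) F) = z • (1 : Matrix (Fin d ⊕ Fin d) (Fin d ⊕ Fin d) F) := by
    refine ⟨1, ?_⟩
    rw [Cfsg.Agent.Helper74.ELP.sieg_pow, hTT, Cfsg.Agent.Helper98.ELP.sieg_zero, one_smul]
    rfl
  have hne : t2T d F - (t2T d F).transpose ≠ 0 := by
    intro h0
    have hb := hinj (Pi.single ⟨0, by omega⟩ 1) (by rw [h0, Matrix.zero_mulVec])
    have := congrFun hb ⟨0, by omega⟩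
    simp at this
  obtain ⟨W, ⟨hWdim, hWnd, -⟩, hWinv⟩ := hall (Cfsg.Agent.Helper98.ELP.sieg (t2T d F)) hx hsq
    (Cfsg.Agent.Helper98.ELP.sieg_nonscalar (t2T d F) hne)
  have h4 := t2b_core d (t2T d F) hinj W hWnd hWinv
  rw [hWdim] at h4
  omega

end Cfsg.Agent.Helper36.S74
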