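import Cfsg.Agent.Helper36.ChevLevi
import Cfsg.Agent.Helper36.OutCyc
import Cfsg.Agent.Helper17.ChevCell
import Cfsg.Agent.Helper17.ChevBorelCard
import Cfsg.Agent.Helper17.ChevDiagCard

/-!
# Automorphisms of Chevalley groups, I: normalising `U` and `V` (helper36)

For a table-defined Chevalley group `G = D.group F` over a finite field with the relations `BRel`:

* `BRel.sb_mem_B_of_conj`: `g⁻¹ U g ≤ B` only for `g ∈ B`; hence `N_G(U) = B`;
* `BRel.sb_sylow`: `U` is a Sylow `p`-subgroup of `G` (fixed points of `U` on `G / B`);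
* `SbLong`: a word of the longest element; `BRel.sb_exists_norm`: every automorphism is, modulo inner
  automorphisms, one that maps `U` into `U` and `V` into `V` (`SbNorm`).
-/

set_option autoImplicit false
set_option linter.unusedSectionVars false
set_option linter.unusedVariables false

namespace Cfsg.Agent.Helper36

open Cfsg Cfsg.Lie

/-- An injective self-map of a finite type preserving a predicate reflects it. -/
theorem sb_reflect {G : Type*} [Finite G] (P : G → Prop) (α : G → G) (hα : Function.Injective α)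
    (h : ∀ g, P g → P (α g)) : ∀ g, P (α g) → P g := by
  intro g hg
  let f : {x // P x} → {x // P x} := fun s => ⟨α s.1, h s.1 s.2⟩
  have hf : Function.Injective f := by
    intro a b hab
    exact Subtype.ext (hα (congrArg Subtype.val hab))
  obtain ⟨s, hs⟩ := (Finite.surjective_of_injective hf) ⟨α g, hg⟩
  have : α s.1 = α g := congrArg Subtype.val hs
  rw [← hα this]
  exact s.2

section

variable {D : ChevalleyDatum} {F : Type*} [Field F] {η : ℕ → ℕ → ℤ}

theorem BRel.sb_UV (R : BRel D F η) {g : GL D.Idx F} (hU : g ∈ D.posUnipotent F)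
    (hV : g ∈ D.negUnipotent F) : g = 1 := by
  have h : g ∈ D.borelSubgroup F ⊓ D.negUnipotent F := ⟨BRel.U_le_B D F hU, hV⟩
  rw [R.bv, Subgroup.mem_bot] at h
  exact h

theorem BRel.sb_B_le_normalizer (R : BRel D F η) :
    D.borelSubgroup F ≤ Subgroup.normalizer (D.posUnipotent F : Set (GL D.Idx F)) :=
  sup_le Subgroup.le_normalizer R.hU

theorem BRel.sb_B_conj_U (R : BRel D F η) {b u : GL D.Idx F} (hb : b ∈ D.borelSubgroup F)
    (hu : u ∈ D.posUnipotent F) : b * u * b⁻¹ ∈ D.posUnipotent F :=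
  (Subgroup.mem_normalizer_iff.mp (R.sb_B_le_normalizer hb) u).mp hu

theorem BRel.sb_x_eq_one (R : BRel D F η) {r : ℕ} (hr : r < D.nroots) {t : F}
    (h : xGL R.xadd r t = 1) : t = 0 := by
  have h3 := congrArg (fun g : GL D.Idx F => (g : Matrix D.Idx D.Idx F)) h
  simp only [xGL_val, Units.val_one] at h3
  exact R.xinj _ hr _ h3

theorem BRel.sb_x_inj (R : BRel D F η) {r : ℕ} (hr : r < D.nroots) {t u : F}
    (h : xGL R.xadd r t = xGL R.xadd r u) : t = u := by
  have h1 : xGL R.xadd r (t - u) = 1 := by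
    rw [sub_eq_add_neg, ← xGL_mul, ← xGL_inv, h, mul_inv_cancel]
  exact sub_eq_zero.mp (R.sb_x_eq_one hr h1)

theorem BRel.sb_neg_of_conj (R : BRel D F η) {L : List ℕ} (hL : ValidW D L) {s : ℕ}
    (hs : D.IsPosRoot s)
    (h : R.nW L * xGL R.xadd s 1 * (R.nW L)⁻¹ ∉ D.posUnipotent F) : D.IsNegRoot (wW D L s) := by
  apply R.wf.neg_of_not_pos (R.wf.wW_lt hL hs.1)
  intro hpos
  apply h
  rw [R.nW_conj_x hL hs.1]
  exact xGL_mem_posUnipotent _ hpos _

/-- `g⁻¹ U g ≤ B` only for `g ∈ B`. -/
theorem BRel.sb_mem_B_of_conj (R : BRel D F η) {g : GL D.Idx F} (hg : g ∈ D.group F)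
    (h : ∀ u ∈ D.posUnipotent F, g⁻¹ * u * g ∈ D.borelSubgroup F) : g ∈ D.borelSubgroup F := by
  obtain ⟨b₁, hb₁, n, hn, b₂, hb₂, rfl⟩ := R.bruhat g hg
  obtain ⟨L, hL, h₀, hh₀, rfl⟩ := R.exists_word n hn
  have hpos : ∀ s, D.IsPosRoot s → D.IsPosRoot (wW D L.reverse s) := by
    intro s hs
    by_contra hneg
    have hlt := R.wf.wW_lt hL.reverse hs.1
    have hn' := R.wf.neg_of_not_pos hlt hneg
    have hx : xGL R.xadd s 1 ∈ D.posUnipotent F := xGL_mem_posUnipotent _ hs _
    have h1 := h _ (R.sb_B_conj_U hb₁ hx)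
    have hh₀B := BRel.H_le_B D F hh₀
    have h2 : (R.nW L)⁻¹ * xGL R.xadd s 1 * R.nW L ∈ D.borelSubgroup F := by
      have e : (R.nW L)⁻¹ * xGL R.xadd s 1 * R.nW L =
          (h₀ * b₂) * ((b₁ * (R.nW L * h₀) * b₂)⁻¹ * (b₁ * xGL R.xadd s 1 * b₁⁻¹) *
            (b₁ * (R.nW L * h₀) * b₂)) * (h₀ * b₂)⁻¹ := by group
      rw [e]
      exact mul_mem (mul_mem (mul_mem hh₀B hb₂) h1) (inv_mem (mul_mem hh₀B hb₂))
    rw [R.nW_inv_conj_x hL hs.1, mul_one] at h2
    exact R.xneg_not_mem_B hn' (R.eW_ne_zero hL hlt) h2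
  have hH := Cfsg.Agent.Helper17.nW_mem_H_of_pos R hL.reverse hpos
  obtain ⟨h', hh', he⟩ := Cfsg.Agent.Helper17.nW_inv_reverse R hL
  have hH2 : R.nW L ∈ D.diagonalSubgroup F := by
    have : (R.nW L)⁻¹ ∈ D.diagonalSubgroup F := by rw [he]; exact mul_mem hH hh'
    have h3 := inv_mem this
    rwa [inv_inv] at h3
  exact mul_mem (mul_mem hb₁ (BRel.H_le_B D F (mul_mem hH2 hh₀))) hb₂

/-- `N_G(U) ≤ B`. -/
theorem BRel.sb_norm_U (R : BRel D F η) {g : GL D.Idx F} (hg : g ∈ D.group F)
    (h : ∀ u ∈ D.posUnipotent F, g * u * g⁻¹ ∈ D.posUnipotent F) : g ∈ D.borelSubgroup F := by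
  have h1 : g⁻¹ ∈ D.borelSubgroup F := by
    apply R.sb_mem_B_of_conj (inv_mem hg)
    intro u hu
    rw [inv_inv]
    exact BRel.U_le_B D F (h u hu)
  have h2 := inv_mem h1
  rwa [inv_inv] at h2

/-- `U` is a Sylow `p`-subgroup of the Chevalley group. -/
theorem BRel.sb_sylow (R : BRel D F η) [Fintype F] (p : ℕ) [Fact p.Prime] [CharP F p]
    (hU : Nat.card (D.posUnipotent F) = Fintype.card F ^ (D.nroots / 2))
    (hH : D.diagonalSubgroup F ≤ Cfsg.Agent.Helper17.torus D F) :
    IsPGroup p ↥((D.posUnipotent F).subgroupOf (D.group F)) ∧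
      ¬ p ∣ ((D.posUnipotent F).subgroupOf (D.group F)).index := by
  classical
  have hp : p.Prime := Fact.out
  obtain ⟨n, -, hn⟩ := FiniteField.card F p
  have hUG : D.posUnipotent F ≤ D.group F := posUnipotent_le_group R.xadd
  have hBG : D.borelSubgroup F ≤ D.group F := borelSubgroup_le_group R.xadd
  have hU' : Nat.card ((D.posUnipotent F).subgroupOf (D.group F)) = p ^ (n * (D.nroots / 2)) := by
    rw [Nat.card_congr (Subgroup.subgroupOfEquivOfLe hUG).toEquiv, hU, hn, pow_mul]
  have hP : IsPGroup p ↥((D.posUnipotent F).subgroupOf (D.group F)) := IsPGroup.of_card hU'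
  refine ⟨hP, ?_⟩
  -- the fixed points of `U` on `G / B`
  have hfix := hP.card_modEq_card_fixedPoints (↥(D.group F) ⧸ (D.borelSubgroup F).subgroupOf (D.group F))
  have hone : Nat.card (MulAction.fixedPoints ↥((D.posUnipotent F).subgroupOf (D.group F))
      (↥(D.group F) ⧸ (D.borelSubgroup F).subgroupOf (D.group F))) = 1 := by
    rw [Nat.card_eq_one_iff_unique]
    constructor
    · constructor
      rintro ⟨x, hx⟩ ⟨y, hy⟩
      apply Subtype.ext
      show x = y
      have key : ∀ z : ↥(D.group F) ⧸ (D.borelSubgroup F).subgroupOf (D.group F),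
          z ∈ MulAction.fixedPoints ↥((D.posUnipotent F).subgroupOf (D.group F))
            (↥(D.group F) ⧸ (D.borelSubgroup F).subgroupOf (D.group F)) →
          z = QuotientGroup.mk 1 := by
        intro z hz
        induction z using QuotientGroup.induction_on with
        | H g =>
          rw [QuotientGroup.eq]
          rw [Subgroup.mem_subgroupOf]
          have hgB : (g : GL D.Idx F) ∈ D.borelSubgroup F := by
            apply R.sb_mem_B_of_conj g.2
            intro u hu
            have hz' := hz ⟨⟨u, hUG hu⟩, Subgroup.mem_subgroupOf.mpr hu⟩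
            have hz2 : (QuotientGroup.mk ((⟨u, hUG hu⟩ : ↥(D.group F)) * g) :
                ↥(D.group F) ⧸ (D.borelSubgroup F).subgroupOf (D.group F)) = QuotientGroup.mk g := hz'
            rw [QuotientGroup.eq, Subgroup.mem_subgroupOf] at hz2
            have h3 := inv_mem hz2
            have e : (((((⟨u, hUG hu⟩ : ↥(D.group F)) * g)⁻¹ * g : ↥(D.group F)) : GL D.Idx F))⁻¹ =
                (g : GL D.Idx F)⁻¹ * u * g := by
              simp only [Subgroup.coe_mul, InvMemClass.coe_inv]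
              group
            rw [e] at h3
            exact h3
          have h4 := inv_mem hgB
          simpa using h4
      rw [key x hx, key y hy]
    · refine ⟨⟨QuotientGroup.mk 1, ?_⟩⟩
      intro u
      show (QuotientGroup.mk ((u : ↥(D.group F)) * 1) :
        ↥(D.group F) ⧸ (D.borelSubgroup F).subgroupOf (D.group F)) = QuotientGroup.mk 1
      rw [QuotientGroup.eq, Subgroup.mem_subgroupOf]
      have hu : ((u : ↥(D.group F)) : GL D.Idx F) ∈ D.posUnipotent F := Subgroup.mem_subgroupOf.mp u.2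
      have h5 := inv_mem (BRel.U_le_B D F hu)
      simpa using h5
  rw [hone] at hfix
  -- cardinalities
  have hH1 : Nat.card (D.diagonalSubgroup F) ∣ (Fintype.card F - 1) ^ D.rank := by
    have h1 := Subgroup.card_dvd_of_le hH
    have h2 := Subgroup.card_range_dvd (Cfsg.Agent.Helper17.torusHom D F)
    rw [Cfsg.Agent.Helper17.range_torusHom] at h2
    have h3 : Nat.card (Fin D.rank → Fˣ) = (Fintype.card F - 1) ^ D.rank := by
      rw [Nat.card_fun, Nat.card_units, Nat.card_eq_fintype_card, Nat.card_eq_fintype_card,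
        Fintype.card_fin]
    rw [h3] at h2
    exact h1.trans h2
  have hq1 : ¬ p ∣ (Fintype.card F - 1) := by
    rw [hn]
    intro hd
    have h1 : p ∣ p ^ (n : ℕ) := dvd_pow_self p n.ne_zero
    have h2 : 1 ≤ p ^ (n : ℕ) := Nat.one_le_pow _ _ hp.pos
    have h3 : p ∣ 1 := by
      have := Nat.dvd_sub h1 hd
      rwa [Nat.sub_sub_self h2] at this
    exact hp.one_lt.ne' (Nat.dvd_one.mp h3)
  have hHp : ¬ p ∣ Nat.card (D.diagonalSubgroup F) := fun hd =>
    hq1 (hp.dvd_of_dvd_pow (hd.trans hH1))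
  have hBp : ¬ p ∣ ((D.borelSubgroup F).subgroupOf (D.group F)).index := by
    rw [Subgroup.index_eq_card]
    intro hd
    have h1 : Nat.card (↥(D.group F) ⧸ (D.borelSubgroup F).subgroupOf (D.group F)) % p = 1 % p := hfix
    rw [Nat.mod_eq_zero_of_dvd hd, Nat.mod_eq_of_lt hp.one_lt] at h1
    exact zero_ne_one h1
  have hB' : Nat.card ((D.borelSubgroup F).subgroupOf (D.group F)) =
      Nat.card (D.posUnipotent F) * Nat.card (D.diagonalSubgroup F) := by
    rw [Nat.card_congr (Subgroup.subgroupOfEquivOfLe hBG).toEquiv,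
      Cfsg.Agent.Helper17.card_borelSubgroup R]
  have hU2 : Nat.card ((D.posUnipotent F).subgroupOf (D.group F)) = Nat.card (D.posUnipotent F) :=
    Nat.card_congr (Subgroup.subgroupOfEquivOfLe hUG).toEquiv
  have e1 := ((D.posUnipotent F).subgroupOf (D.group F)).card_mul_index
  have e2 := ((D.borelSubgroup F).subgroupOf (D.group F)).card_mul_index
  rw [hU2] at e1
  rw [hB', ← e1, mul_assoc] at e2
  have hpos : 0 < Nat.card (D.posUnipotent F) := Nat.card_pos
  have e3 := Nat.eq_of_mul_eq_mul_left hpos e2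
  rw [← e3]
  intro hd
  rcases (Nat.Prime.dvd_mul hp).mp hd with h | h
  · exact hHp h
  · exact hBp h

end

end Cfsg.Agent.Helper36
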