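import Cfsg.Agent.Helper36.SbA

/-!
# Automorphisms of Chevalley groups, II: the normalisation (helper36)

* `SbLong D L`: the word `L` maps the positive roots to negative roots (a word of the longest element), and maps
  the negatives of the fundamental roots onto the fundamental roots;
* `SbNorm D F α`: the automorphism `α` maps `U` into `U` and `V` into `V`;
* `BRel.sb_exists_norm`: every automorphism is `SbNorm` modulo inner automorphisms.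
-/

set_option autoImplicit false
set_option linter.unusedSectionVars false
set_option linter.unusedVariables false

namespace Cfsg.Agent.Helper36

open Cfsg Cfsg.Lie

/-- A word of the longest element of the Weyl group. -/
structure SbLong (D : ChevalleyDatum) (L : List ℕ) : Prop where
  valid : ValidW D L
  neg : ∀ s, D.IsPosRoot s → D.IsNegRoot (wW D L s)
  tau : ∀ j < D.rank, ∃ i < D.rank, wW D L (D.neg (D.simple j)) = D.simple i
  tau_surj : ∀ i < D.rank, ∃ j < D.rank, wW D L (D.neg (D.simple j)) = D.simple i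

/-- Automorphisms mapping `U` into `U` and `V` into `V`. -/
def SbNorm (D : ChevalleyDatum) (F : Type*) [Field F] (α : MulAut ↥(D.group F)) : Prop :=
  (∀ g : ↥(D.group F), (g : GL D.Idx F) ∈ D.posUnipotent F →
    ((α g : ↥(D.group F)) : GL D.Idx F) ∈ D.posUnipotent F) ∧
  (∀ g : ↥(D.group F), (g : GL D.Idx F) ∈ D.negUnipotent F →
    ((α g : ↥(D.group F)) : GL D.Idx F) ∈ D.negUnipotent F)

theorem sb_conj_val {G : Type*} [Group G] (K : Subgroup G) (c : ↥K) (α : MulAut ↥K) (g : ↥K) :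
    (((MulAut.conj c * α) g : ↥K) : G) = (c : G) * (α g : G) * (c : G)⁻¹ := rfl

section

variable {D : ChevalleyDatum} {F : Type*} [Field F] {η : ℕ → ℕ → ℤ}

theorem BRel.sb_long_UV (R : BRel D F η) {L₀ : List ℕ} (hL : SbLong D L₀) :
    ∀ u ∈ D.posUnipotent F, R.nW L₀ * u * (R.nW L₀)⁻¹ ∈ D.negUnipotent F := by
  intro u hu
  refine conj_mem_closure {g : GL D.Idx F | ∃ (r : ℕ) (t : F), D.IsPosRoot r ∧
    (g : Matrix D.Idx D.Idx F) = D.x F r t} (D.negUnipotent F) (R.nW L₀) ?_ u hu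
  rintro g ⟨s, t, hs, hg⟩
  rw [eq_xGL R.xadd hg, R.nW_conj_x hL.valid hs.1]
  exact xGL_mem_negUnipotent _ (hL.neg s hs) _

theorem SbLong.pos (W : WFacts D) {L₀ : List ℕ} (hL : SbLong D L₀) {s : ℕ} (hs : D.IsNegRoot s) :
    D.IsPosRoot (wW D L₀ s) := by
  have h1 := hL.neg _ (W.pos_neg_root hs)
  rw [W.wW_neg hL.valid hs.1] at h1
  have h2 := W.pos_neg_root h1
  rwa [W.neg_neg _ (W.wW_lt hL.valid hs.1)] at h2

theorem BRel.sb_long_VU (R : BRel D F η) {L₀ : List ℕ} (hL : SbLong D L₀) :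
    ∀ v ∈ D.negUnipotent F, R.nW L₀ * v * (R.nW L₀)⁻¹ ∈ D.posUnipotent F := by
  intro v hv
  refine conj_mem_closure {g : GL D.Idx F | ∃ (r : ℕ) (t : F), D.IsNegRoot r ∧
    (g : Matrix D.Idx D.Idx F) = D.x F r t} (D.posUnipotent F) (R.nW L₀) ?_ v hv
  rintro g ⟨s, t, hs, hg⟩
  rw [eq_xGL R.xadd hg, R.nW_conj_x hL.valid hs.1]
  exact xGL_mem_posUnipotent _ (hL.pos R.wf hs) _

theorem BRel.sb_long_UV' (R : BRel D F η) [Fintype F] {L₀ : List ℕ} (hL : SbLong D L₀) :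
    ∀ u ∈ D.posUnipotent F, (R.nW L₀)⁻¹ * u * R.nW L₀ ∈ D.negUnipotent F := by
  classical
  intro u hu
  have key := sb_reflect (G := GL D.Idx F) (fun g => g ∈ D.negUnipotent F)
    (fun g => (R.nW L₀ * R.nW L₀) * g * (R.nW L₀ * R.nW L₀)⁻¹)
    (fun a b hab => by simpa using hab)
    (fun g hg => by
      have h1 := R.sb_long_UV hL _ (R.sb_long_VU hL g hg)
      have e : R.nW L₀ * R.nW L₀ * g * (R.nW L₀ * R.nW L₀)⁻¹ =
          R.nW L₀ * (R.nW L₀ * g * (R.nW L₀)⁻¹) * (R.nW L₀)⁻¹ := by group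
      show R.nW L₀ * R.nW L₀ * g * (R.nW L₀ * R.nW L₀)⁻¹ ∈ D.negUnipotent F
      rw [e]; exact h1)
  apply key
  show R.nW L₀ * R.nW L₀ * ((R.nW L₀)⁻¹ * u * R.nW L₀) * (R.nW L₀ * R.nW L₀)⁻¹ ∈ D.negUnipotent F
  have e : R.nW L₀ * R.nW L₀ * ((R.nW L₀)⁻¹ * u * R.nW L₀) * (R.nW L₀ * R.nW L₀)⁻¹ =
      R.nW L₀ * u * (R.nW L₀)⁻¹ := by group
  rw [e]
  exact R.sb_long_UV hL u hu

theorem BRel.sb_long_VU' (R : BRel D F η) [Fintype F] {L₀ : List ℕ} (hL : SbLong D L₀) :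
    ∀ v ∈ D.negUnipotent F, (R.nW L₀)⁻¹ * v * R.nW L₀ ∈ D.posUnipotent F := by
  classical
  intro v hv
  have key := sb_reflect (G := GL D.Idx F) (fun g => g ∈ D.posUnipotent F)
    (fun g => (R.nW L₀ * R.nW L₀) * g * (R.nW L₀ * R.nW L₀)⁻¹)
    (fun a b hab => by simpa using hab)
    (fun g hg => by
      have h1 := R.sb_long_VU hL _ (R.sb_long_UV hL g hg)
      have e : R.nW L₀ * R.nW L₀ * g * (R.nW L₀ * R.nW L₀)⁻¹ =
          R.nW L₀ * (R.nW L₀ * g * (R.nW L₀)⁻¹) * (R.nW L₀)⁻¹ := by group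
      show R.nW L₀ * R.nW L₀ * g * (R.nW L₀ * R.nW L₀)⁻¹ ∈ D.posUnipotent F
      rw [e]; exact h1)
  apply key
  show R.nW L₀ * R.nW L₀ * ((R.nW L₀)⁻¹ * v * R.nW L₀) * (R.nW L₀ * R.nW L₀)⁻¹ ∈ D.posUnipotent F
  have e : R.nW L₀ * R.nW L₀ * ((R.nW L₀)⁻¹ * v * R.nW L₀) * (R.nW L₀ * R.nW L₀)⁻¹ =
      R.nW L₀ * v * (R.nW L₀)⁻¹ := by group
  rw [e]
  exact R.sb_long_VU hL v hv

theorem BRel.sb_nW_mem_group (R : BRel D F η) {L : List ℕ} (hL : ValidW D L) : R.nW L ∈ D.group F :=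
  monomialSubgroup_le_group R.xadd (R.nW_mem_monomial hL)

/-- A normalised automorphism reflects membership in `U`. -/
theorem SbNorm.reflect_U [Fintype F] {α : MulAut ↥(D.group F)} (hα : SbNorm D F α)
    (g : ↥(D.group F)) (h : ((α g : ↥(D.group F)) : GL D.Idx F) ∈ D.posUnipotent F) :
    (g : GL D.Idx F) ∈ D.posUnipotent F := by
  classical
  exact sb_reflect (fun x : ↥(D.group F) => (x : GL D.Idx F) ∈ D.posUnipotent F) α α.injective
    hα.1 g h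

theorem SbNorm.reflect_V [Fintype F] {α : MulAut ↥(D.group F)} (hα : SbNorm D F α)
    (g : ↥(D.group F)) (h : ((α g : ↥(D.group F)) : GL D.Idx F) ∈ D.negUnipotent F) :
    (g : GL D.Idx F) ∈ D.negUnipotent F := by
  classical
  exact sb_reflect (fun x : ↥(D.group F) => (x : GL D.Idx F) ∈ D.negUnipotent F) α α.injective
    hα.2 g h

/-- Every automorphism is normalised modulo inner automorphisms. -/
theorem BRel.sb_exists_norm (R : BRel D F η) [Fintype F] (p : ℕ) [Fact p.Prime]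
    (hP : IsPGroup p ↥((D.posUnipotent F).subgroupOf (D.group F)))
    (hidx : ¬ p ∣ ((D.posUnipotent F).subgroupOf (D.group F)).index)
    {L₀ : List ℕ} (hL : SbLong D L₀) (α : MulAut ↥(D.group F)) :
    ∃ g : ↥(D.group F), SbNorm D F (MulAut.conj g * α) := by
  classical
  have hcard : Nat.card ↥(((D.posUnipotent F).subgroupOf (D.group F)).map α.toMonoidHom) =
      Nat.card ↥((D.posUnipotent F).subgroupOf (D.group F)) :=
    Subgroup.card_map_of_injective α.injective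
  obtain ⟨g₁, hg₁⟩ := exists_conj_of_card_eq p ((D.posUnipotent F).subgroupOf (D.group F))
    (((D.posUnipotent F).subgroupOf (D.group F)).map α.toMonoidHom) hP hidx hcard
  have h1 : ∀ u : ↥(D.group F), (u : GL D.Idx F) ∈ D.posUnipotent F →
      (((MulAut.conj g₁ * α) u : ↥(D.group F)) : GL D.Idx F) ∈ D.posUnipotent F := by
    intro u hu
    have hmem : α u ∈ ((D.posUnipotent F).subgroupOf (D.group F)).map α.toMonoidHom :=
      Subgroup.mem_map_of_mem _ (Subgroup.mem_subgroupOf.mpr hu)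
    exact Subgroup.mem_subgroupOf.mp ((hg₁ (α u)).mp hmem)
  have hn₀G : R.nW L₀ ∈ D.group F := R.sb_nW_mem_group hL.valid
  obtain ⟨b₁, hb₁, n, hn, b₂, hb₂, he⟩ :=
    R.bruhat (((MulAut.conj g₁ * α) ⟨R.nW L₀, hn₀G⟩ : ↥(D.group F)) : GL D.Idx F)
      ((MulAut.conj g₁ * α) ⟨R.nW L₀, hn₀G⟩).2
  have hb₁G : b₁ ∈ D.group F := borelSubgroup_le_group R.xadd hb₁
  refine ⟨(⟨b₁, hb₁G⟩ : ↥(D.group F))⁻¹ * g₁, ?_⟩
  have hα₂ : MulAut.conj ((⟨b₁, hb₁G⟩ : ↥(D.group F))⁻¹ * g₁) * α =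
      MulAut.conj (⟨b₁, hb₁G⟩ : ↥(D.group F))⁻¹ * (MulAut.conj g₁ * α) := by
    rw [map_mul, mul_assoc]
  rw [hα₂]
  set β : MulAut ↥(D.group F) := MulAut.conj (⟨b₁, hb₁G⟩ : ↥(D.group F))⁻¹ * (MulAut.conj g₁ * α)
    with hβ
  have hβval : ∀ g : ↥(D.group F), ((β g : ↥(D.group F)) : GL D.Idx F) =
      b₁⁻¹ * (((MulAut.conj g₁ * α) g : ↥(D.group F)) : GL D.Idx F) * b₁⁻¹⁻¹ := fun g => rfl
  have hU₂ : ∀ u : ↥(D.group F), (u : GL D.Idx F) ∈ D.posUnipotent F →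
      ((β u : ↥(D.group F)) : GL D.Idx F) ∈ D.posUnipotent F := by
    intro u hu
    rw [hβval]
    exact R.sb_B_conj_U (inv_mem hb₁) (h1 u hu)
  have hreflU : ∀ g : ↥(D.group F), ((β g : ↥(D.group F)) : GL D.Idx F) ∈ D.posUnipotent F →
      (g : GL D.Idx F) ∈ D.posUnipotent F :=
    sb_reflect (fun x : ↥(D.group F) => (x : GL D.Idx F) ∈ D.posUnipotent F) β β.injective hU₂
  have hβn : ((β ⟨R.nW L₀, hn₀G⟩ : ↥(D.group F)) : GL D.Idx F) = n * (b₂ * b₁) := by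
    rw [hβval, he]; group
  -- the element `n` maps positive roots to negative roots
  obtain ⟨L, hLv, hroot⟩ := R.exists_root n hn
  have hneg : ∀ s, D.IsPosRoot s → D.IsNegRoot (wW D L s) := by
    intro s hs
    apply R.wf.neg_of_not_pos (R.wf.wW_lt hLv hs.1)
    intro hpos
    obtain ⟨c, hc⟩ := hroot s hs.1
    have hx : xGL R.xadd s 1 ∈ D.posUnipotent F := xGL_mem_posUnipotent _ hs _
    have hb21 : b₂ * b₁ ∈ D.borelSubgroup F := mul_mem hb₂ hb₁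
    have hw₀ : (b₂ * b₁)⁻¹ * xGL R.xadd s 1 * (b₂ * b₁)⁻¹⁻¹ ∈ D.posUnipotent F :=
      R.sb_B_conj_U (inv_mem hb21) hx
    have hw₀G := posUnipotent_le_group R.xadd hw₀
    obtain ⟨u₃, hu₃⟩ := β.surjective ⟨_, hw₀G⟩
    have hu₃U : (u₃ : GL D.Idx F) ∈ D.posUnipotent F := by
      apply hreflU
      rw [hu₃]; exact hw₀
    -- `v₃ = n₀ u₃ n₀⁻¹`
    have hv₃V : (((⟨R.nW L₀, hn₀G⟩ : ↥(D.group F)) * u₃ * (⟨R.nW L₀, hn₀G⟩ : ↥(D.group F))⁻¹ :
        ↥(D.group F)) : GL D.Idx F) ∈ D.negUnipotent F := R.sb_long_UV hL _ hu₃U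
    have hβv₃ : ((β ((⟨R.nW L₀, hn₀G⟩ : ↥(D.group F)) * u₃ *
        (⟨R.nW L₀, hn₀G⟩ : ↥(D.group F))⁻¹) : ↥(D.group F)) : GL D.Idx F) =
        n * xGL R.xadd s 1 * n⁻¹ := by
      rw [map_mul, map_mul, map_inv, hu₃]
      simp only [Subgroup.coe_mul, InvMemClass.coe_inv]
      rw [hβn]
      group
    have hv₃U : (((⟨R.nW L₀, hn₀G⟩ : ↥(D.group F)) * u₃ * (⟨R.nW L₀, hn₀G⟩ : ↥(D.group F))⁻¹ :
        ↥(D.group F)) : GL D.Idx F) ∈ D.posUnipotent F := by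
      apply hreflU
      rw [hβv₃, hc]
      exact xGL_mem_posUnipotent _ hpos _
    have h1' := R.sb_UV hv₃U hv₃V
    have h2' : (⟨R.nW L₀, hn₀G⟩ : ↥(D.group F)) * u₃ * (⟨R.nW L₀, hn₀G⟩ : ↥(D.group F))⁻¹ = 1 :=
      Subtype.ext h1'
    rw [h2', map_one] at hβv₃
    have h3' : xGL R.xadd s (1 : F) = 1 := by
      have e : xGL R.xadd s (1 : F) = n⁻¹ * (n * xGL R.xadd s 1 * n⁻¹) * n := by group
      rw [e, ← hβv₃]
      simp
    exact one_ne_zero (R.sb_x_eq_one hs.1 h3')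
  have hnUV : ∀ w ∈ D.posUnipotent F, n * w * n⁻¹ ∈ D.negUnipotent F := by
    intro w hw
    refine conj_mem_closure {g : GL D.Idx F | ∃ (r : ℕ) (t : F), D.IsPosRoot r ∧
      (g : Matrix D.Idx D.Idx F) = D.x F r t} (D.negUnipotent F) n ?_ w hw
    rintro g ⟨s, t, hs, hg⟩
    obtain ⟨c, hc⟩ := hroot s hs.1
    rw [eq_xGL R.xadd hg, hc]
    exact xGL_mem_negUnipotent _ (hneg s hs) _
  refine ⟨hU₂, ?_⟩
  intro v hv
  have hu : ((⟨R.nW L₀, hn₀G⟩ : ↥(D.group F))⁻¹ * v * (⟨R.nW L₀, hn₀G⟩ : ↥(D.group F)) :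
      ↥(D.group F)).1 ∈ D.posUnipotent F := R.sb_long_VU' hL _ hv
  have ev : v = (⟨R.nW L₀, hn₀G⟩ : ↥(D.group F)) *
      ((⟨R.nW L₀, hn₀G⟩ : ↥(D.group F))⁻¹ * v * (⟨R.nW L₀, hn₀G⟩ : ↥(D.group F))) *
        (⟨R.nW L₀, hn₀G⟩ : ↥(D.group F))⁻¹ := by group
  rw [ev, map_mul, map_mul, map_inv]
  have hβu := hU₂ _ hu
  have e2 : ((β ⟨R.nW L₀, hn₀G⟩ * β ((⟨R.nW L₀, hn₀G⟩ : ↥(D.group F))⁻¹ * v *
      (⟨R.nW L₀, hn₀G⟩ : ↥(D.group F))) * (β ⟨R.nW L₀, hn₀G⟩)⁻¹ : ↥(D.group F)) : GL D.Idx F) =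
      n * ((b₂ * b₁) * ((β ((⟨R.nW L₀, hn₀G⟩ : ↥(D.group F))⁻¹ * v *
        (⟨R.nW L₀, hn₀G⟩ : ↥(D.group F))) : ↥(D.group F)) : GL D.Idx F) * (b₂ * b₁)⁻¹) * n⁻¹ := by
    simp only [Subgroup.coe_mul, InvMemClass.coe_inv]
    rw [hβn]
    group
  rw [e2]
  exact hnUV _ (R.sb_B_conj_U (mul_mem hb₂ hb₁) hβu)

end

end Cfsg.Agent.Helper36
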