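import Cfsg.Agent.Helper36.SbB

/-!
# Automorphisms of Chevalley groups, III: the fundamental root subgroups (helper36)

For a normalised automorphism `α` (`SbNorm`):

* `BRel.sb_norm_B`: `α` maps `B` into `B`;
* `BRel.sb_norm_n`: `α (n_i) ∈ B n_j B` for some `j` (the minimal parabolic subgroups are permuted);
* `BRel.sb_V_inf_P`: `V ∩ B n_i B ⊆ X_{-p_i}`;
* `BRel.sb_norm_xneg`, `BRel.sb_norm_xpos`: `α` maps `X_{-p_i}` into some `X_{-p_j}` and `X_{p_i}` into some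
  `X_{p_j}`.
-/

set_option autoImplicit false
set_option linter.unusedSectionVars false
set_option linter.unusedVariables false

namespace Cfsg.Agent.Helper36

open Cfsg Cfsg.Lie

section

variable {D : ChevalleyDatum} {F : Type*} [Field F] {η : ℕ → ℕ → ℤ}

theorem BRel.sb_norm_B (R : BRel D F η) [Fintype F] {α : MulAut ↥(D.group F)} (hα : SbNorm D F α)
    (b : ↥(D.group F)) (hb : (b : GL D.Idx F) ∈ D.borelSubgroup F) :
    ((α b : ↥(D.group F)) : GL D.Idx F) ∈ D.borelSubgroup F := by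
  apply R.sb_norm_U (α b).2
  intro u hu
  obtain ⟨u', hu'⟩ := α.surjective ⟨u, posUnipotent_le_group R.xadd hu⟩
  have hu'U : (u' : GL D.Idx F) ∈ D.posUnipotent F := hα.reflect_U u' (by rw [hu']; exact hu)
  have h1 := hα.1 (b * u' * b⁻¹) (R.sb_B_conj_U hb hu'U)
  rw [map_mul, map_mul, map_inv, hu'] at h1
  exact h1

theorem BRel.sb_reflect_B (R : BRel D F η) [Fintype F] {α : MulAut ↥(D.group F)}
    (hα : SbNorm D F α) (g : ↥(D.group F))
    (h : ((α g : ↥(D.group F)) : GL D.Idx F) ∈ D.borelSubgroup F) :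
    (g : GL D.Idx F) ∈ D.borelSubgroup F := by
  classical
  exact sb_reflect (fun x : ↥(D.group F) => (x : GL D.Idx F) ∈ D.borelSubgroup F) α α.injective
    (R.sb_norm_B hα) g h

theorem BRel.sb_n_not_mem_B (R : BRel D F η) {i : ℕ} (hi : i < D.rank) :
    R.n i ∉ D.borelSubgroup F := by
  intro h
  have hp := R.wf.simple_lt i hi
  have hx : xGL R.xadd (D.simple i) 1 ∈ D.borelSubgroup F :=
    BRel.U_le_B D F (xGL_mem_posUnipotent _ (R.wf.simple_pos i hi) _)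
  have h2 := mul_mem (mul_mem h hx) (inv_mem h)
  rw [R.conj_x hi hp, R.wf.refl_simple i hi, mul_one] at h2
  exact R.xneg_not_mem_B (R.neg_simple_neg hi) (R.eta_ne_zero hi hp) h2

/-- A normalised automorphism permutes the minimal parabolic subgroups. -/
theorem BRel.sb_norm_n (R : BRel D F η) [Fintype F] {α : MulAut ↥(D.group F)} (hα : SbNorm D F α)
    {i : ℕ} (hi : i < D.rank) (g : ↥(D.group F)) (hg : (g : GL D.Idx F) = R.n i) :
    ∃ j < D.rank, ∃ b₁ ∈ D.borelSubgroup F, ∃ b₂ ∈ D.borelSubgroup F,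
      ((α g : ↥(D.group F)) : GL D.Idx F) = b₁ * R.n j * b₂ := by
  classical
  obtain ⟨P, hP⟩ := R.exists_subgroup hi
  have hPmem : ∀ x : GL D.Idx F, x ∈ P ↔ x ∈ D.borelSubgroup F ∨
      ∃ b₁ ∈ D.borelSubgroup F, ∃ b₂ ∈ D.borelSubgroup F, x = b₁ * R.n i * b₂ := by
    intro x
    have h1 : x ∈ (P : Set (GL D.Idx F)) ↔ x ∈ (D.borelSubgroup F : Set (GL D.Idx F)) ∪
        DoubleCoset.doubleCoset (R.n i) (D.borelSubgroup F : Set (GL D.Idx F))
          (D.borelSubgroup F) := by rw [hP]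
    rw [Set.mem_union, DoubleCoset.mem_doubleCoset] at h1
    exact h1
  have hBG : D.borelSubgroup F ≤ D.group F := borelSubgroup_le_group R.xadd
  let Q : Subgroup (GL D.Idx F) :=
    ((P.subgroupOf (D.group F)).map α.toMonoidHom).map (D.group F).subtype
  have hQmem : ∀ x : GL D.Idx F, x ∈ Q ↔ ∃ y : ↥(D.group F), (y : GL D.Idx F) ∈ P ∧
      ((α y : ↥(D.group F)) : GL D.Idx F) = x := by
    intro x
    constructor
    · rintro ⟨z, ⟨y, hy, rfl⟩, rfl⟩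
      exact ⟨y, Subgroup.mem_subgroupOf.mp hy, rfl⟩
    · rintro ⟨y, hy, rfl⟩
      exact ⟨α y, ⟨y, Subgroup.mem_subgroupOf.mpr hy, rfl⟩, rfl⟩
  have hBQ : D.borelSubgroup F ≤ Q := by
    intro b hb
    obtain ⟨y, hy⟩ := α.surjective ⟨b, hBG hb⟩
    rw [hQmem]
    refine ⟨y, (hPmem _).mpr (Or.inl (R.sb_reflect_B hα y (by rw [hy]; exact hb))), ?_⟩
    rw [hy]
  have hgP : (g : GL D.Idx F) ∈ P := by
    rw [hPmem, hg]
    exact Or.inr ⟨1, one_mem _, 1, one_mem _, by group⟩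
  have hαgQ : ((α g : ↥(D.group F)) : GL D.Idx F) ∈ Q := (hQmem _).mpr ⟨g, hgP, rfl⟩
  obtain ⟨c₁, hc₁, m, hm, c₂, hc₂, he⟩ := R.bruhat _ (α g).2
  obtain ⟨L₀, hL₀, h₀, hh₀, rfl⟩ := R.exists_word m hm
  obtain ⟨L, hL, hred, -, h, hh, hw⟩ := R.exists_red L₀ hL₀
  have hnWQ : R.nW L ∈ Q := by
    have e : R.nW L = c₁⁻¹ * ((α g : ↥(D.group F)) : GL D.Idx F) * c₂⁻¹ * h₀⁻¹ * h⁻¹ := by
      rw [he, hw]; group
    rw [e]
    exact mul_mem (mul_mem (mul_mem (mul_mem (inv_mem (hBQ hc₁)) hαgQ) (inv_mem (hBQ hc₂)))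
      (inv_mem (hBQ (BRel.H_le_B D F hh₀)))) (inv_mem (hBQ (BRel.H_le_B D F hh)))
  cases L with
  | nil =>
    exfalso
    rw [hw, R.nW_nil, one_mul] at he
    have h1 : ((α g : ↥(D.group F)) : GL D.Idx F) ∈ D.borelSubgroup F := by
      rw [he]
      exact mul_mem (mul_mem hc₁ (BRel.H_le_B D F (mul_mem hh hh₀))) hc₂
    have h2 := R.sb_reflect_B hα g h1
    rw [hg] at h2
    exact R.sb_n_not_mem_B hi h2
  | cons j L' =>
    have hj : j < D.rank := hL.head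
    have hnj := R.n_mem_of_red hBQ (j :: L') hL hred hnWQ j List.mem_cons_self
    obtain ⟨y, hyP, hy⟩ := (hQmem _).mp hnj
    rcases (hPmem _).mp hyP with hyB | ⟨d₁, hd₁, d₂, hd₂, hyd⟩
    · exfalso
      have h1 := R.sb_norm_B hα y hyB
      rw [hy] at h1
      exact R.sb_n_not_mem_B hj h1
    · have hy2 : y = (⟨d₁, hBG hd₁⟩ : ↥(D.group F)) * g * ⟨d₂, hBG hd₂⟩ := by
        apply Subtype.ext
        rw [hyd]
        simp only [Subgroup.coe_mul]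
        rw [hg]
      have h1 := R.sb_norm_B hα ⟨d₁, hBG hd₁⟩ hd₁
      have h2 := R.sb_norm_B hα ⟨d₂, hBG hd₂⟩ hd₂
      refine ⟨j, hj, _, inv_mem h1, _, inv_mem h2, ?_⟩
      rw [← hy, hy2, map_mul, map_mul]
      simp only [Subgroup.coe_mul]
      group

/-- `V ∩ B n_i B ⊆ X_{-p_i}`. -/
theorem BRel.sb_V_inf_P (R : BRel D F η) {i : ℕ} (hi : i < D.rank) {v : GL D.Idx F}
    (hv : v ∈ D.negUnipotent F) {b₁ b₂ : GL D.Idx F} (hb₁ : b₁ ∈ D.borelSubgroup F)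
    (hb₂ : b₂ ∈ D.borelSubgroup F) (he : v = b₁ * R.n i * b₂) :
    ∃ s : F, v = xGL R.xadd (D.neg (D.simple i)) s := by
  obtain ⟨u, hu, t, h, hh, rfl⟩ := R.exists_decomp hi b₁ hb₁
  have hp := R.wf.simple_pos i hi
  have hlt := R.wf.simple_lt i hi
  have hnN := R.n_mem_monomial hi
  have hh' : (R.n i)⁻¹ * h * R.n i ∈ D.borelSubgroup F :=
    BRel.H_le_B D F (R.N_conj_H' _ hnN h hh)
  have huU : u ∈ D.posUnipotent F := R.up_le_U hi hu
  have hnegV : ∀ s : F, xGL R.xadd (D.neg (D.simple i)) s ∈ D.negUnipotent F :=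
    fun s => xGL_mem_negUnipotent _ (R.neg_simple_neg hi) _
  by_cases ht : t = 0
  · exfalso
    rw [ht, xGL_zero, mul_one] at he
    obtain ⟨z, hz, -, hez⟩ := R.n_inv_mem hi
    have h1 : (R.n i)⁻¹ * u * R.n i ∈ D.borelSubgroup F := by
      have e : (R.n i)⁻¹ * u * R.n i = z * (R.n i * u * (R.n i)⁻¹) * z⁻¹ := by
        calc (R.n i)⁻¹ * u * R.n i = (z * R.n i) * u * (z * R.n i)⁻¹ := by rw [← hez, inv_inv]
          _ = z * (R.n i * u * (R.n i)⁻¹) * z⁻¹ := by group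
      rw [e]
      exact mul_mem (mul_mem (BRel.H_le_B D F hz)
        (BRel.U_le_B D F (R.up_le_U hi (R.n_conj_up hi u hu)))) (inv_mem (BRel.H_le_B D F hz))
    have hb₃ : (R.n i)⁻¹ * u * R.n i * ((R.n i)⁻¹ * h * R.n i) * b₂ ∈ D.borelSubgroup F :=
      mul_mem (mul_mem h1 hh') hb₂
    have hv2 : v = R.n i * ((R.n i)⁻¹ * u * R.n i * ((R.n i)⁻¹ * h * R.n i) * b₂) := by
      rw [he]; group
    set b₃ := (R.n i)⁻¹ * u * R.n i * ((R.n i)⁻¹ * h * R.n i) * b₂ with hb₃def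
    have hx : xGL R.xadd (D.simple i) 1 ∈ D.borelSubgroup F :=
      BRel.U_le_B D F (xGL_mem_posUnipotent _ hp _)
    have hxB : b₃⁻¹ * xGL R.xadd (D.simple i) 1 * b₃ ∈ D.borelSubgroup F :=
      mul_mem (mul_mem (inv_mem hb₃) hx) hb₃
    have hxV : b₃⁻¹ * xGL R.xadd (D.simple i) 1 * b₃ ∈ D.negUnipotent F := by
      have e : b₃⁻¹ * xGL R.xadd (D.simple i) 1 * b₃ =
          v⁻¹ * (R.n i * xGL R.xadd (D.simple i) 1 * (R.n i)⁻¹) * v := by
        rw [hv2]; group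
      rw [e, R.conj_x hi hlt, R.wf.refl_simple i hi]
      exact mul_mem (mul_mem (inv_mem hv) (hnegV _)) hv
    have h2 : b₃⁻¹ * xGL R.xadd (D.simple i) 1 * b₃ ∈ D.borelSubgroup F ⊓ D.negUnipotent F :=
      ⟨hxB, hxV⟩
    rw [R.bv, Subgroup.mem_bot] at h2
    have h3 : xGL R.xadd (D.simple i) (1 : F) = 1 := by
      have e : xGL R.xadd (D.simple i) (1 : F) =
          b₃ * (b₃⁻¹ * xGL R.xadd (D.simple i) 1 * b₃) * b₃⁻¹ := by group
      rw [e, h2]; group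
    exact one_ne_zero (R.sb_x_eq_one hlt h3)
  · refine ⟨t⁻¹, ?_⟩
    have hxn := R.xneg_eq hi t⁻¹
    rw [inv_inv] at hxn
    have hhh : hGL R.xadd (D.simple i) (-t) ∈ D.diagonalSubgroup F :=
      hGL_mem R.xadd hlt (neg_ne_zero.mpr ht)
    have hhh' : (R.n i)⁻¹ * (hGL R.xadd (D.simple i) (-t))⁻¹ * R.n i ∈ D.borelSubgroup F :=
      BRel.H_le_B D F (R.N_conj_H' _ hnN _ (inv_mem hhh))
    have hxt : xGL R.xadd (D.simple i) t ∈ D.borelSubgroup F :=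
      BRel.U_le_B D F (xGL_mem_posUnipotent _ hp _)
    -- `v = u x_{-i}(t⁻¹) b₅`
    have hb₅ : (xGL R.xadd (D.simple i) t)⁻¹ *
        ((R.n i)⁻¹ * (hGL R.xadd (D.simple i) (-t))⁻¹ * R.n i) * ((R.n i)⁻¹ * h * R.n i) * b₂ ∈
        D.borelSubgroup F := mul_mem (mul_mem (mul_mem (inv_mem hxt) hhh') hh') hb₂
    set b₅ := (xGL R.xadd (D.simple i) t)⁻¹ *
        ((R.n i)⁻¹ * (hGL R.xadd (D.simple i) (-t))⁻¹ * R.n i) * ((R.n i)⁻¹ * h * R.n i) * b₂
      with hb₅def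
    have hv2 : v = u * xGL R.xadd (D.neg (D.simple i)) t⁻¹ * b₅ := by
      rw [he, hxn, hb₅def]; group
    have hnorm := (up_main R.xadd R.cf R.up hi).1
    have hxr : (xGL R.xadd (D.neg (D.simple i)) t⁻¹)⁻¹ ∈
        D.rootSubgroup F (D.simple i) ⊔ D.rootSubgroup F (D.neg (D.simple i)) :=
      Subgroup.mem_sup_right (Subgroup.inv_mem _ ((mem_rootSubgroup_iff R.xadd _ _).mpr ⟨t⁻¹, rfl⟩))
    have hy := (Subgroup.mem_normalizer_iff.mp (hnorm hxr) u).mp hu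
    rw [inv_inv] at hy
    have hyB := BRel.U_le_B D F (R.up_le_U hi hy)
    have h2 : (xGL R.xadd (D.neg (D.simple i)) t⁻¹)⁻¹ * v ∈
        D.borelSubgroup F ⊓ D.negUnipotent F := by
      refine ⟨?_, Subgroup.mul_mem _ (Subgroup.inv_mem _ (hnegV _)) hv⟩
      have e : (xGL R.xadd (D.neg (D.simple i)) t⁻¹)⁻¹ * v =
          ((xGL R.xadd (D.neg (D.simple i)) t⁻¹)⁻¹ * u * xGL R.xadd (D.neg (D.simple i)) t⁻¹) *
            b₅ := by rw [hv2]; group
      rw [e]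
      exact mul_mem hyB hb₅
    rw [R.bv, Subgroup.mem_bot] at h2
    exact (inv_mul_eq_one.mp h2).symm

/-- A normalised automorphism maps `X_{-p_i}` into some `X_{-p_j}`. -/
theorem BRel.sb_norm_xneg (R : BRel D F η) [Fintype F] {α : MulAut ↥(D.group F)}
    (hα : SbNorm D F α) {i : ℕ} (hi : i < D.rank) :
    ∃ j < D.rank, ∀ (t : F) (g : ↥(D.group F)),
      (g : GL D.Idx F) = xGL R.xadd (D.neg (D.simple i)) t →
      ∃ s : F, ((α g : ↥(D.group F)) : GL D.Idx F) = xGL R.xadd (D.neg (D.simple j)) s := by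
  have hBG : D.borelSubgroup F ≤ D.group F := borelSubgroup_le_group R.xadd
  have hnG : R.n i ∈ D.group F := monomialSubgroup_le_group R.xadd (R.n_mem_monomial hi)
  obtain ⟨j, hj, b₁, hb₁, b₂, hb₂, hn⟩ := R.sb_norm_n hα hi ⟨R.n i, hnG⟩ rfl
  refine ⟨j, hj, ?_⟩
  intro t g hg
  by_cases ht : t = 0
  · refine ⟨0, ?_⟩
    have : g = 1 := by
      apply Subtype.ext
      rw [hg, ht, xGL_zero]; rfl
    rw [this, map_one, xGL_zero]; rfl
  · obtain ⟨c₁, hc₁, c₂, hc₂, hx⟩ := R.xneg_mem hi ht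
    have hg2 : g = (⟨c₁, hBG hc₁⟩ : ↥(D.group F)) * ⟨R.n i, hnG⟩ * ⟨c₂, hBG hc₂⟩ := by
      apply Subtype.ext
      rw [hg, hx]; rfl
    have h1 := R.sb_norm_B hα ⟨c₁, hBG hc₁⟩ hc₁
    have h2 := R.sb_norm_B hα ⟨c₂, hBG hc₂⟩ hc₂
    have hV : ((α g : ↥(D.group F)) : GL D.Idx F) ∈ D.negUnipotent F := by
      apply hα.2
      rw [hg]
      exact xGL_mem_negUnipotent _ (R.neg_simple_neg hi) _
    refine R.sb_V_inf_P hj hV (mul_mem h1 hb₁) (mul_mem hb₂ h2) ?_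
    rw [hg2, map_mul, map_mul]
    simp only [Subgroup.coe_mul]
    rw [hn]
    group

/-- A normalised automorphism maps `X_{p_i}` into some `X_{p_j}`. -/
theorem BRel.sb_norm_xpos (R : BRel D F η) [Fintype F] {L₀ : List ℕ} (hL : SbLong D L₀)
    {α : MulAut ↥(D.group F)} (hα : SbNorm D F α) {i : ℕ} (hi : i < D.rank) :
    ∃ j < D.rank, ∀ (t : F) (g : ↥(D.group F)),
      (g : GL D.Idx F) = xGL R.xadd (D.simple i) t →
      ∃ s : F, ((α g : ↥(D.group F)) : GL D.Idx F) = xGL R.xadd (D.simple j) s := by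
  have hn₀G : R.nW L₀ ∈ D.group F := R.sb_nW_mem_group hL.valid
  set n₀ : ↥(D.group F) := ⟨R.nW L₀, hn₀G⟩ with hn₀
  have hα' : SbNorm D F (MulAut.conj n₀⁻¹ * α * MulAut.conj n₀) := by
    constructor
    · intro u hu
      have h1 : ((α (n₀ * u * n₀⁻¹) : ↥(D.group F)) : GL D.Idx F) ∈ D.negUnipotent F :=
        hα.2 _ (R.sb_long_UV hL _ hu)
      have h2 := R.sb_long_VU' hL _ h1
      have e : (((MulAut.conj n₀⁻¹ * α * MulAut.conj n₀) u : ↥(D.group F)) : GL D.Idx F) =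
          (R.nW L₀)⁻¹ * ((α (n₀ * u * n₀⁻¹) : ↥(D.group F)) : GL D.Idx F) * R.nW L₀ := by
        simp only [MulAut.mul_apply, MulAut.conj_apply, Subgroup.coe_mul, InvMemClass.coe_inv,
          inv_inv, hn₀]
      rw [e]; exact h2
    · intro v hv
      have h1 : ((α (n₀ * v * n₀⁻¹) : ↥(D.group F)) : GL D.Idx F) ∈ D.posUnipotent F :=
        hα.1 _ (R.sb_long_VU hL _ hv)
      have h2 := R.sb_long_UV' hL _ h1
      have e : (((MulAut.conj n₀⁻¹ * α * MulAut.conj n₀) v : ↥(D.group F)) : GL D.Idx F) =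
          (R.nW L₀)⁻¹ * ((α (n₀ * v * n₀⁻¹) : ↥(D.group F)) : GL D.Idx F) * R.nW L₀ := by
        simp only [MulAut.mul_apply, MulAut.conj_apply, Subgroup.coe_mul, InvMemClass.coe_inv,
          inv_inv, hn₀]
      rw [e]; exact h2
  obtain ⟨k, hk, hwk⟩ := hL.tau_surj i hi
  obtain ⟨l, hl, hnegl⟩ := R.sb_norm_xneg hα' hk
  obtain ⟨j, hj, hwj⟩ := hL.tau l hl
  refine ⟨j, hj, ?_⟩
  intro t g hg
  have hkl := R.wf.neg_lt _ (R.wf.simple_lt k hk)
  have hll := R.wf.neg_lt _ (R.wf.simple_lt l hl)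
  have he2 := R.eW_mul_self (F := F) hL.valid hkl
  obtain ⟨s, hs⟩ := hnegl ((eW D η L₀ (D.neg (D.simple k)) : F) * t)
    ⟨_, xGL_mem_group R.xadd _ _⟩ rfl
  have hg2 : g = n₀ * ⟨xGL R.xadd (D.neg (D.simple k)) ((eW D η L₀ (D.neg (D.simple k)) : F) * t),
      xGL_mem_group R.xadd _ _⟩ * n₀⁻¹ := by
    apply Subtype.ext
    rw [hg]
    show _ = R.nW L₀ * xGL R.xadd (D.neg (D.simple k)) _ * (R.nW L₀)⁻¹
    rw [R.nW_conj_x hL.valid hkl, hwk, ← mul_assoc, he2, one_mul]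
  refine ⟨(eW D η L₀ (D.neg (D.simple l)) : F) * s, ?_⟩
  rw [← hwj, ← R.nW_conj_x hL.valid hll, ← hs, hg2]
  simp only [MulAut.mul_apply, MulAut.conj_apply, Subgroup.coe_mul, InvMemClass.coe_inv, inv_inv,
    hn₀]
  group

end

end Cfsg.Agent.Helper36
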