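import Cfsg.Agent.Helper36.SbC
import Cfsg.Agent.Helper17.ChevSL2Hom

/-!
# Automorphisms of Chevalley groups, IV: the rank one analysis (helper36)

* `sb_sl2_n_conj`, `sb_sl2_decomp`: two identities of `SL₂` in the root elements `x_r`, `x_{-r}`;
* `BRel.sb_rank_one`: an automorphism with `α x_r(t) = x_{r'}(g t)`, `α x_{-r}(t) = x_{-r'}(f t)` satisfies
  `g t · f (-t⁻¹) = -1` and `f (-t⁻² u) = -(g t)⁻² g u`;
* `sb_semilinear`: then `f = c σ`, `g = c⁻¹ σ` with a field endomorphism `σ`.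
-/

set_option autoImplicit false
set_option linter.unusedSectionVars false
set_option linter.unusedVariables false

namespace Cfsg.Agent.Helper36

open Cfsg Cfsg.Lie Cfsg.Agent.Helper17

section

variable {F : Type*} [Field F]

theorem sb_mat_n (t u : F) (ht : t ≠ 0) :
    sl2U t * (sl2L (-t⁻¹) * (sl2U t * (sl2U u * 1))) =
      sl2L (-(t⁻¹) ^ 2 * u) * (sl2U t * (sl2L (-t⁻¹) * (sl2U t * 1))) := by
  simp only [sl2U, sl2L, Matrix.one_fin_two, Matrix.mul_fin_two]
  rw [← Matrix.ext_iff]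
  intro i j
  fin_cases i <;> fin_cases j <;>
    simp only [Matrix.of_apply, Matrix.cons_val', Matrix.cons_val_zero, Matrix.cons_val_one,
      Matrix.cons_val_fin_one, Fin.zero_eta, Fin.mk_one, Fin.isValue] <;> field_simp <;> ring

theorem sb_mat_decomp (a b : F) (hd : 1 + a * b ≠ 0) :
    sl2U a * (sl2L b * (sl2U a * 1)) =
      sl2L (b / (1 + a * b)) * (sl2D (1 + a * b) * (sl2U (a * (2 + a * b) / (1 + a * b)) * 1)) := by
  simp only [sl2U, sl2L, sl2D, Matrix.one_fin_two, Matrix.mul_fin_two]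
  have hd2 : 1 + b * a ≠ 0 := by rwa [mul_comm] at hd
  rw [← Matrix.ext_iff]
  intro i j
  fin_cases i <;> fin_cases j <;>
    simp only [Matrix.of_apply, Matrix.cons_val', Matrix.cons_val_zero, Matrix.cons_val_one,
      Matrix.cons_val_fin_one, Fin.zero_eta, Fin.mk_one, Fin.isValue] <;> field_simp <;> ring

variable {D : ChevalleyDatum}

theorem sb_sl2Word_hWord {r : ℕ} (hne : D.neg r ≠ r) (c : F) (hc : c ≠ 0) :
    sl2Word r (D.hWord r c) = sl2D c := by
  rw [← sl2_hword c hc]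
  simp [sl2Word, ChevalleyDatum.hWord, ChevalleyDatum.nWord, hne]

/-- `n_r(t) x_r(u) = x_{-r}(-t⁻² u) n_r(t)`. -/
theorem sb_sl2_n_conj (hX : XAdd D F) {r : ℕ} (hR : RankOne D r) (hC : CartanFacts D) (t u : F)
    (ht : t ≠ 0) :
    nGL hX r t * xGL hX r u = xGL hX (D.neg r) (-(t⁻¹) ^ 2 * u) * nGL hX r t := by
  have h1 : nGL hX r t * xGL hX r u = wordGL hX (D.nWord r t ++ [(r, u)]) := by
    rw [wordGL_append]; simp [nGL, wordGL_cons, wordGL_nil]
  have h2 : xGL hX (D.neg r) (-(t⁻¹) ^ 2 * u) * nGL hX r t =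
      wordGL hX ((D.neg r, -(t⁻¹) ^ 2 * u) :: D.nWord r t) := by
    rw [wordGL_cons]; rfl
  rw [h1, h2]
  apply Units.ext
  rw [wordGL_val, wordGL_val]
  apply wordMat_eq_of_sl2Word_eq hR hC
  · intro p hp
    simp only [ChevalleyDatum.nWord, List.cons_append, List.nil_append, List.mem_cons,
      List.not_mem_nil, or_false] at hp
    rcases hp with rfl | rfl | rfl | rfl <;> simp
  · intro p hp
    simp only [ChevalleyDatum.nWord, List.mem_cons, List.not_mem_nil, or_false] at hp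
    rcases hp with rfl | rfl | rfl | rfl <;> simp
  · have h := sb_mat_n t u ht
    simpa [sl2Word, ChevalleyDatum.nWord, hR.neg_ne] using h

/-- `x_r(a) x_{-r}(b) x_r(a) = x_{-r}(b/d) h_r(d) x_r(a(2+ab)/d)` for `d = 1 + ab ≠ 0`. -/
theorem sb_sl2_decomp (hX : XAdd D F) {r : ℕ} (hR : RankOne D r) (hC : CartanFacts D) (a b : F)
    (hd : 1 + a * b ≠ 0) :
    xGL hX r a * xGL hX (D.neg r) b * xGL hX r a =
      xGL hX (D.neg r) (b / (1 + a * b)) * hGL hX r (1 + a * b) *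
        xGL hX r (a * (2 + a * b) / (1 + a * b)) := by
  have h1 : xGL hX r a * xGL hX (D.neg r) b * xGL hX r a =
      wordGL hX [(r, a), (D.neg r, b), (r, a)] := by
    simp [wordGL_cons, wordGL_nil, mul_assoc]
  have h2 : xGL hX (D.neg r) (b / (1 + a * b)) * hGL hX r (1 + a * b) *
      xGL hX r (a * (2 + a * b) / (1 + a * b)) =
      wordGL hX ((D.neg r, b / (1 + a * b)) :: (D.hWord r (1 + a * b) ++
        [(r, a * (2 + a * b) / (1 + a * b))])) := by
    rw [wordGL_cons, wordGL_append, wordGL_cons, wordGL_nil, mul_one, mul_assoc]; rfl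
  rw [h1, h2]
  apply Units.ext
  rw [wordGL_val, wordGL_val]
  apply wordMat_eq_of_sl2Word_eq hR hC
  · intro p hp
    simp only [List.mem_cons, List.not_mem_nil, or_false] at hp
    rcases hp with rfl | rfl | rfl <;> simp
  · intro p hp
    simp only [ChevalleyDatum.hWord, ChevalleyDatum.nWord, List.cons_append, List.nil_append,
      List.mem_cons, List.not_mem_nil, or_false] at hp
    rcases hp with rfl | rfl | rfl | rfl | rfl | rfl | rfl | rfl <;> simp
  · have h := sb_mat_decomp a b hd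
    have e1 : sl2Word r [(r, a), (D.neg r, b), (r, a)] = sl2U a * (sl2L b * (sl2U a * 1)) := by
      simp [sl2Word, hR.neg_ne]
    have e2 : sl2Word r ((D.neg r, b / (1 + a * b)) :: (D.hWord r (1 + a * b) ++
        [(r, a * (2 + a * b) / (1 + a * b))])) =
        sl2L (b / (1 + a * b)) * (sl2D (1 + a * b) *
          (sl2U (a * (2 + a * b) / (1 + a * b)) * 1)) := by
      have e3 : ((D.neg r, b / (1 + a * b)) :: (D.hWord r (1 + a * b) ++
          [(r, a * (2 + a * b) / (1 + a * b))])) =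
          [(D.neg r, b / (1 + a * b))] ++ (D.hWord r (1 + a * b) ++
            [(r, a * (2 + a * b) / (1 + a * b))]) := rfl
      rw [e3, sl2Word_append, sl2Word_append, sb_sl2Word_hWord hR.neg_ne _ hd]
      simp [sl2Word, hR.neg_ne]
    rw [e1, e2, h]

end

section

variable {D : ChevalleyDatum} {F : Type*} [Field F] {η : ℕ → ℕ → ℤ}

theorem BRel.sb_x_pm (R : BRel D F η) {r : ℕ} (hr : r < D.nroots) {s s' : F}
    (h : xGL R.xadd r s = xGL R.xadd (D.neg r) s') : s = 0 := by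
  rcases R.wf.pos_xor r hr with ⟨hp, -⟩ | ⟨-, hn⟩
  · have h1 : xGL R.xadd r s ∈ D.negUnipotent F := by
      rw [h]; exact xGL_mem_negUnipotent _ (R.wf.neg_neg_root hp) _
    exact R.sb_x_eq_one hr (R.sb_UV (xGL_mem_posUnipotent _ hp _) h1)
  · have h1 : xGL R.xadd r s ∈ D.posUnipotent F := by
      rw [h]; exact xGL_mem_posUnipotent _ (R.wf.pos_neg_root hn) _
    exact R.sb_x_eq_one hr (R.sb_UV h1 (xGL_mem_negUnipotent _ hn _))

/-- The rank one relations of an automorphism mapping `X_r`, `X_{-r}` into `X_{r'}`, `X_{-r'}`. -/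
theorem BRel.sb_rank_one (R : BRel D F η) (hC : CartanFacts D) {r r' : ℕ} (hR : RankOne D r)
    (hR' : RankOne D r') (α : MulAut ↥(D.group F)) (f g : F → F)
    (hpos : ∀ (t : F) (x : ↥(D.group F)), (x : GL D.Idx F) = xGL R.xadd r t →
      ((α x : ↥(D.group F)) : GL D.Idx F) = xGL R.xadd r' (g t))
    (hneg : ∀ (t : F) (x : ↥(D.group F)), (x : GL D.Idx F) = xGL R.xadd (D.neg r) t →
      ((α x : ↥(D.group F)) : GL D.Idx F) = xGL R.xadd (D.neg r') (f t)) :
    (∀ t, t ≠ 0 → g t * f (-t⁻¹) = -1) ∧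
      (∀ t, t ≠ 0 → ∀ u, f (-(t⁻¹) ^ 2 * u) = -((g t)⁻¹) ^ 2 * g u) := by
  let X : F → ↥(D.group F) := fun t => ⟨xGL R.xadd r t, xGL_mem_group R.xadd r t⟩
  let Y : F → ↥(D.group F) := fun t => ⟨xGL R.xadd (D.neg r) t, xGL_mem_group R.xadd _ t⟩
  have hαX : ∀ t, ((α (X t) : ↥(D.group F)) : GL D.Idx F) = xGL R.xadd r' (g t) :=
    fun t => hpos t (X t) rfl
  have hαY : ∀ t, ((α (Y t) : ↥(D.group F)) : GL D.Idx F) = xGL R.xadd (D.neg r') (f t) :=
    fun t => hneg t (Y t) rfl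
  have hstar : ∀ t, t ≠ 0 → ∀ u,
      (xGL R.xadd r' (g t) * xGL R.xadd (D.neg r') (f (-t⁻¹)) * xGL R.xadd r' (g t)) *
        xGL R.xadd r' (g u) =
      xGL R.xadd (D.neg r') (f (-(t⁻¹) ^ 2 * u)) *
        (xGL R.xadd r' (g t) * xGL R.xadd (D.neg r') (f (-t⁻¹)) * xGL R.xadd r' (g t)) := by
    intro t ht u
    have h1 := sb_sl2_n_conj R.xadd hR hC t u ht
    rw [nGL_eq] at h1
    have h2 : X t * Y (-t⁻¹) * X t * X u = Y (-(t⁻¹) ^ 2 * u) * (X t * Y (-t⁻¹) * X t) :=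
      Subtype.ext h1
    have h3 := congrArg (fun x => ((α x : ↥(D.group F)) : GL D.Idx F)) h2
    simp only [map_mul, Subgroup.coe_mul, hαX, hαY] at h3
    exact h3
  have hg1 : g 1 ≠ 0 := by
    intro h0
    have h1 : ((α (X 1) : ↥(D.group F)) : GL D.Idx F) = 1 := by rw [hαX, h0, xGL_zero]
    have h2 : α (X 1) = 1 := Subtype.ext h1
    have h3 : X 1 = 1 := α.injective (h2.trans (map_one α).symm)
    have h4 : xGL R.xadd r (1 : F) = 1 := congrArg Subtype.val h3
    exact one_ne_zero (R.sb_x_eq_one hR.lt h4)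
  have hA : ∀ t, t ≠ 0 → g t * f (-t⁻¹) = -1 := by
    intro t ht
    by_contra hne
    have hd : 1 + g t * f (-t⁻¹) ≠ 0 := by
      intro h0; apply hne; linear_combination h0
    have hs := hstar t ht 1
    rw [sb_sl2_decomp R.xadd hR' hC (g t) (f (-t⁻¹)) hd] at hs
    have hhH : hGL R.xadd r' (1 + g t * f (-t⁻¹)) ∈ D.diagonalSubgroup F :=
      hGL_mem R.xadd hR'.lt hd
    obtain ⟨c, hc⟩ := R.hx _ hhH r' hR'.lt
    generalize hGL R.xadd r' (1 + g t * f (-t⁻¹)) = h at hs hc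
    generalize hP : xGL R.xadd (D.neg r') (f (-t⁻¹) / (1 + g t * f (-t⁻¹))) = P at hs
    have hQW : xGL R.xadd r' (g t * (2 + g t * f (-t⁻¹)) / (1 + g t * f (-t⁻¹))) *
        xGL R.xadd r' (g 1) = xGL R.xadd r' (g 1) *
          xGL R.xadd r' (g t * (2 + g t * f (-t⁻¹)) / (1 + g t * f (-t⁻¹))) := by
      rw [xGL_mul, xGL_mul, add_comm]
    generalize xGL R.xadd r' (g t * (2 + g t * f (-t⁻¹)) / (1 + g t * f (-t⁻¹))) = Q at hs hQW
    have key : xGL R.xadd r' (c * g 1) = P⁻¹ * xGL R.xadd (D.neg r') (f (-(t⁻¹) ^ 2 * 1)) * P := by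
      rw [← hc]
      have e1 : h * xGL R.xadd r' (g 1) * h⁻¹ =
          P⁻¹ * (P * h * (Q * xGL R.xadd r' (g 1))) * Q⁻¹ * h⁻¹ := by rw [hQW]; group
      have e2 : P * h * (Q * xGL R.xadd r' (g 1)) =
          xGL R.xadd (D.neg r') (f (-(t⁻¹) ^ 2 * 1)) * (P * h * Q) := by rw [← hs]; group
      rw [e1, e2]; group
    have hPS : P⁻¹ * xGL R.xadd (D.neg r') (f (-(t⁻¹) ^ 2 * 1)) * P =
        xGL R.xadd (D.neg r') (f (-(t⁻¹) ^ 2 * 1)) := by
      rw [← hP, xGL_inv, xGL_mul, xGL_mul]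
      congr 1
      ring
    rw [hPS] at key
    have hz := R.sb_x_pm hR'.lt key
    have hW : h * xGL R.xadd r' (g 1) * h⁻¹ = 1 := by rw [hc, hz, xGL_zero]
    have hW2 : xGL R.xadd r' (g 1) = 1 := by
      have e : xGL R.xadd r' (g 1) = h⁻¹ * (h * xGL R.xadd r' (g 1) * h⁻¹) * h := by group
      rw [e, hW]; group
    exact hg1 (R.sb_x_eq_one hR'.lt hW2)
  refine ⟨hA, ?_⟩
  intro t ht u
  have ha := hA t ht
  have ha0 : g t ≠ 0 := by
    intro h0
    rw [h0, zero_mul] at ha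
    exact zero_ne_one (neg_eq_zero.mp ha.symm).symm
  have hb : f (-t⁻¹) = -(g t)⁻¹ := by
    apply mul_left_cancel₀ ha0
    rw [ha, mul_neg, mul_inv_cancel₀ ha0]
  have hs := hstar t ht u
  rw [hb, ← nGL_eq, sb_sl2_n_conj R.xadd hR' hC (g t) (g u) ha0] at hs
  exact (R.sb_x_inj hR'.neg_lt (mul_right_cancel hs)).symm

end

/-- Additive maps `f`, `g` of a finite field with the rank one relations are `c σ`, `c⁻¹ σ` for a field
endomorphism `σ`. -/
theorem sb_semilinear {F : Type*} [Field F] [Fintype F] (f g : F → F)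
    (hf : ∀ t u, f (t + u) = f t + f u) (hg : ∀ t u, g (t + u) = g t + g u)
    (hA : ∀ t, t ≠ 0 → g t * f (-t⁻¹) = -1)
    (hB : ∀ t, t ≠ 0 → ∀ u, f (-(t⁻¹) ^ 2 * u) = -((g t)⁻¹) ^ 2 * g u) :
    ∃ c : F, c ≠ 0 ∧ ∃ σ : F →+* F, ∀ t, f t = c * σ t ∧ g t = c⁻¹ * σ t := by
  have hf0 : f 0 = 0 := by have := hf 0 0; simpa using this
  have hg0 : g 0 = 0 := by have := hg 0 0; simpa using this
  have hfn : ∀ t, f (-t) = - f t := by
    intro t
    have := hf t (-t)
    rw [add_neg_cancel, hf0] at this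
    linear_combination -this
  have hgn : ∀ t, g (-t) = - g t := by
    intro t
    have := hg t (-t)
    rw [add_neg_cancel, hg0] at this
    linear_combination -this
  have h1 : g 1 * f 1 = 1 := by
    have := hA 1 one_ne_zero
    rw [inv_one, hfn] at this
    linear_combination -this
  have hc0 : f 1 ≠ 0 := by
    intro h
    rw [h, mul_zero] at h1
    exact zero_ne_one h1
  have hcc : (f 1)⁻¹ * f 1 = 1 := inv_mul_cancel₀ hc0
  have hcc' : f 1 * (f 1)⁻¹ = 1 := mul_inv_cancel₀ hc0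
  have hg1 : g 1 = (f 1)⁻¹ := eq_inv_of_mul_eq_one_left h1
  have hfg : ∀ u, f u = (f 1) ^ 2 * g u := by
    intro u
    have := hB 1 one_ne_zero u
    rw [inv_one, one_pow, neg_one_mul, hfn, hg1, inv_inv] at this
    linear_combination -this
  have hσadd : ∀ t u, f 1 * g (t + u) = f 1 * g t + f 1 * g u := by
    intro t u; rw [hg]; ring
  have hσ1 : f 1 * g 1 = 1 := by rw [mul_comm]; exact h1
  have hσ0 : f 1 * g 0 = 0 := by rw [hg0, mul_zero]
  have hfσ : ∀ t, f t = f 1 * (f 1 * g t) := by intro t; rw [hfg]; ring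
  have hgσ : ∀ t, g t = (f 1)⁻¹ * (f 1 * g t) := by
    intro t; rw [← mul_assoc, hcc, one_mul]
  have hS1 : ∀ t, t ≠ 0 → (f 1 * g t) * (f 1 * g t⁻¹) = 1 := by
    intro t ht
    have := hA t ht
    rw [hfn, hfσ t⁻¹, hgσ t] at this
    linear_combination -this - (f 1 * g t) * (f 1 * g t⁻¹) * hcc
  have hS2 : ∀ t, t ≠ 0 → ∀ u, f 1 * g ((t⁻¹) ^ 2 * u) = ((f 1 * g t)⁻¹) ^ 2 * (f 1 * g u) := by
    intro t ht u
    have := hB t ht u
    rw [neg_mul, hfn, hfσ, hgσ t, hgσ u, mul_inv, inv_inv] at this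
    apply mul_left_cancel₀ hc0
    linear_combination -this + f 1 * ((f 1 * g t)⁻¹) ^ 2 * (f 1 * g u) * hcc'
  have hS3 : ∀ t u, f 1 * g (t ^ 2 * u) = (f 1 * g t) ^ 2 * (f 1 * g u) := by
    intro t u
    by_cases ht : t = 0
    · rw [ht]; simp [hg0]
    · have h2 := hS2 t⁻¹ (inv_ne_zero ht) u
      rw [inv_inv] at h2
      have h3 : f 1 * g t = (f 1 * g t⁻¹)⁻¹ := eq_inv_of_mul_eq_one_left (hS1 t ht)
      rw [h2, ← h3]
  have hsq : ∀ t, f 1 * g (t ^ 2) = (f 1 * g t) ^ 2 := by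
    intro t
    have := hS3 t 1
    rwa [mul_one, hσ1, mul_one] at this
  have hmul : ∀ t u, f 1 * g (t * u) = (f 1 * g t) * (f 1 * g u) := by
    by_cases h2 : (2 : F) = 0
    · have hinj : Function.Injective (fun t : F => t ^ 2) := by
        intro x y hxy
        have hxy' : x ^ 2 = y ^ 2 := hxy
        have h3 : (x - y) ^ 2 = 0 := by
          have e : (x - y) ^ 2 = x ^ 2 - 2 * (x * y) + y ^ 2 := by ring
          rw [e, h2, hxy']
          linear_combination y ^ 2 * h2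
        exact sub_eq_zero.mp ((pow_eq_zero_iff two_ne_zero).mp h3)
      intro t u
      obtain ⟨w, hw⟩ := (Finite.surjective_of_injective hinj) t
      have hw' : w ^ 2 = t := hw
      rw [← hw', hS3, hsq]
    · intro t u
      have e1 := hS3 (t + 1) u
      have e2 := hS3 t u
      have e3 : (t + 1) ^ 2 * u = t ^ 2 * u + (t * u + t * u) + u := by ring
      rw [e3, hσadd, hσadd, hσadd, e2, hσadd t 1, hσ1] at e1
      have e4 : 2 * (f 1 * g (t * u) - (f 1 * g t) * (f 1 * g u)) = 0 := by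
        linear_combination e1
      rcases mul_eq_zero.mp e4 with h | h
      · exact absurd h h2
      · exact sub_eq_zero.mp h
  let σ : F →+* F :=
    { toFun := fun t => f 1 * g t
      map_one' := hσ1
      map_mul' := hmul
      map_zero' := hσ0
      map_add' := hσadd }
  exact ⟨f 1, hc0, σ, fun t => ⟨hfσ t, hgσ t⟩⟩

end Cfsg.Agent.Helper36
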