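import Cfsg.Agent.Helper36.SbD
import Cfsg.Agent.Helper18.FAut1

/-!
# Automorphisms of Chevalley groups, V: the fundamental root subgroups, continued (helper36)

* `BRel.sb_norm_simple`: a normalised automorphism maps `x_{-p_i}(t)` to `x_{-p_j}(c σ t)` and `x_{p_i}(t)` to
  `x_{p_j}(c⁻¹ σ t)` for a field endomorphism `σ`;
* `BRel.sb_norm_inj`: `i ↦ j` is injective; `BRel.sb_norm_adj`: it preserves the edges of the Dynkin diagram;
* `BRel.sb_edge`: the functions of two joined fundamental roots are related;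
* `sbFrob`: the field automorphisms `t ↦ t ^ p ^ k`; `NRel.sb_aut_ext`: automorphisms agreeing on the
  fundamental root elements are equal.
-/

set_option autoImplicit false
set_option linter.unusedSectionVars false
set_option linter.unusedVariables false

namespace Cfsg.Agent.Helper36

open Cfsg Cfsg.Lie Cfsg.Agent.Helper17

/-- Table facts on the fundamental roots. -/
structure SbTab (D : ChevalleyDatum) : Prop where
  simple_inj : ∀ i < D.rank, ∀ j < D.rank, D.simple i = D.simple j → i = j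
  comm_pn : ∀ i < D.rank, ∀ j < D.rank, i ≠ j →
    D.commTerms (D.simple i) (D.neg (D.simple j)) = []

/-- Table facts on the Dynkin diagram: the commutator of `x_{-p_i}`, `x_{-p_j}`. -/
structure SbAdj (D : ChevalleyDatum) (adj : ℕ → ℕ → Bool) : Prop where
  edge : ∀ i < D.rank, ∀ j < D.rank, adj i j = true → ∃ k < D.nroots, ∃ ε : ℤ, (ε = 1 ∨ ε = -1) ∧
    D.commTerms (D.neg (D.simple i)) (D.neg (D.simple j)) = [(k, ε, 1, 1)]
  nonedge : ∀ i < D.rank, ∀ j < D.rank, i ≠ j → adj i j = false →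
    D.commTerms (D.neg (D.simple i)) (D.neg (D.simple j)) = []

section

variable {D : ChevalleyDatum} {F : Type*} [Field F] {η : ℕ → ℕ → ℤ}

theorem sb_cf_xGL (hX : XAdd D F) {r s : ℕ} (hcf : CF D F r s) (t u : F) :
    xGL hX s u * xGL hX r t =
      xGL hX r t * xGL hX s u * wordGL hX (D.commWord F r s t u) := by
  apply Units.ext
  simp only [Units.val_mul, xGL_val, wordGL_val]
  exact hcf t u

theorem sb_comm_of_nil (hX : XAdd D F) {r s : ℕ} (hcf : CF D F r s)
    (h0 : D.commTerms r s = []) (t u : F) : Commute (xGL hX r t) (xGL hX s u) := by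
  have h := sb_cf_xGL hX hcf t u
  simp only [ChevalleyDatum.commWord, h0, List.map_nil, wordGL_nil, mul_one] at h
  exact h.symm

theorem sb_cf_single (hX : XAdd D F) {r s k : ℕ} {ε : ℤ} (hcf : CF D F r s)
    (h0 : D.commTerms r s = [(k, ε, 1, 1)]) (t u : F) :
    xGL hX s u * xGL hX r t = xGL hX r t * xGL hX s u * xGL hX k ((ε : F) * (-t) * u) := by
  have h := sb_cf_xGL hX hcf t u
  simp only [ChevalleyDatum.commWord, h0, List.map_cons, List.map_nil, wordGL_cons, wordGL_nil,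
    mul_one, pow_one] at h
  exact h

/-- `x_{p_i}(1)` and `x_{-p_i}(s)`, `s ≠ 0`, do not commute. -/
theorem BRel.sb_not_comm (R : BRel D F η) {i : ℕ} (hi : i < D.rank) {s : F} (hs : s ≠ 0) :
    xGL R.xadd (D.simple i) 1 * xGL R.xadd (D.neg (D.simple i)) s ≠
      xGL R.xadd (D.neg (D.simple i)) s * xGL R.xadd (D.simple i) 1 := by
  intro hcomm
  have hlt := R.wf.simple_lt i hi
  have hp := R.wf.simple_pos i hi
  rw [R.xneg_eq hi s] at hcomm
  have hhH : hGL R.xadd (D.simple i) (-s⁻¹) ∈ D.diagonalSubgroup F :=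
    hGL_mem R.xadd hlt (neg_ne_zero.mpr (inv_ne_zero hs))
  have hA1 : xGL R.xadd (D.simple i) 1 * xGL R.xadd (D.simple i) s⁻¹ =
      xGL R.xadd (D.simple i) s⁻¹ * xGL R.xadd (D.simple i) 1 := by
    rw [xGL_mul, xGL_mul, add_comm]
  generalize hGL R.xadd (D.simple i) (-s⁻¹) = h at hcomm hhH
  generalize xGL R.xadd (D.simple i) s⁻¹ = A at hcomm hA1
  have hx1U : xGL R.xadd (D.simple i) (1 : F) ∈ D.posUnipotent F := xGL_mem_posUnipotent _ hp _
  have e : R.n i * xGL R.xadd (D.simple i) 1 * (R.n i)⁻¹ =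
      h⁻¹ * xGL R.xadd (D.simple i) 1 * h⁻¹⁻¹ := by
    generalize xGL R.xadd (D.simple i) (1 : F) = x1 at hcomm hA1
    have h2 : A * (x1 * h * R.n i) * A = A * (h * R.n i * x1) * A := by
      calc A * (x1 * h * R.n i) * A = (A * x1) * h * R.n i * A := by group
        _ = (x1 * A) * h * R.n i * A := by rw [hA1]
        _ = x1 * (A * h * R.n i * A) := by group
        _ = A * h * R.n i * A * x1 := hcomm
        _ = A * h * R.n i * (A * x1) := by group
        _ = A * h * R.n i * (x1 * A) := by rw [hA1]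
        _ = A * (h * R.n i * x1) * A := by group
    have h3 : x1 * h * R.n i = h * R.n i * x1 := mul_left_cancel (mul_right_cancel h2)
    calc R.n i * x1 * (R.n i)⁻¹ = h⁻¹ * (h * R.n i * x1) * (R.n i)⁻¹ := by group
      _ = h⁻¹ * (x1 * h * R.n i) * (R.n i)⁻¹ := by rw [h3]
      _ = h⁻¹ * x1 * h⁻¹⁻¹ := by group
  rw [R.conj_x hi hlt, R.wf.refl_simple i hi, mul_one] at e
  have hU : xGL R.xadd (D.neg (D.simple i)) ((η i (D.simple i) : ℤ) : F) ∈ D.posUnipotent F := by
    rw [e]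
    exact R.sb_B_conj_U (inv_mem (BRel.H_le_B D F hhH)) hx1U
  have h1 := R.sb_UV hU (xGL_mem_negUnipotent _ (R.neg_simple_neg hi) _)
  exact R.eta_ne_zero hi hlt (R.sb_x_eq_one (R.wf.neg_lt _ hlt) h1)

theorem BRel.sb_comm_simple (R : BRel D F η) (T : SbTab D) {i j : ℕ} (hi : i < D.rank)
    (hj : j < D.rank) (hne : i ≠ j) (s s' : F) :
    Commute (xGL R.xadd (D.simple i) s) (xGL R.xadd (D.neg (D.simple j)) s') := by
  have hli := R.wf.simple_lt i hi
  have hlj := R.wf.simple_lt j hj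
  have ne1 : D.neg (D.simple j) ≠ D.simple i := by
    intro h
    have h1 := R.neg_simple_neg hj
    rw [h] at h1
    exact R.wf.not_pos_and_neg (R.wf.simple_pos i hi) h1
  have ne2 : D.neg (D.simple j) ≠ D.neg (D.simple i) := by
    intro h
    have h1 := congrArg D.neg h
    rw [R.wf.neg_neg _ hlj, R.wf.neg_neg _ hli] at h1
    exact hne (T.simple_inj i hi j hj h1.symm)
  exact sb_comm_of_nil R.xadd (R.cf _ hli _ (R.wf.neg_lt _ hlj) ne1 ne2)
    (T.comm_pn i hi j hj hne) s s'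

/-- A normalised automorphism on the fundamental root subgroups. -/
theorem BRel.sb_norm_simple (R : BRel D F η) [Fintype F] (hC : CartanFacts D)
    (hRk : ∀ r < D.nroots, RankOne D r) (T : SbTab D) {L₀ : List ℕ} (hL : SbLong D L₀)
    {α : MulAut ↥(D.group F)} (hα : SbNorm D F α) {i : ℕ} (hi : i < D.rank) :
    ∃ j < D.rank, ∃ c : F, c ≠ 0 ∧ ∃ σ : F →+* F, ∀ (t : F) (x : ↥(D.group F)),
      ((x : GL D.Idx F) = xGL R.xadd (D.neg (D.simple i)) t →
        ((α x : ↥(D.group F)) : GL D.Idx F) = xGL R.xadd (D.neg (D.simple j)) (c * σ t)) ∧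
      ((x : GL D.Idx F) = xGL R.xadd (D.simple i) t →
        ((α x : ↥(D.group F)) : GL D.Idx F) = xGL R.xadd (D.simple j) (c⁻¹ * σ t)) := by
  obtain ⟨j, hj, hnegj⟩ := R.sb_norm_xneg hα hi
  obtain ⟨j', hj', hposj⟩ := R.sb_norm_xpos hL hα hi
  have hlt := R.wf.simple_lt i hi
  have hnlt := R.wf.neg_lt _ hlt
  have hjj : j' = j := by
    by_contra hne
    obtain ⟨s, hs⟩ := hposj 1 ⟨xGL R.xadd (D.simple i) 1, xGL_mem_group R.xadd _ _⟩ rfl
    obtain ⟨s', hs'⟩ := hnegj 1 ⟨xGL R.xadd (D.neg (D.simple i)) 1, xGL_mem_group R.xadd _ _⟩ rfl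
    have hcomm := R.sb_comm_simple T hj' hj hne s s'
    apply R.sb_not_comm hi (one_ne_zero : (1 : F) ≠ 0)
    have h1 : α ((⟨xGL R.xadd (D.simple i) 1, xGL_mem_group R.xadd _ _⟩ : ↥(D.group F)) *
        ⟨xGL R.xadd (D.neg (D.simple i)) 1, xGL_mem_group R.xadd _ _⟩) =
        α ((⟨xGL R.xadd (D.neg (D.simple i)) 1, xGL_mem_group R.xadd _ _⟩ : ↥(D.group F)) *
        ⟨xGL R.xadd (D.simple i) 1, xGL_mem_group R.xadd _ _⟩) := by
      apply Subtype.ext
      rw [map_mul, map_mul]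
      simp only [Subgroup.coe_mul]
      rw [hs, hs']
      exact hcomm.eq
    exact congrArg Subtype.val (α.injective h1)
  subst hjj
  choose f hf using fun t =>
    hnegj t ⟨xGL R.xadd (D.neg (D.simple i)) t, xGL_mem_group R.xadd _ _⟩ rfl
  choose g hg using fun t =>
    hposj t ⟨xGL R.xadd (D.simple i) t, xGL_mem_group R.xadd _ _⟩ rfl
  have hneg' : ∀ (t : F) (x : ↥(D.group F)),
      (x : GL D.Idx F) = xGL R.xadd (D.neg (D.simple i)) t →
      ((α x : ↥(D.group F)) : GL D.Idx F) = xGL R.xadd (D.neg (D.simple j')) (f t) := by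
    intro t x hx
    have : x = ⟨xGL R.xadd (D.neg (D.simple i)) t, xGL_mem_group R.xadd _ _⟩ := Subtype.ext hx
    rw [this]; exact hf t
  have hpos' : ∀ (t : F) (x : ↥(D.group F)),
      (x : GL D.Idx F) = xGL R.xadd (D.simple i) t →
      ((α x : ↥(D.group F)) : GL D.Idx F) = xGL R.xadd (D.simple j') (g t) := by
    intro t x hx
    have : x = ⟨xGL R.xadd (D.simple i) t, xGL_mem_group R.xadd _ _⟩ := Subtype.ext hx
    rw [this]; exact hg t
  have hlt' := R.wf.simple_lt j' hj'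
  have hfadd : ∀ t u, f (t + u) = f t + f u := by
    intro t u
    apply R.sb_x_inj (R.wf.neg_lt _ hlt')
    rw [← xGL_mul, ← hf, ← hf, ← hf, ← Subgroup.coe_mul, ← map_mul]
    congr 2
    apply Subtype.ext
    exact (xGL_mul R.xadd _ t u).symm
  have hgadd : ∀ t u, g (t + u) = g t + g u := by
    intro t u
    apply R.sb_x_inj hlt'
    rw [← xGL_mul, ← hg, ← hg, ← hg, ← Subgroup.coe_mul, ← map_mul]
    congr 2
    apply Subtype.ext
    exact (xGL_mul R.xadd _ t u).symm
  obtain ⟨hA, hB⟩ := R.sb_rank_one hC (hRk _ hlt) (hRk _ hlt') α f g hpos' hneg'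
  obtain ⟨c, hc, σ, hσ⟩ := sb_semilinear f g hfadd hgadd hA hB
  refine ⟨j', hj', c, hc, σ, fun t x => ⟨fun hx => ?_, fun hx => ?_⟩⟩
  · rw [hneg' t x hx, (hσ t).1]
  · rw [hpos' t x hx, (hσ t).2]

/-- The map of the fundamental roots induced by an automorphism is injective. -/
theorem BRel.sb_norm_inj (R : BRel D F η) [Fintype F] (T : SbTab D) {α : MulAut ↥(D.group F)}
    {i i' j : ℕ} (hi : i < D.rank) (hi' : i' < D.rank) (hne : i ≠ i')
    {c c' : F} (hc' : c' ≠ 0) {σ σ' : F →+* F}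
    (h : ∀ (t : F) (x : ↥(D.group F)), (x : GL D.Idx F) = xGL R.xadd (D.neg (D.simple i)) t →
      ((α x : ↥(D.group F)) : GL D.Idx F) = xGL R.xadd (D.neg (D.simple j)) (c * σ t))
    (h' : ∀ (t : F) (x : ↥(D.group F)), (x : GL D.Idx F) = xGL R.xadd (D.neg (D.simple i')) t →
      ((α x : ↥(D.group F)) : GL D.Idx F) = xGL R.xadd (D.neg (D.simple j)) (c' * σ' t)) :
    False := by
  have hsurj : Function.Surjective σ' := Finite.surjective_of_injective σ'.injective
  obtain ⟨t', ht'⟩ := hsurj (c'⁻¹ * c)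
  have e1 := h 1 ⟨_, xGL_mem_group R.xadd _ _⟩ rfl
  have e2 := h' t' ⟨_, xGL_mem_group R.xadd _ _⟩ rfl
  rw [map_one, mul_one] at e1
  rw [ht', ← mul_assoc, mul_inv_cancel₀ hc', one_mul] at e2
  have e3 := α.injective (Subtype.ext (e1.trans e2.symm))
  have e4 : xGL R.xadd (D.neg (D.simple i)) 1 = xGL R.xadd (D.neg (D.simple i')) t' :=
    congrArg Subtype.val e3
  apply R.sb_not_comm hi (one_ne_zero : (1 : F) ≠ 0)
  rw [e4]
  exact (R.sb_comm_simple T hi hi' hne 1 t').eq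

theorem BRel.sb_neg_simple_ne (R : BRel D F η) (T : SbTab D) {i j : ℕ} (hi : i < D.rank)
    (hj : j < D.rank) (hne : i ≠ j) :
    D.neg (D.simple j) ≠ D.neg (D.simple i) ∧ D.neg (D.simple j) ≠ D.neg (D.neg (D.simple i)) := by
  have hli := R.wf.simple_lt i hi
  have hlj := R.wf.simple_lt j hj
  constructor
  · intro h
    have h1 := congrArg D.neg h
    rw [R.wf.neg_neg _ hlj, R.wf.neg_neg _ hli] at h1
    exact hne (T.simple_inj i hi j hj h1.symm)
  · rw [R.wf.neg_neg _ hli]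
    intro h
    have h1 := R.neg_simple_neg hj
    rw [h] at h1
    exact R.wf.not_pos_and_neg (R.wf.simple_pos i hi) h1

/-- The map of the fundamental roots induced by an automorphism preserves the edges of the diagram. -/
theorem BRel.sb_norm_adj (R : BRel D F η) (T : SbTab D) {adj : ℕ → ℕ → Bool} (A : SbAdj D adj)
    {α : MulAut ↥(D.group F)} {i i' j j' : ℕ} (hi : i < D.rank) (hi' : i' < D.rank)
    (hj : j < D.rank) (hj' : j' < D.rank) (hii : i ≠ i') (hjj : j ≠ j') {f f' : F → F}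
    (h : ∀ (t : F) (x : ↥(D.group F)), (x : GL D.Idx F) = xGL R.xadd (D.neg (D.simple i)) t →
      ((α x : ↥(D.group F)) : GL D.Idx F) = xGL R.xadd (D.neg (D.simple j)) (f t))
    (h' : ∀ (t : F) (x : ↥(D.group F)), (x : GL D.Idx F) = xGL R.xadd (D.neg (D.simple i')) t →
      ((α x : ↥(D.group F)) : GL D.Idx F) = xGL R.xadd (D.neg (D.simple j')) (f' t))
    (hadj : adj i i' = true) : adj j j' = true := by
  by_contra hnadj
  have hnadj' : adj j j' = false := by simpa using hnadj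
  have hli := R.wf.neg_lt _ (R.wf.simple_lt i hi)
  have hli' := R.wf.neg_lt _ (R.wf.simple_lt i' hi')
  have hlj := R.wf.neg_lt _ (R.wf.simple_lt j hj)
  have hlj' := R.wf.neg_lt _ (R.wf.simple_lt j' hj')
  obtain ⟨k, hk, ε, hε, htab⟩ := A.edge i hi i' hi' hadj
  have hcf := R.cf _ hli _ hli' (R.sb_neg_simple_ne T hi hi' hii).1 (R.sb_neg_simple_ne T hi hi' hii).2
  have hcf' := R.cf _ hlj _ hlj' (R.sb_neg_simple_ne T hj hj' hjj).1
    (R.sb_neg_simple_ne T hj hj' hjj).2
  have hcomm := sb_comm_of_nil R.xadd hcf' (A.nonedge j hj j' hj' hjj hnadj') (f 1) (f' 1)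
  have e1 := h 1 ⟨_, xGL_mem_group R.xadd _ _⟩ rfl
  have e2 := h' 1 ⟨_, xGL_mem_group R.xadd _ _⟩ rfl
  have h1 : α ((⟨xGL R.xadd (D.neg (D.simple i)) 1, xGL_mem_group R.xadd _ _⟩ : ↥(D.group F)) *
      ⟨xGL R.xadd (D.neg (D.simple i')) 1, xGL_mem_group R.xadd _ _⟩) =
      α ((⟨xGL R.xadd (D.neg (D.simple i')) 1, xGL_mem_group R.xadd _ _⟩ : ↥(D.group F)) *
      ⟨xGL R.xadd (D.neg (D.simple i)) 1, xGL_mem_group R.xadd _ _⟩) := by
    apply Subtype.ext
    rw [map_mul, map_mul]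
    simp only [Subgroup.coe_mul]
    rw [e1, e2]
    exact hcomm.eq
  have h2 : xGL R.xadd (D.neg (D.simple i)) (1 : F) * xGL R.xadd (D.neg (D.simple i')) 1 =
      xGL R.xadd (D.neg (D.simple i')) 1 * xGL R.xadd (D.neg (D.simple i)) 1 :=
    congrArg Subtype.val (α.injective h1)
  have h3 := sb_cf_single R.xadd hcf htab (1 : F) 1
  rw [← h2] at h3
  have h4 : xGL R.xadd k ((ε : F) * (-1) * 1) = 1 := left_eq_mul.mp h3
  have h5 := R.sb_x_eq_one hk h4
  rcases hε with rfl | rfl <;> simp at h5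

/-- Two joined fundamental roots: the functions of an automorphism fixing both are proportional. -/
theorem BRel.sb_edge (R : BRel D F η) (T : SbTab D) {adj : ℕ → ℕ → Bool} (A : SbAdj D adj)
    {α : MulAut ↥(D.group F)} {i i' : ℕ} (hi : i < D.rank) (hi' : i' < D.rank)
    (hadj : adj i i' = true) (hii : i ≠ i') {f f' : F → F}
    (h : ∀ (t : F) (x : ↥(D.group F)), (x : GL D.Idx F) = xGL R.xadd (D.neg (D.simple i)) t →
      ((α x : ↥(D.group F)) : GL D.Idx F) = xGL R.xadd (D.neg (D.simple i)) (f t))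
    (h' : ∀ (t : F) (x : ↥(D.group F)), (x : GL D.Idx F) = xGL R.xadd (D.neg (D.simple i')) t →
      ((α x : ↥(D.group F)) : GL D.Idx F) = xGL R.xadd (D.neg (D.simple i')) (f' t)) :
    ∀ t, f t * f' 1 = f 1 * f' t := by
  have hli := R.wf.neg_lt _ (R.wf.simple_lt i hi)
  have hli' := R.wf.neg_lt _ (R.wf.simple_lt i' hi')
  obtain ⟨k, hk, ε, hε, htab⟩ := A.edge i hi i' hi' hadj
  have hcf := R.cf _ hli _ hli' (R.sb_neg_simple_ne T hi hi' hii).1 (R.sb_neg_simple_ne T hi hi' hii).2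
  have hεF : (ε : F) ≠ 0 := by rcases hε with rfl | rfl <;> simp
  -- the commutator element
  have key : ∀ t u : F, ∀ x : ↥(D.group F),
      (x : GL D.Idx F) = xGL R.xadd k ((ε : F) * (-t) * u) →
      ((α x : ↥(D.group F)) : GL D.Idx F) = xGL R.xadd k ((ε : F) * (-(f t)) * f' u) := by
    intro t u x hx
    have e1 := h t ⟨_, xGL_mem_group R.xadd _ _⟩ rfl
    have e2 := h' u ⟨_, xGL_mem_group R.xadd _ _⟩ rfl
    have h3 := sb_cf_single R.xadd hcf htab t u
    have h4 := sb_cf_single R.xadd hcf htab (f t) (f' u)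
    have hx2 : (⟨xGL R.xadd (D.neg (D.simple i')) u, xGL_mem_group R.xadd _ _⟩ : ↥(D.group F)) *
        ⟨xGL R.xadd (D.neg (D.simple i)) t, xGL_mem_group R.xadd _ _⟩ =
        ⟨xGL R.xadd (D.neg (D.simple i)) t, xGL_mem_group R.xadd _ _⟩ *
        ⟨xGL R.xadd (D.neg (D.simple i')) u, xGL_mem_group R.xadd _ _⟩ * x := by
      apply Subtype.ext
      simp only [Subgroup.coe_mul]
      rw [hx]; exact h3
    have h5 := congrArg (fun y => ((α y : ↥(D.group F)) : GL D.Idx F)) hx2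
    simp only [map_mul, Subgroup.coe_mul] at h5
    rw [e1, e2, h4] at h5
    exact (mul_left_cancel h5).symm
  intro t
  have k1 := key t 1 ⟨_, xGL_mem_group R.xadd _ _⟩ rfl
  have k2 := key 1 t ⟨xGL R.xadd k ((ε : F) * (-t) * 1), xGL_mem_group R.xadd _ _⟩
    (by show xGL R.xadd k ((ε : F) * (-t) * 1) = xGL R.xadd k ((ε : F) * (-1) * t); congr 1; ring)
  have k3 := R.sb_x_inj hk (k1.symm.trans k2)
  apply mul_left_cancel₀ hεF
  linear_combination -k3

end

end Cfsg.Agent.Helper36
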