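import Cfsg.Agent.Helper36.SbE

/-!
# Automorphisms of Chevalley groups, VI: field automorphisms and the torus (helper36)

* `sbFrob D F p k`: the automorphism induced by `t ↦ t ^ p ^ k`;
* `NRel.sb_aut_ext`: automorphisms agreeing on the fundamental root elements are equal;
* `BRel.sb_H_char`: an element normalising `U` and `V` lies in `H`;
* `sb_torus_twist`: if `torusHom` is injective (unimodular Cartan matrix), every family of values on the
  fundamental roots is realised by an element of `H`.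
-/

set_option autoImplicit false
set_option linter.unusedSectionVars false
set_option linter.unusedVariables false

namespace Cfsg.Agent.Helper36

open Cfsg Cfsg.Lie Cfsg.Agent.Helper17

/-- `t ↦ t ^ p ^ k`. -/
noncomputable def sbFr (F : Type*) [Field F] (p : ℕ) [Fact p.Prime] [CharP F p] (k : ℕ) : F →+* F :=
  iterateFrobenius F p k

theorem sbFr_apply {F : Type*} [Field F] (p : ℕ) [Fact p.Prime] [CharP F p] (k : ℕ) (t : F) :
    sbFr F p k t = t ^ p ^ k := iterateFrobenius_def p k t

section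

variable (D : ChevalleyDatum) (F : Type*) [Field F] (p : ℕ) [Fact p.Prime] [CharP F p]

/-- The endomorphism of the Chevalley group induced by `t ↦ t ^ p ^ k`. -/
noncomputable def sbFrobHom (k : ℕ) : ↥(D.group F) →* ↥(D.group F) :=
  ((Cfsg.Agent.Helper18.glMap D (sbFr F p k)).comp (D.group F).subtype).codRestrict (D.group F)
    (fun g => Cfsg.Agent.Helper18.glMap_group (sbFr F p k) g.2)

theorem sbFrobHom_val (k : ℕ) (g : ↥(D.group F)) :
    ((sbFrobHom D F p k g : ↥(D.group F)) : GL D.Idx F) =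
      Cfsg.Agent.Helper18.glMap D (sbFr F p k) (g : GL D.Idx F) := rfl

theorem sbFrobHom_injective (k : ℕ) : Function.Injective (sbFrobHom D F p k) := by
  intro a b h
  have h1 : ((sbFrobHom D F p k a : ↥(D.group F)) : GL D.Idx F) =
      ((sbFrobHom D F p k b : ↥(D.group F)) : GL D.Idx F) := congrArg Subtype.val h
  rw [sbFrobHom_val, sbFrobHom_val] at h1
  exact Subtype.ext (Cfsg.Agent.Helper18.glMap_injective _ h1)

variable [Fintype F]

/-- The automorphism of the Chevalley group induced by `t ↦ t ^ p ^ k`. -/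
noncomputable def sbFrob (k : ℕ) : MulAut ↥(D.group F) :=
  MulEquiv.ofBijective (sbFrobHom D F p k)
    ⟨sbFrobHom_injective D F p k, Finite.surjective_of_injective (sbFrobHom_injective D F p k)⟩

theorem sbFrob_val (k : ℕ) (g : ↥(D.group F)) :
    ((sbFrob D F p k g : ↥(D.group F)) : GL D.Idx F) =
      Cfsg.Agent.Helper18.glMap D (sbFr F p k) (g : GL D.Idx F) := rfl

variable {D F}

theorem sbFrob_x (hX : XAdd D F) (k : ℕ) (r : ℕ) (t : F) (x : ↥(D.group F))
    (hx : (x : GL D.Idx F) = xGL hX r t) :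
    ((sbFrob D F p k x : ↥(D.group F)) : GL D.Idx F) = xGL hX r (t ^ p ^ k) := by
  apply Units.ext
  rw [sbFrob_val, Cfsg.Agent.Helper18.glMap_x (sbFr F p k) (by rw [hx, xGL_val]), xGL_val,
    sbFr_apply]

theorem sbFrob_eq_one (k : ℕ) (h : ∀ t : F, t ^ p ^ k = t) : sbFrob D F p k = 1 := by
  apply MulEquiv.ext
  intro g
  apply Subtype.ext
  rw [sbFrob_val]
  apply Units.ext
  rw [Cfsg.Agent.Helper18.glMap_val]
  ext i j
  rw [Matrix.map_apply, sbFr_apply, h]
  rfl

theorem sbFrob_pow (k : ℕ) : (sbFrob D F p 1) ^ k = sbFrob D F p k := by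
  induction k with
  | zero =>
    rw [pow_zero]
    symm
    apply sbFrob_eq_one
    intro t
    rw [pow_zero, pow_one]
  | succ k ih =>
    rw [pow_succ, ih]
    apply MulEquiv.ext
    intro g
    apply Subtype.ext
    rw [MulAut.mul_apply, sbFrob_val, sbFrob_val, sbFrob_val, Cfsg.Agent.Helper18.glMap_comp]
    congr 2
    apply RingHom.ext
    intro t
    rw [RingHom.comp_apply, sbFr_apply, sbFr_apply, sbFr_apply, ← pow_mul]
    congr 1
    ring

theorem sbFrob_norm (k : ℕ) : SbNorm D F (sbFrob D F p k) := by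
  constructor
  · intro g hg
    rw [sbFrob_val]
    exact Cfsg.Agent.Helper18.glMap_posUnipotent _ hg
  · intro g hg
    rw [sbFrob_val]
    have : D.negUnipotent F ≤ (D.negUnipotent F).comap (Cfsg.Agent.Helper18.glMap D (sbFr F p k)) := by
      unfold ChevalleyDatum.negUnipotent
      rw [Subgroup.closure_le]
      rintro x ⟨r, t, hr, hx⟩
      apply Subgroup.subset_closure
      exact ⟨r, sbFr F p k t, hr, Cfsg.Agent.Helper18.glMap_x _ hx⟩
    exact this hg

end

section

variable {D : ChevalleyDatum} {F : Type*} [Field F] {η : ℕ → ℕ → ℤ}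

/-- Automorphisms agreeing on the fundamental root elements are equal. -/
theorem BRel.sb_aut_ext (R : BRel D F η) (α β : MulAut ↥(D.group F))
    (h : ∀ i < D.rank, ∀ (t : F) (x : ↥(D.group F)),
      ((x : GL D.Idx F) = xGL R.xadd (D.simple i) t ∨
        (x : GL D.Idx F) = xGL R.xadd (D.neg (D.simple i)) t) → α x = β x) : α = β := by
  let K : Subgroup ↥(D.group F) := MonoidHom.eqLocus α.toMonoidHom β.toMonoidHom
  have hK : ∀ x : ↥(D.group F), x ∈ K ↔ α x = β x := fun x => Iff.rfl
  have hn : ∀ i < D.rank, ∀ hm : R.n i ∈ D.group F, (⟨R.n i, hm⟩ : ↥(D.group F)) ∈ K := by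
    intro i hi hm
    have e : (⟨R.n i, hm⟩ : ↥(D.group F)) =
        ⟨xGL R.xadd (D.simple i) 1, xGL_mem_group R.xadd _ _⟩ *
        ⟨xGL R.xadd (D.neg (D.simple i)) (-(1 : F)⁻¹), xGL_mem_group R.xadd _ _⟩ *
        ⟨xGL R.xadd (D.simple i) 1, xGL_mem_group R.xadd _ _⟩ := by
      apply Subtype.ext
      show R.n i = _
      unfold NRel.n
      rw [nGL_eq]
      rfl
    rw [e]
    exact mul_mem (mul_mem ((hK _).mpr (h i hi 1 _ (Or.inl rfl)))
      ((hK _).mpr (h i hi _ _ (Or.inr rfl)))) ((hK _).mpr (h i hi 1 _ (Or.inl rfl)))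
  have hnW : ∀ L, ValidW D L → ∀ hm : R.nW L ∈ D.group F, (⟨R.nW L, hm⟩ : ↥(D.group F)) ∈ K := by
    intro L
    induction L with
    | nil =>
      intro _ hm
      have : (⟨R.nW [], hm⟩ : ↥(D.group F)) = 1 := Subtype.ext R.nW_nil
      rw [this]; exact one_mem _
    | cons i L ih =>
      intro hL hm
      have hmi : R.n i ∈ D.group F := monomialSubgroup_le_group R.xadd (R.n_mem_monomial hL.head)
      have hmL : R.nW L ∈ D.group F := R.sb_nW_mem_group hL.tail
      have e : (⟨R.nW (i :: L), hm⟩ : ↥(D.group F)) = ⟨R.n i, hmi⟩ * ⟨R.nW L, hmL⟩ :=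
        Subtype.ext (R.nW_cons i L)
      rw [e]
      exact mul_mem (hn i hL.head hmi) (ih hL.tail hmL)
  have key : ∀ g (hg : g ∈ D.group F), (⟨g, hg⟩ : ↥(D.group F)) ∈ K := by
    intro g hg
    have hg' : g ∈ Subgroup.closure {g : GL D.Idx F | ∃ (r : Fin D.nroots) (t : F),
        (g : Matrix D.Idx D.Idx F) = D.xMat F r t} := hg
    induction hg' using Subgroup.closure_induction with
    | mem g hgm =>
      obtain ⟨r, t, hgm⟩ := hgm
      have hg2 : g = xGL R.xadd r.val t := by
        apply Units.ext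
        rw [hgm, xGL_val]
        unfold ChevalleyDatum.x
        rw [dif_pos r.isLt]
      obtain ⟨L, hL, i, hi, hw⟩ := R.wf.reach r.val r.isLt
      have hp := R.wf.simple_lt i hi
      have h1 := R.nW_conj_x hL hp ((eW D η L (D.simple i) : F) * t)
      rw [hw, ← mul_assoc, R.eW_mul_self hL hp, one_mul] at h1
      have hmL : R.nW L ∈ D.group F := R.sb_nW_mem_group hL
      have e : (⟨g, hg⟩ : ↥(D.group F)) = ⟨R.nW L, hmL⟩ *
          ⟨xGL R.xadd (D.simple i) ((eW D η L (D.simple i) : F) * t), xGL_mem_group R.xadd _ _⟩ *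
          (⟨R.nW L, hmL⟩ : ↥(D.group F))⁻¹ := by
        apply Subtype.ext
        show g = _
        rw [hg2, ← h1]
        rfl
      rw [e]
      exact mul_mem (mul_mem (hnW L hL hmL) ((hK _).mpr (h i hi _ _ (Or.inl rfl))))
        (inv_mem (hnW L hL hmL))
    | one =>
      have : (⟨1, hg⟩ : ↥(D.group F)) = 1 := rfl
      rw [this]; exact one_mem _
    | mul a b ha hb iha ihb =>
      have haG : a ∈ D.group F := ha
      have hbG : b ∈ D.group F := hb
      have e : (⟨a * b, hg⟩ : ↥(D.group F)) = ⟨a, haG⟩ * ⟨b, hbG⟩ := rfl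
      rw [e]
      exact mul_mem (iha haG) (ihb hbG)
    | inv a ha iha =>
      have haG : a ∈ D.group F := ha
      have e : (⟨a⁻¹, hg⟩ : ↥(D.group F)) = (⟨a, haG⟩ : ↥(D.group F))⁻¹ := rfl
      rw [e]
      exact inv_mem (iha haG)
  apply MulEquiv.ext
  intro x
  exact (hK x).mp (key x.1 x.2)

/-- An element of the group normalising `U` and `V` lies in `H`. -/
theorem BRel.sb_H_char (R : BRel D F η) [Fintype F] (hT : TorusFacts D) (hHD : HDiag D F)
    {L₀ : List ℕ} (hL : SbLong D L₀) {g : GL D.Idx F} (hg : g ∈ D.group F)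
    (hU : ∀ u ∈ D.posUnipotent F, g * u * g⁻¹ ∈ D.posUnipotent F)
    (hV : ∀ v ∈ D.negUnipotent F, g * v * g⁻¹ ∈ D.negUnipotent F) :
    g ∈ D.diagonalSubgroup F := by
  have hgB := R.sb_norm_U hg hU
  have hn₀G := R.sb_nW_mem_group hL.valid
  have h1 : (R.nW L₀)⁻¹ * g * R.nW L₀ ∈ D.borelSubgroup F := by
    apply R.sb_norm_U (mul_mem (mul_mem (inv_mem hn₀G) hg) hn₀G)
    intro u hu
    have h2 := R.sb_long_VU' hL _ (hV _ (R.sb_long_UV hL u hu))
    have e : (R.nW L₀)⁻¹ * g * R.nW L₀ * u * ((R.nW L₀)⁻¹ * g * R.nW L₀)⁻¹ =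
        (R.nW L₀)⁻¹ * (g * (R.nW L₀ * u * (R.nW L₀)⁻¹) * g⁻¹) * R.nW L₀ := by group
    rw [e]; exact h2
  have hle : D.borelSubgroup F ≤
      (D.negUnipotent F ⊔ D.diagonalSubgroup F).comap (MulAut.conj (R.nW L₀)).toMonoidHom := by
    apply sup_le
    · intro u hu
      rw [Subgroup.mem_comap]
      show MulAut.conj (R.nW L₀) u ∈ _
      rw [MulAut.conj_apply]
      exact Subgroup.mem_sup_left (R.sb_long_UV hL u hu)
    · intro h hh
      rw [Subgroup.mem_comap]
      show MulAut.conj (R.nW L₀) h ∈ _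
      rw [MulAut.conj_apply]
      exact Subgroup.mem_sup_right (R.N_conj_H _ (R.nW_mem_monomial hL.valid) h hh)
  have h3 := hle h1
  rw [Subgroup.mem_comap] at h3
  have h4 : g ∈ D.negUnipotent F ⊔ D.diagonalSubgroup F := by
    have e : g = MulAut.conj (R.nW L₀) ((R.nW L₀)⁻¹ * g * R.nW L₀) := by
      rw [MulAut.conj_apply]; group
    rw [e]; exact h3
  have h5 : g ∈ D.borelSubgroup F ⊓ (D.negUnipotent F ⊔ D.diagonalSubgroup F) := ⟨hgB, h4⟩
  rw [borel_inf_negUnipotent_sup hT hHD] at h5
  exact h5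

end

section

variable {D : ChevalleyDatum} {F : Type*} [Field F]

/-- If `torusHom` is injective, every family of values on the fundamental roots is realised by an element of
the torus. -/
theorem sb_torus_twist [Fintype F] (hX : XAdd D F) (hOK : Cfsg.Agent.Helper36.chainOK D = true)
    (hC : CartanFacts D) {dd : ℕ → ℕ} (hS : SmithData D dd)
    (hinj : Function.Injective (torusHom D F)) (hsl : ∀ i < D.rank, D.simple i < D.nroots)
    (c : Fin D.rank → Fˣ) :
    ∃ h ∈ torus D F, ∀ i : Fin D.rank, ∀ t : F,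
      h * xGL hX (D.simple i) t * h⁻¹ = xGL hX (D.simple i) ((c i : F) * t) ∧
      h * xGL hX (D.neg (D.simple i)) t * h⁻¹ =
        xGL hX (D.neg (D.simple i)) ((((c i)⁻¹ : Fˣ) : F) * t) := by
  classical
  obtain ⟨U, U', Q, Q', S, M, -, -, -, -, -, hM⟩ := hS.ex
  let Ψ : (Fin D.rank → Fˣ) → (Fin D.rank → Fˣ) :=
    fun z i => torusChar D (extOne z) (D.simple i)
  have hΨinj : Function.Injective Ψ := by
    intro z z' hzz
    apply hinj
    apply Units.ext
    rw [torusHom_val, torusHom_val]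
    have key : ∀ s, s < D.nroots →
        torusChar D (extOne z) s = torusChar D (extOne z') s := by
      intro s hs
      rw [torusChar_eq_mu, torusChar_eq_mu]
      have h1 : ∀ w : Fin D.rank → Fˣ, mu D.rank D.cartan (extOne w) s =
          mu D.rank M (mu D.rank (fun a b => D.cartan a (D.simple b)) (extOne w)) s := by
        intro w
        rw [mu_mu]
        exact mu_congr D.rank (fun i hi => hM i s hi hs) (fun _ _ => rfl)
      rw [h1 z, h1 z']
      apply mu_congr D.rank (fun _ _ => rfl)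
      intro j hj
      exact congrFun hzz ⟨j, hj⟩
    unfold ChevalleyDatum.charDiag
    congr 1
    funext k
    rcases k with i | r
    · rfl
    · show ((torusChar D (extOne z) r.val : Fˣ) : F) = ((torusChar D (extOne z') r.val : Fˣ) : F)
      rw [key r.val r.isLt]
  obtain ⟨z, hz⟩ := (Finite.surjective_of_injective hΨinj) c
  refine ⟨torusHom D F z, ?_, ?_⟩
  · rw [← range_torusHom]; exact ⟨z, rfl⟩
  · intro i t
    have hzi : torusChar D (extOne z) (D.simple i) = c i := congrFun hz i
    have hlt := hsl i i.isLt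
    have hnlt := (hC.1 0 (D.simple i) (by have := i.isLt; omega) hlt).1
    constructor
    · apply Units.ext
      rw [Units.val_mul, Units.val_mul, xGL_val, xGL_val,
        torus_conj_x hOK hC (torusHom_val z) _ hlt t, hzi]
    · apply Units.ext
      rw [Units.val_mul, Units.val_mul, xGL_val, xGL_val,
        torus_conj_x hOK hC (torusHom_val z) _ hnlt t,
        (torusChar_isRootCharacter hC (extOne z)).1 _ hlt, hzi]

end

end Cfsg.Agent.Helper36
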