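import Cfsg.Agent.Helper36.SbF

/-!
# Automorphisms of Chevalley groups, VII: diagrams with multiple bonds (helper36)

* `sb_hGL_conj_x`: the action of `h_r(c)` on the root elements;
* `BRel.sb_xneg_simple_inj`: the negative fundamental root subgroups meet trivially;
* `SbAdjG`, `BRel.sb_norm_adjG`: the permutation of the fundamental roots induced by an automorphism normalising
  `U` and `V` preserves the edges of the diagram (no assumption on the bonds);
* `BRel.sb_norm_torus`: the relation between the field maps at two nodes given by the torus;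
* `BRel.sb_sigma_eq`: two fixed nodes with Cartan integer `-1` carry the same field map.
-/

set_option autoImplicit false
set_option linter.unusedSectionVars false
set_option linter.unusedVariables false

namespace Cfsg.Agent.Helper36

open Cfsg Cfsg.Lie Cfsg.Agent.Helper17

section

variable {D : ChevalleyDatum} {F : Type*} [Field F] {η : ℕ → ℕ → ℤ}

/-- `h_r(c) x_s(t) h_r(c)⁻¹ = x_s(c^⟨s,r⟩ t)`. -/
theorem sb_hGL_conj_x (hX : XAdd D F) (hHD : HDiag D F) (hOK : chainOK D = true)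
    (hC : CartanFacts D) {r s : ℕ} (hr : r < D.nroots) (hs : s < D.nroots) {c : F} (hc : c ≠ 0)
    (t : F) :
    hGL hX r c * xGL hX s t * (hGL hX r c)⁻¹ = xGL hX s (c ^ D.pairing r s * t) := by
  apply Units.ext
  rw [Units.val_mul, Units.val_mul, xGL_val, xGL_val]
  have hz := hMat_eq_charDiag hHD hr hc
  have h := torus_conj_x hOK hC (g := hGL hX r c) (by rw [hGL_val]; exact hz) s hs t
  rw [h, torusChar_pow_coroot]
  congr 2
  rw [Units.val_zpow_eq_zpow_val, Units.val_mk0]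

theorem sb_hGL_conj_x' (hX : XAdd D F) (hHD : HDiag D F) (hOK : chainOK D = true)
    (hC : CartanFacts D) {r s : ℕ} (hr : r < D.nroots) (hs : s < D.nroots) {c : F} (hc : c ≠ 0)
    (t : F) :
    (hGL hX r c)⁻¹ * xGL hX s t * hGL hX r c = xGL hX s ((c ^ D.pairing r s)⁻¹ * t) := by
  have h := sb_hGL_conj_x hX hHD hOK hC hr hs hc ((c ^ D.pairing r s)⁻¹ * t)
  rw [← mul_assoc, mul_inv_cancel₀ (zpow_ne_zero _ hc), one_mul] at h
  rw [← h]
  group

/-- The negative fundamental root subgroups meet trivially. -/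
theorem BRel.sb_xneg_simple_inj (R : BRel D F η) (T : SbTab D) {i j : ℕ} (hi : i < D.rank)
    (hj : j < D.rank) {s s' : F} (hs : s ≠ 0)
    (h : xGL R.xadd (D.neg (D.simple i)) s = xGL R.xadd (D.neg (D.simple j)) s') : i = j := by
  by_contra hne
  apply R.sb_not_comm hi hs
  rw [h]
  exact (R.sb_comm_simple T hi hj hne 1 s').eq

/-- Table facts on the Dynkin diagram, for any bonds. -/
structure SbAdjG (D : ChevalleyDatum) (adj : ℕ → ℕ → Bool) : Prop where
  edge : ∀ i < D.rank, ∀ j < D.rank, adj i j = true →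
    i ≠ j ∧ D.reflectRoot i (D.neg (D.simple j)) ≠ D.neg (D.simple j)
  nonedge : ∀ i < D.rank, ∀ j < D.rank, i ≠ j → adj i j = false →
    D.commTerms (D.neg (D.simple i)) (D.neg (D.simple j)) = []

/-- If the reflection of `p_i` moves `-p_j`, the root subgroups of `-p_i`, `-p_j` do not commute. -/
theorem BRel.sb_adj_not_comm (R : BRel D F η) (T : SbTab D) {i i' : ℕ} (hi : i < D.rank)
    (hi' : i' < D.rank) (hii : i ≠ i')
    (hrefl : D.reflectRoot i (D.neg (D.simple i')) ≠ D.neg (D.simple i'))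
    (hcomm : ∀ t u : F, Commute (xGL R.xadd (D.neg (D.simple i)) t)
      (xGL R.xadd (D.neg (D.simple i')) u)) : False := by
  have hli := R.wf.simple_lt i hi
  have hli' := R.wf.simple_lt i' hi'
  have hnli' := R.wf.neg_lt _ hli'
  have h1 : Commute (R.n i) (xGL R.xadd (D.neg (D.simple i')) 1) := by
    unfold NRel.n
    rw [nGL_eq]
    exact ((R.sb_comm_simple T hi hi' hii _ _).mul_left (hcomm _ _)).mul_left
      (R.sb_comm_simple T hi hi' hii _ _)
  have h2 := R.conj_x hi hnli' (1 : F)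
  have h3 : R.n i * xGL R.xadd (D.neg (D.simple i')) 1 * (R.n i)⁻¹ =
      xGL R.xadd (D.neg (D.simple i')) 1 := by
    rw [h1.eq, mul_inv_cancel_right]
  rw [h3] at h2
  have hs1 := R.wf.refl_pos i hi _ (R.wf.simple_pos i' hi')
    (fun h => hii (T.simple_inj i' hi' i hi h).symm)
  have hr'eq : D.reflectRoot i (D.neg (D.simple i')) = D.neg (D.reflectRoot i (D.simple i')) :=
    R.wf.refl_neg i hi _ hli'
  have hs₁lt : D.reflectRoot i (D.simple i') < D.nroots := R.wf.refl_lt i hi _ hli'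
  have hs₁ne : D.reflectRoot i (D.simple i') ≠ D.simple i' := by
    intro h
    apply hrefl
    rw [hr'eq, h]
  rw [hr'eq] at h2
  -- conjugate by `n_{i'}`
  have h4 := R.conj_x hi' hnli' (1 : F)
  have h5 : D.reflectRoot i' (D.neg (D.simple i')) = D.simple i' := by
    rw [R.wf.refl_neg i' hi' _ hli', R.wf.refl_simple i' hi', R.wf.neg_neg _ hli']
  rw [h5] at h4
  have h6 := R.conj_x hi' (R.wf.neg_lt _ hs₁lt)
    ((η i (D.neg (D.simple i')) : F) * 1)
  rw [← h2, h4, R.wf.refl_neg i' hi' _ hs₁lt] at h6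
  have hs2 := R.wf.refl_pos i' hi' _ hs1.1 hs₁ne
  have hV : xGL R.xadd (D.simple i') ((η i' (D.neg (D.simple i')) : F) * 1) ∈ D.negUnipotent F := by
    rw [h6]
    exact xGL_mem_negUnipotent _ ((R.wf.pos_iff_neg _ (R.wf.refl_lt i' hi' _ hs₁lt)).mp hs2.1) _
  have h7 := R.sb_x_eq_one hli' (R.sb_UV (xGL_mem_posUnipotent _ (R.wf.simple_pos i' hi') _) hV)
  have h8 := R.eta_mul_self (F := F) hi' hnli'
  rw [mul_one] at h7
  rw [h7, mul_zero] at h8
  exact zero_ne_one h8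

/-- The map of the fundamental roots induced by an automorphism preserves the edges of the diagram. -/
theorem BRel.sb_norm_adjG (R : BRel D F η) (T : SbTab D) {adj : ℕ → ℕ → Bool} (A : SbAdjG D adj)
    {α : MulAut ↥(D.group F)} {i i' j j' : ℕ} (hi : i < D.rank) (hi' : i' < D.rank)
    (hj : j < D.rank) (hj' : j' < D.rank) (hjj : j ≠ j') {f f' : F → F}
    (h : ∀ (t : F) (x : ↥(D.group F)), (x : GL D.Idx F) = xGL R.xadd (D.neg (D.simple i)) t →
      ((α x : ↥(D.group F)) : GL D.Idx F) = xGL R.xadd (D.neg (D.simple j)) (f t))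
    (h' : ∀ (t : F) (x : ↥(D.group F)), (x : GL D.Idx F) = xGL R.xadd (D.neg (D.simple i')) t →
      ((α x : ↥(D.group F)) : GL D.Idx F) = xGL R.xadd (D.neg (D.simple j')) (f' t))
    (hadj : adj i i' = true) : adj j j' = true := by
  by_contra hnadj
  have hnadj' : adj j j' = false := by simpa using hnadj
  obtain ⟨hii, hrefl⟩ := A.edge i hi i' hi' hadj
  have hlj := R.wf.neg_lt _ (R.wf.simple_lt j hj)
  have hlj' := R.wf.neg_lt _ (R.wf.simple_lt j' hj')
  have hcf' := R.cf _ hlj _ hlj' (R.sb_neg_simple_ne T hj hj' hjj).1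
    (R.sb_neg_simple_ne T hj hj' hjj).2
  apply R.sb_adj_not_comm T hi hi' hii hrefl
  intro t u
  have hcomm := sb_comm_of_nil R.xadd hcf' (A.nonedge j hj j' hj' hjj hnadj') (f t) (f' u)
  have e1 := h t ⟨_, xGL_mem_group R.xadd _ _⟩ rfl
  have e2 := h' u ⟨_, xGL_mem_group R.xadd _ _⟩ rfl
  have h1 : α ((⟨xGL R.xadd (D.neg (D.simple i)) t, xGL_mem_group R.xadd _ _⟩ : ↥(D.group F)) *
      ⟨xGL R.xadd (D.neg (D.simple i')) u, xGL_mem_group R.xadd _ _⟩) =
      α ((⟨xGL R.xadd (D.neg (D.simple i')) u, xGL_mem_group R.xadd _ _⟩ : ↥(D.group F)) *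
      ⟨xGL R.xadd (D.neg (D.simple i)) t, xGL_mem_group R.xadd _ _⟩) := by
    apply Subtype.ext
    rw [map_mul, map_mul]
    simp only [Subgroup.coe_mul]
    rw [e1, e2]
    exact hcomm.eq
  exact congrArg Subtype.val (α.injective h1)

end

section

variable {D : ChevalleyDatum} {F : Type*} [Field F] {η : ℕ → ℕ → ℤ}

theorem BRel.sb_nGL_mem_group (R : BRel D F η) (r : ℕ) (a : F) : nGL R.xadd r a ∈ D.group F := by
  rw [nGL_eq]
  exact mul_mem (mul_mem (xGL_mem_group _ _ _) (xGL_mem_group _ _ _)) (xGL_mem_group _ _ _)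

/-- The image of `n_{p_i}(a)` under an automorphism normalising the two fundamental root subgroups. -/
theorem BRel.sb_norm_nGL (R : BRel D F η) {α : MulAut ↥(D.group F)} {i j : ℕ} {c : F}
    {σ : F →+* F}
    (h : ∀ (t : F) (x : ↥(D.group F)),
      ((x : GL D.Idx F) = xGL R.xadd (D.neg (D.simple i)) t →
        ((α x : ↥(D.group F)) : GL D.Idx F) = xGL R.xadd (D.neg (D.simple j)) (c * σ t)) ∧
      ((x : GL D.Idx F) = xGL R.xadd (D.simple i) t →
        ((α x : ↥(D.group F)) : GL D.Idx F) = xGL R.xadd (D.simple j) (c⁻¹ * σ t)))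
    (a : F) (y : ↥(D.group F)) (hy : (y : GL D.Idx F) = nGL R.xadd (D.simple i) a) :
    ((α y : ↥(D.group F)) : GL D.Idx F) = nGL R.xadd (D.simple j) (c⁻¹ * σ a) := by
  have hy' : y = ⟨xGL R.xadd (D.simple i) a, xGL_mem_group R.xadd _ _⟩ *
      ⟨xGL R.xadd (D.neg (D.simple i)) (-a⁻¹), xGL_mem_group R.xadd _ _⟩ *
      ⟨xGL R.xadd (D.simple i) a, xGL_mem_group R.xadd _ _⟩ := by
    apply Subtype.ext
    rw [hy, nGL_eq]
    rfl
  rw [hy', map_mul, map_mul]
  simp only [Subgroup.coe_mul]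
  rw [(h a _).2 rfl, (h (-a⁻¹) _).1 rfl, nGL_eq]
  have e : c * σ (-a⁻¹) = -(c⁻¹ * σ a)⁻¹ := by
    rw [map_neg, map_inv₀, mul_inv, inv_inv]
    ring
  rw [e]

/-- The image of `h_{p_i}(z)`. -/
theorem BRel.sb_norm_hGL (R : BRel D F η) {α : MulAut ↥(D.group F)} {i j : ℕ}
    (hj : j < D.rank) {c : F} (hc : c ≠ 0) {σ : F →+* F}
    (h : ∀ (t : F) (x : ↥(D.group F)),
      ((x : GL D.Idx F) = xGL R.xadd (D.neg (D.simple i)) t →
        ((α x : ↥(D.group F)) : GL D.Idx F) = xGL R.xadd (D.neg (D.simple j)) (c * σ t)) ∧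
      ((x : GL D.Idx F) = xGL R.xadd (D.simple i) t →
        ((α x : ↥(D.group F)) : GL D.Idx F) = xGL R.xadd (D.simple j) (c⁻¹ * σ t)))
    (z : F) (y : ↥(D.group F)) (hy : (y : GL D.Idx F) = hGL R.xadd (D.simple i) z) :
    ((α y : ↥(D.group F)) : GL D.Idx F) =
      hGL R.xadd (D.simple j) (c⁻¹ * σ z) * (hGL R.xadd (D.simple j) c⁻¹)⁻¹ := by
  have hlj := R.wf.simple_lt j hj
  have hy' : y = ⟨nGL R.xadd (D.simple i) z, R.sb_nGL_mem_group _ _⟩ *
      ⟨nGL R.xadd (D.simple i) (-1), R.sb_nGL_mem_group _ _⟩ := by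
    apply Subtype.ext
    rw [hy, hGL_eq]
    rfl
  rw [hy', map_mul]
  simp only [Subgroup.coe_mul]
  rw [R.sb_norm_nGL h z _ rfl, R.sb_norm_nGL h (-1) _ rfl, map_neg, map_one]
  rw [hGL_eq, hGL_eq, mul_inv_rev, R.nGL_inv hlj (c := (-1 : F)) (by simp), neg_neg,
    R.nGL_inv hlj (inv_ne_zero hc)]
  have e1 : nGL R.xadd (D.simple j) (-1 : F) * nGL R.xadd (D.simple j) 1 = 1 := by
    have := R.nGL_mul_neg hlj (c := (-1 : F)) (by simp)
    rwa [neg_neg] at this
  have e2 : c⁻¹ * (-1 : F) = -c⁻¹ := by ring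
  rw [e2, mul_assoc (nGL R.xadd (D.simple j) (c⁻¹ * σ z)),
    ← mul_assoc (nGL R.xadd (D.simple j) (-1 : F)), e1, one_mul]

/-- The relation between the field maps at two nodes, from the action of the torus. -/
theorem BRel.sb_norm_torus (R : BRel D F η) (hHD : HDiag D F) (hOK : chainOK D = true)
    (hC : CartanFacts D) {α : MulAut ↥(D.group F)} {i i' j j' : ℕ} (hi : i < D.rank)
    (hi' : i' < D.rank) (hj : j < D.rank) (hj' : j' < D.rank) {c c' : F} (hc : c ≠ 0)
    (hc' : c' ≠ 0) {σ σ' : F →+* F}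
    (h : ∀ (t : F) (x : ↥(D.group F)),
      ((x : GL D.Idx F) = xGL R.xadd (D.neg (D.simple i)) t →
        ((α x : ↥(D.group F)) : GL D.Idx F) = xGL R.xadd (D.neg (D.simple j)) (c * σ t)) ∧
      ((x : GL D.Idx F) = xGL R.xadd (D.simple i) t →
        ((α x : ↥(D.group F)) : GL D.Idx F) = xGL R.xadd (D.simple j) (c⁻¹ * σ t)))
    (h' : ∀ (t : F) (x : ↥(D.group F)), (x : GL D.Idx F) = xGL R.xadd (D.simple i') t →
        ((α x : ↥(D.group F)) : GL D.Idx F) = xGL R.xadd (D.simple j') (c'⁻¹ * σ' t))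
    {z : F} (hz : z ≠ 0) :
    (σ z) ^ D.pairing (D.simple j) (D.simple j') =
      (σ' z) ^ D.pairing (D.simple i) (D.simple i') := by
  have hli := R.wf.simple_lt i hi
  have hli' := R.wf.simple_lt i' hi'
  have hlj := R.wf.simple_lt j hj
  have hlj' := R.wf.simple_lt j' hj'
  have hσz : σ z ≠ 0 := (map_ne_zero σ).mpr hz
  have ha : c⁻¹ * σ z ≠ 0 := mul_ne_zero (inv_ne_zero hc) hσz
  have hhG : hGL R.xadd (D.simple i) z ∈ D.group F :=
    diagonalSubgroup_le_group R.xadd (hGL_mem R.xadd hli hz)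
  have e1 := sb_hGL_conj_x R.xadd hHD hOK hC hli hli' hz (1 : F)
  have e2 : (⟨hGL R.xadd (D.simple i) z, hhG⟩ : ↥(D.group F)) *
      ⟨xGL R.xadd (D.simple i') 1, xGL_mem_group R.xadd _ _⟩ *
      (⟨hGL R.xadd (D.simple i) z, hhG⟩ : ↥(D.group F))⁻¹ =
      ⟨xGL R.xadd (D.simple i') (z ^ D.pairing (D.simple i) (D.simple i') * 1),
        xGL_mem_group R.xadd _ _⟩ := Subtype.ext e1
  have e3 := congrArg (fun y => ((α y : ↥(D.group F)) : GL D.Idx F)) e2
  simp only [map_mul, map_inv, Subgroup.coe_mul, Subgroup.coe_inv] at e3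
  rw [R.sb_norm_hGL hj hc h z _ rfl, h' 1 _ rfl, h' _ _ rfl] at e3
  have e4 : ∀ u : F, (hGL R.xadd (D.simple j) (c⁻¹ * σ z) * (hGL R.xadd (D.simple j) c⁻¹)⁻¹) *
      xGL R.xadd (D.simple j') u *
      (hGL R.xadd (D.simple j) (c⁻¹ * σ z) * (hGL R.xadd (D.simple j) c⁻¹)⁻¹)⁻¹ =
      xGL R.xadd (D.simple j') ((c⁻¹ * σ z) ^ D.pairing (D.simple j) (D.simple j') *
        ((c⁻¹ ^ D.pairing (D.simple j) (D.simple j'))⁻¹ * u)) := by
    intro u
    have e : (hGL R.xadd (D.simple j) (c⁻¹ * σ z) * (hGL R.xadd (D.simple j) c⁻¹)⁻¹) *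
        xGL R.xadd (D.simple j') u *
        (hGL R.xadd (D.simple j) (c⁻¹ * σ z) * (hGL R.xadd (D.simple j) c⁻¹)⁻¹)⁻¹ =
        hGL R.xadd (D.simple j) (c⁻¹ * σ z) * ((hGL R.xadd (D.simple j) c⁻¹)⁻¹ *
          xGL R.xadd (D.simple j') u * hGL R.xadd (D.simple j) c⁻¹) *
          (hGL R.xadd (D.simple j) (c⁻¹ * σ z))⁻¹ := by group
    rw [e, sb_hGL_conj_x' R.xadd hHD hOK hC hlj hlj' (inv_ne_zero hc),
      sb_hGL_conj_x R.xadd hHD hOK hC hlj hlj' ha]
  rw [e4] at e3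
  have e5 := R.sb_x_inj hlj' e3
  rw [map_one, mul_one, mul_one, mul_zpow, map_zpow₀] at e5
  have hcP : c⁻¹ ^ D.pairing (D.simple j) (D.simple j') ≠ 0 := zpow_ne_zero _ (inv_ne_zero hc)
  have e6 : c⁻¹ ^ D.pairing (D.simple j) (D.simple j') *
      σ z ^ D.pairing (D.simple j) (D.simple j') *
      ((c⁻¹ ^ D.pairing (D.simple j) (D.simple j'))⁻¹ * c'⁻¹) =
      c'⁻¹ * σ z ^ D.pairing (D.simple j) (D.simple j') := by
    field_simp
  rw [e6] at e5
  exact mul_left_cancel₀ (inv_ne_zero hc') e5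

/-- Two fixed nodes with Cartan integer `-1` carry the same field map. -/
theorem BRel.sb_sigma_eq (R : BRel D F η) (hHD : HDiag D F) (hOK : chainOK D = true)
    (hC : CartanFacts D) {α : MulAut ↥(D.group F)} {i i' : ℕ} (hi : i < D.rank)
    (hi' : i' < D.rank) {c c' : F} (hc : c ≠ 0) (hc' : c' ≠ 0) {σ σ' : F →+* F}
    (h : ∀ (t : F) (x : ↥(D.group F)),
      ((x : GL D.Idx F) = xGL R.xadd (D.neg (D.simple i)) t →
        ((α x : ↥(D.group F)) : GL D.Idx F) = xGL R.xadd (D.neg (D.simple i)) (c * σ t)) ∧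
      ((x : GL D.Idx F) = xGL R.xadd (D.simple i) t →
        ((α x : ↥(D.group F)) : GL D.Idx F) = xGL R.xadd (D.simple i) (c⁻¹ * σ t)))
    (h' : ∀ (t : F) (x : ↥(D.group F)), (x : GL D.Idx F) = xGL R.xadd (D.simple i') t →
        ((α x : ↥(D.group F)) : GL D.Idx F) = xGL R.xadd (D.simple i') (c'⁻¹ * σ' t))
    (hP : D.pairing (D.simple i) (D.simple i') = -1) (t : F) : σ t = σ' t := by
  by_cases ht : t = 0
  · rw [ht, map_zero, map_zero]
  · have h1 := R.sb_norm_torus hHD hOK hC hi hi' hi hi' hc hc' h h' ht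
    rw [hP, zpow_neg_one, zpow_neg_one] at h1
    exact inv_injective h1

end

end Cfsg.Agent.Helper36
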