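import Cfsg.Agent.Helper36.SbO

/-!
# The outer automorphism group of `E₆(q)` (helper36)

`|Out(E₆(p^f))| = 2 gcd(3, p^f - 1) f`: diagonal, field and graph automorphisms.
-/

set_option autoImplicit false
set_option linter.unusedSectionVars false
set_option linter.unusedVariables false

namespace Cfsg.Agent.Helper36

open Cfsg Cfsg.Lie Cfsg.Agent.Helper17

/-! ### Tables for `E₆` -/

/-- The symmetry of the Dynkin diagram of `E₆`. -/
def sbFlE6 (i : ℕ) : ℕ := ([5, 1, 4, 3, 2, 0] : List ℕ).getD i 0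

set_option maxRecDepth 100000 in
theorem sb_tau_E6 : ∀ j < chevE6.rank, sbFlE6 j < chevE6.rank ∧ sbFlE6 (sbFlE6 j) = j ∧
    Cfsg.Agent.Helper18.fwdN chevE6 Cfsg.Agent.Helper18.longE6 (chevE6.neg (chevE6.simple j)) =
      chevE6.simple (sbFlE6 j) := by decide +kernel

theorem sbLong_E6 : SbLong chevE6 Cfsg.Agent.Helper18.longE6 :=
  sbLong_of_chk (by simp) Cfsg.Agent.Helper18.chkLong_E6 sbFlE6 sb_tau_E6

theorem sbTab_E6 : SbTab chevE6 where
  simple_inj := by decide +kernel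
  comm_pn := by decide +kernel

/-- The Dynkin diagram of `E₆`. -/
def sbAdjE6 (i j : ℕ) : Bool :=
  [(0, 2), (2, 0), (1, 3), (3, 1), (2, 3), (3, 2), (3, 4), (4, 3), (4, 5), (5, 4)].contains (i, j)

theorem sbAdjG_E6 : SbAdjG chevE6 sbAdjE6 where
  edge := by decide +kernel
  nonedge := by decide +kernel

theorem sb_e6_pairing : chevE6.pairing (chevE6.simple 0) (chevE6.simple 2) = -1 ∧
    chevE6.pairing (chevE6.simple 2) (chevE6.simple 3) = -1 ∧
    chevE6.pairing (chevE6.simple 3) (chevE6.simple 1) = -1 ∧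
    chevE6.pairing (chevE6.simple 3) (chevE6.simple 4) = -1 ∧
    chevE6.pairing (chevE6.simple 4) (chevE6.simple 5) = -1 := by decide +kernel

set_option maxRecDepth 100000 in
theorem sbCoordOK_E6 : sbCoordOK chevE6 (sbCo chevE6) = true := by decide +kernel

theorem sbCoord_E6 : SbCoord chevE6 (sbCo chevE6) := sbCoord_of_OK sbCoordOK_E6

theorem sb_adj_irrefl_E6 : ∀ i : Fin 6, sbAdjE6 i.val i.val = false := by decide

/-- The permutation of the roots of `E₆` induced by the symmetry of the diagram. -/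
def gsRhoE6 (r : ℕ) : ℕ := ([0, 1, 2, 5, 16, 3, 6, 17, 8, 19, 22, 11, 26, 30, 33, 35, 4, 7, 18, 9, 20, 23, 10, 21, 24, 25, 12, 27, 31, 34, 13, 28, 32, 14, 29, 15, 56, 42, 57, 39, 43, 58, 37, 40, 44, 59, 46, 47, 50, 61, 48, 51, 62, 53, 64, 67, 36, 38, 41, 45, 60, 49, 52, 63, 54, 65, 68, 55, 66, 69, 70, 71] : List ℕ).getD r 0

/-- The signs of the graph automorphism of `E₆`. -/
def gsEpsE6 (r : ℕ) : ℤ := ([1, 1, 1, 1, -1, 1, 1, -1, 1, -1, -1, 1, -1, 1, -1, 1, -1, -1, 1, -1, 1, 1, -1, 1, 1, 1, -1, 1, -1, 1, 1, -1, 1, -1, 1, 1, 1, 1, -1, 1, -1, 1, 1, -1, 1, -1, 1, 1, 1, -1, 1, 1, -1, 1, -1, -1, 1, -1, 1, -1, 1, -1, -1, 1, -1, 1, 1, -1, 1, 1, 1, 1] : List ℤ).getD r 0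

set_option maxRecDepth 100000 in
theorem gsOK_E6_0 : (List.range' 0 72).all (gsRootOK chevE6 gsRhoE6 gsRhoE6 gsEpsE6) = true := by
  decide +kernel

theorem gsOK_E6 : ∀ r < chevE6.nroots, gsRootOK chevE6 gsRhoE6 gsRhoE6 gsEpsE6 r = true := by
  intro r hr
  change r < 72 at hr
  exact all_range'_spec gsOK_E6_0 r (by omega) (by omega)

theorem sb_e6_ga_pos : ∀ r < 72, (chevE6.IsPosRoot r → chevE6.IsPosRoot (gsRhoE6 r)) ∧
    (chevE6.IsNegRoot r → chevE6.IsNegRoot (gsRhoE6 r)) := by decide +kernel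

theorem sb_e6_ga : ∀ j < chevE6.rank, gsRhoE6 (chevE6.simple j) = chevE6.simple (sbFlE6 j) ∧
    gsRhoE6 (chevE6.neg (chevE6.simple j)) = chevE6.neg (chevE6.simple (sbFlE6 j)) ∧
    gsEpsE6 (chevE6.simple j) = 1 ∧ gsEpsE6 (chevE6.neg (chevE6.simple j)) = 1 := by
  decide +kernel

/-- The symmetries of the Dynkin diagram of `E₆`. -/
theorem sb_e6_rigid (ρ : Fin 6 → Fin 6) (hinj : Function.Injective ρ)
    (hadj : ∀ i j : Fin 6, sbAdjE6 i.val j.val = true → sbAdjE6 (ρ i).val (ρ j).val = true) :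
    (∀ i : Fin 6, (ρ i).val = i.val) ∨ (∀ i : Fin 6, (ρ i).val = sbFlE6 i.val) := by
  have L1 : ∀ x a b c : Fin 6, sbAdjE6 x.val a.val = true → sbAdjE6 x.val b.val = true →
      sbAdjE6 x.val c.val = true → a ≠ b → a ≠ c → b ≠ c → x = 3 := by decide
  have L2 : ∀ r2 r0 : Fin 6, sbAdjE6 (3 : Fin 6).val r2.val = true →
      sbAdjE6 r2.val r0.val = true → r0 ≠ 3 → (r2 = 2 ∧ r0 = 0) ∨ (r2 = 4 ∧ r0 = 5) := by decide
  have L3 : ∀ r1 : Fin 6, sbAdjE6 (3 : Fin 6).val r1.val = true → r1 ≠ 2 → r1 ≠ 4 → r1 = 1 := by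
    decide
  have h3 : ρ 3 = 3 := L1 (ρ 3) (ρ 1) (ρ 2) (ρ 4) (hadj 3 1 (by decide)) (hadj 3 2 (by decide))
    (hadj 3 4 (by decide)) (fun h => absurd (hinj h) (by decide))
    (fun h => absurd (hinj h) (by decide)) (fun h => absurd (hinj h) (by decide))
  have ha := L2 (ρ 2) (ρ 0) (by have := hadj 3 2 (by decide); rwa [h3] at this)
    (hadj 2 0 (by decide)) (fun h => absurd (hinj (h.trans h3.symm)) (by decide))
  have hb := L2 (ρ 4) (ρ 5) (by have := hadj 3 4 (by decide); rwa [h3] at this)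
    (hadj 4 5 (by decide)) (fun h => absurd (hinj (h.trans h3.symm)) (by decide))
  have h24 : ρ 2 ≠ ρ 4 := fun h => absurd (hinj h) (by decide)
  have h1 : ∀ (h2 : ρ 2 = 2 ∨ ρ 2 = 4) (h4 : ρ 4 = 2 ∨ ρ 4 = 4), ρ 1 = 1 := by
    intro h2 h4
    apply L3 (ρ 1) (by have := hadj 3 1 (by decide); rwa [h3] at this)
    · intro h
      rcases h2 with h2 | h2
      · exact absurd (hinj (h.trans h2.symm)) (by decide)
      · rcases h4 with h4 | h4
        · exact absurd (hinj (h.trans h4.symm)) (by decide)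
        · exact h24 (h2.trans h4.symm)
    · intro h
      rcases h4 with h4 | h4
      · rcases h2 with h2 | h2
        · exact h24 (h2.trans h4.symm)
        · exact absurd (hinj (h.trans h2.symm)) (by decide)
      · exact absurd (hinj (h.trans h4.symm)) (by decide)
  rcases ha with ⟨h2, h0⟩ | ⟨h2, h0⟩
  · rcases hb with ⟨h4, h5⟩ | ⟨h4, h5⟩
    · exact absurd (h2.trans h4.symm) h24
    · left
      have e1 := h1 (Or.inl h2) (Or.inr h4)
      intro i
      fin_cases i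
      · exact congrArg Fin.val h0
      · exact congrArg Fin.val e1
      · exact congrArg Fin.val h2
      · exact congrArg Fin.val h3
      · exact congrArg Fin.val h4
      · exact congrArg Fin.val h5
  · rcases hb with ⟨h4, h5⟩ | ⟨h4, h5⟩
    · right
      have e1 := h1 (Or.inr h2) (Or.inl h4)
      intro i
      fin_cases i
      · exact congrArg Fin.val h0
      · exact congrArg Fin.val e1
      · exact congrArg Fin.val h2
      · exact congrArg Fin.val h3
      · exact congrArg Fin.val h4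
      · exact congrArg Fin.val h5
    · exact absurd (h2.trans h4.symm) h24

/-! ### The outer automorphism group -/

section

variable {F : Type*} [Field F] [Fintype F] {η : ℕ → ℕ → ℤ}

theorem sb_e6_sig (R : BRel chevE6 F η) (β : MulAut ↥(chevE6.group F)) (c : Fin 6 → F)
    (σ : Fin 6 → F →+* F) (hc : ∀ i, c i ≠ 0)
    (hβ : ∀ i : Fin 6, SbAt R β i i (c i) (σ i)) : ∀ i t, σ i t = σ 0 t := by
  have hD : chevE6 ∈ [chevG2, chevB2, chevD4, chevF4, chevE6, chevE7, chevE8] := by simp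
  have hC := cartanFacts_of_mem hD
  have hHD : HDiag chevE6 F := hDiag_of_mem hD
  have hOK := chainOK_of_mem chevE6 hD
  have h02 := R.sb_sigma_eq hHD hOK hC (i := 0) (i' := 2) (by decide) (by decide) (hc 0) (hc 2)
    (hβ 0) (fun t x hx => (hβ 2 t x).2 hx) sb_e6_pairing.1
  have h23 := R.sb_sigma_eq hHD hOK hC (i := 2) (i' := 3) (by decide) (by decide) (hc 2) (hc 3)
    (hβ 2) (fun t x hx => (hβ 3 t x).2 hx) sb_e6_pairing.2.1
  have h31 := R.sb_sigma_eq hHD hOK hC (i := 3) (i' := 1) (by decide) (by decide) (hc 3) (hc 1)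
    (hβ 3) (fun t x hx => (hβ 1 t x).2 hx) sb_e6_pairing.2.2.1
  have h34 := R.sb_sigma_eq hHD hOK hC (i := 3) (i' := 4) (by decide) (by decide) (hc 3) (hc 4)
    (hβ 3) (fun t x hx => (hβ 4 t x).2 hx) sb_e6_pairing.2.2.2.1
  have h45 := R.sb_sigma_eq hHD hOK hC (i := 4) (i' := 5) (by decide) (by decide) (hc 4) (hc 5)
    (hβ 4) (fun t x hx => (hβ 5 t x).2 hx) sb_e6_pairing.2.2.2.2
  intro i t
  have e2 : σ 2 t = σ 0 t := (h02 t).symm
  have e3 : σ 3 t = σ 0 t := (h23 t).symm.trans e2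
  have e1 : σ 1 t = σ 0 t := (h31 t).symm.trans e3
  have e4 : σ 4 t = σ 0 t := (h34 t).symm.trans e3
  have e5 : σ 5 t = σ 0 t := (h45 t).symm.trans e4
  fin_cases i
  · rfl
  · exact e1
  · exact e2
  · exact e3
  · exact e4
  · exact e5

theorem sb_e6_cases (R : BRel chevE6 F η) (β : MulAut ↥(chevE6.group F))
    (hβ : SbNorm chevE6 F β) :
    ∃ (c : Fin 6 → F) (σ : Fin 6 → F →+* F), (∀ i, c i ≠ 0) ∧
      ((∀ i : Fin 6, SbAt R β i i (c i) (σ i)) ∨
        (∀ i : Fin 6, SbAt R β i (sbFlE6 i) (c i) (σ i))) := by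
  have hD : chevE6 ∈ [chevG2, chevB2, chevD4, chevF4, chevE6, chevE7, chevE8] := by simp
  have hC := cartanFacts_of_mem hD
  have hRk : ∀ r < chevE6.nroots, RankOne chevE6 r := fun r hr => rankOne_of_mem hD hr
  have hsimple := fun i : Fin 6 =>
    R.sb_norm_simple hC hRk sbTab_E6 sbLong_E6 hβ (i := i.val) i.isLt
  choose ρ hρ c hc σ hσ using hsimple
  have hinjρ : Function.Injective (fun i : Fin 6 => (⟨ρ i, hρ i⟩ : Fin 6)) := by
    intro i i' hii
    by_contra hne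
    have hne' : i.val ≠ i'.val := fun h => hne (Fin.ext h)
    have hρeq : ρ i = ρ i' := congrArg Fin.val hii
    refine R.sb_norm_inj sbTab_E6 (α := β) i.isLt i'.isLt hne' (hc i')
      (σ := σ i) (σ' := σ i') (fun t x hx => ((hσ i t x).1 hx)) (fun t x hx => ?_)
    rw [hρeq]
    exact (hσ i' t x).1 hx
  have hadjρ : ∀ i i' : Fin 6, sbAdjE6 i.val i'.val = true →
      sbAdjE6 ((⟨ρ i, hρ i⟩ : Fin 6)).val ((⟨ρ i', hρ i'⟩ : Fin 6)).val = true := by
    intro i i' hadj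
    have hne : i ≠ i' := by
      rintro rfl
      rw [sb_adj_irrefl_E6 i] at hadj
      exact Bool.false_ne_true hadj
    exact R.sb_norm_adjG sbTab_E6 sbAdjG_E6 i.isLt i'.isLt (hρ i) (hρ i')
      (fun h => hne (hinjρ (Fin.ext h)))
      (fun t x hx => (hσ i t x).1 hx) (fun t x hx => (hσ i' t x).1 hx) hadj
  refine ⟨c, σ, hc, ?_⟩
  rcases sb_e6_rigid (fun i : Fin 6 => (⟨ρ i, hρ i⟩ : Fin 6)) hinjρ hadjρ with hid | hflip
  · left
    intro i t x
    have h := hσ i t x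
    have e : ρ i = i.val := hid i
    rw [e] at h
    exact h
  · right
    intro i t x
    have h := hσ i t x
    have e : ρ i = sbFlE6 i.val := hflip i
    rw [e] at h
    exact h

/-- `|Out(E₆(p^f))| = 2 gcd(3, p^f - 1) f`. -/
theorem sb_e6_out_card (p f : ℕ) [Fact p.Prime] [CharP F p] (hF : Fintype.card F = p ^ f) :
    Nat.card (Cfsg.Out ↥(chevE6.group F)) = 2 * Nat.gcd 3 (p ^ f - 1) * f := by
  have hD : chevE6 ∈ [chevG2, chevB2, chevD4, chevF4, chevE6, chevE7, chevE8] := by simp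
  have R := bRel_of_mem (F := F) hD
  have h := sb_out_card_flip p f hF hD R sbTab_E6 sbLong_E6 (by decide) smithData_E6 sbCoord_E6
    sbFlE6 (fun i hi => ⟨(sb_tau_E6 i hi).1, (sb_tau_E6 i hi).2.1⟩) (by decide)
    gsRhoE6 gsRhoE6 gsEpsE6 gsOK_E6
    (fun r hr => (sb_e6_ga_pos r hr.1).1 hr) (fun r hr => (sb_e6_ga_pos r hr.1).2 hr)
    sb_e6_ga
    (fun β c σ hc hβ => sb_e6_sig R β c σ hc hβ) (fun β hβ => sb_e6_cases R β hβ)
  rw [h, hF]
  have e : ((List.range chevE6.rank).map fun i => Nat.gcd (smithDDE6.getD i 0) (p ^ f - 1)).prod =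
      Nat.gcd 3 (p ^ f - 1) := by
    show ((List.range 6).map fun i => Nat.gcd (smithDDE6.getD i 0) (p ^ f - 1)).prod = _
    simp [List.range_succ, smithDDE6]
  rw [e]
  ring

end

end Cfsg.Agent.Helper36
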