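import Cfsg.Agent.Helper36.SbS

/-!
# Automorphisms of Chevalley groups, XV: the normal form for `B₂` and `D₄` (helper36)

Tables for `B₂` and `D₄` (the six symmetries of the diagram of `D₄` and their graph automorphisms with signs),
`sb_b2_types`, `sb_b2_form`, `sb_d4_types`, `sb_d4_form`.
-/

set_option autoImplicit false
set_option linter.unusedSectionVars false
set_option linter.unusedVariables false

namespace Cfsg.Agent.Helper36

open Cfsg Cfsg.Lie Cfsg.Agent.Helper17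

/-! ### Tables for `B₂` -/

theorem sb_tau_B2 : ∀ j < chevB2.rank, id j < chevB2.rank ∧ id (id j) = j ∧
    Cfsg.Agent.Helper18.fwdN chevB2 Cfsg.Agent.Helper18.longB2 (chevB2.neg (chevB2.simple j)) =
      chevB2.simple (id j) := by decide +kernel

theorem sbLong_B2 : SbLong chevB2 Cfsg.Agent.Helper18.longB2 :=
  sbLong_of_chk (by simp) Cfsg.Agent.Helper18.chkLong_B2 id sb_tau_B2

theorem sbTab_B2 : SbTab chevB2 where
  simple_inj := by decide +kernel
  comm_pn := by decide +kernel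

theorem sb_b2_pairing : chevB2.pairing (chevB2.simple 1) (chevB2.simple 0) = -1 ∧
    chevB2.pairing (chevB2.simple 0) (chevB2.simple 1) = -2 := by decide +kernel

theorem sb_b2_ga : ∀ j < chevB2.rank, gaRhoB2 (chevB2.simple j) = chevB2.simple (1 - j) ∧
    gaRhoB2 (chevB2.neg (chevB2.simple j)) = chevB2.neg (chevB2.simple (1 - j)) ∧
    gaLamB2 (chevB2.simple j) = 2 ^ ([1, 0] : List ℕ).getD j 0 ∧
    gaLamB2 (chevB2.neg (chevB2.simple j)) = 2 ^ ([1, 0] : List ℕ).getD j 0 := by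
  decide +kernel

/-- The symmetry of the diagram of `B₂`. -/
def sbPermB2 : Equiv.Perm (Fin chevB2.rank) :=
  sbPerm chevB2.rank (fun i => 1 - i) (fun i => 1 - i) (by decide)

theorem sb_b2_bonds : ∀ i < chevB2.rank, ∀ j < chevB2.rank,
    chevB2.bonds (1 - i) (1 - j) = chevB2.bonds i j := by decide +kernel

theorem sb_b2_gexp : ∀ i < chevB2.rank,
    chevB2.graphExp 2 i (1 - i) = 2 ^ ([1, 0] : List ℕ).getD i 0 := by decide +kernel

theorem sb_b2_esum : ∀ i < chevB2.rank,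
    ([1, 0] : List ℕ).getD i 0 + ([1, 0] : List ℕ).getD (1 - i) 0 = 1 := by decide

/-! ### Tables for `D₄` -/

/-- The six symmetries of the diagram of `D₄`. -/
def sbFlD4 (k i : ℕ) : ℕ :=
  (([[0, 1, 2, 3], [2, 1, 0, 3], [3, 1, 2, 0], [0, 1, 3, 2], [2, 1, 3, 0], [3, 1, 0, 2]] :
    List (List ℕ)).getD k []).getD i 0

/-- The index of the inverse symmetry. -/
def sbInvD4 (k : ℕ) : ℕ := ([0, 1, 2, 3, 5, 4] : List ℕ).getD k 0

/-- The permutations of the roots of `D₄` induced by the six symmetries. -/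
def gsRhoD4 (k r : ℕ) : ℕ :=
  (([[0, 1, 2, 3, 4, 5, 6, 7, 8, 9, 10, 11, 12, 13, 14, 15, 16, 17, 18, 19, 20, 21, 22, 23],
    [0, 1, 2, 6, 7, 10, 3, 4, 8, 9, 5, 11, 12, 18, 14, 15, 19, 20, 13, 16, 17, 21, 22, 23],
    [0, 1, 6, 3, 8, 11, 2, 7, 4, 9, 10, 5, 18, 13, 14, 19, 16, 21, 12, 15, 20, 17, 22, 23],
    [0, 1, 3, 2, 4, 5, 6, 8, 7, 9, 11, 10, 13, 12, 14, 16, 15, 17, 18, 19, 21, 20, 22, 23],
    [0, 1, 6, 2, 7, 10, 3, 8, 4, 9, 11, 5, 18, 12, 14, 19, 15, 20, 13, 16, 21, 17, 22, 23],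
    [0, 1, 3, 6, 8, 11, 2, 4, 7, 9, 5, 10, 13, 18, 14, 16, 19, 21, 12, 15, 17, 20, 22, 23]] :
    List (List ℕ)).getD k []).getD r 0

/-- The signs of the six graph automorphisms of `D₄`. -/
def gsEpsD4 (k r : ℕ) : ℤ :=
  (([[1, 1, 1, 1, 1, 1, 1, 1, 1, 1, 1, 1, 1, 1, 1, 1, 1, 1, 1, 1, 1, 1, 1, 1],
    [1, 1, 1, -1, -1, 1, -1, -1, 1, 1, 1, 1, 1, 1, 1, 1, -1, -1, 1, -1, -1, 1, 1, 1],
    [1, 1, -1, 1, -1, 1, -1, 1, -1, 1, 1, 1, 1, 1, 1, -1, 1, -1, 1, -1, 1, -1, 1, 1],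
    [1, 1, 1, 1, 1, 1, 1, 1, 1, 1, 1, 1, 1, 1, 1, 1, 1, 1, 1, 1, 1, 1, 1, 1],
    [1, 1, -1, 1, -1, 1, -1, 1, -1, 1, 1, 1, 1, 1, 1, -1, 1, -1, 1, -1, 1, -1, 1, 1],
    [1, 1, 1, -1, -1, 1, -1, -1, 1, 1, 1, 1, 1, 1, 1, 1, -1, -1, 1, -1, -1, 1, 1, 1]] :
    List (List ℤ)).getD k []).getD r 0

theorem sb_d4_perm : ∀ k < 6, ∀ i < chevD4.rank, sbFlD4 k i < chevD4.rank ∧
    sbFlD4 (sbInvD4 k) i < chevD4.rank ∧ sbFlD4 (sbInvD4 k) (sbFlD4 k i) = i ∧
    sbFlD4 k (sbFlD4 (sbInvD4 k) i) = i := by decide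

/-- The `k`-th symmetry of the diagram of `D₄`. -/
def sbPermD4 (k : ℕ) (hk : k < 6) : Equiv.Perm (Fin chevD4.rank) :=
  sbPerm chevD4.rank (sbFlD4 k) (sbFlD4 (sbInvD4 k)) (sb_d4_perm k hk)

set_option maxRecDepth 100000 in
theorem gsOK_D4 : ∀ k < 6, ∀ r < chevD4.nroots,
    gsRootOK chevD4 (gsRhoD4 k) (gsRhoD4 (sbInvD4 k)) (gsEpsD4 k) r = true := by decide +kernel

theorem sb_d4_ga : ∀ k < 6, ∀ j < chevD4.rank,
    gsRhoD4 k (chevD4.simple j) = chevD4.simple (sbFlD4 k j) ∧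
    gsRhoD4 k (chevD4.neg (chevD4.simple j)) = chevD4.neg (chevD4.simple (sbFlD4 k j)) ∧
    gsEpsD4 k (chevD4.simple j) = 1 ∧ gsEpsD4 k (chevD4.neg (chevD4.simple j)) = 1 := by
  decide +kernel

theorem sb_d4_ga_pos : ∀ k < 6, ∀ r < 24,
    (chevD4.IsPosRoot r → chevD4.IsPosRoot (gsRhoD4 k r)) ∧
    (chevD4.IsNegRoot r → chevD4.IsNegRoot (gsRhoD4 k r)) := by decide +kernel

theorem sb_d4_bonds : ∀ k < 6, ∀ i < chevD4.rank, ∀ j < chevD4.rank,
    chevD4.bonds (sbFlD4 k i) (sbFlD4 k j) = chevD4.bonds i j := by decide +kernel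

theorem sb_d4_short : ∀ j < chevD4.rank, chevD4.isLong (chevD4.simple j) = false := by
  decide +kernel

theorem sb_tau_D4 : ∀ j < chevD4.rank, id j < chevD4.rank ∧ id (id j) = j ∧
    Cfsg.Agent.Helper18.fwdN chevD4 Cfsg.Agent.Helper18.longD4 (chevD4.neg (chevD4.simple j)) =
      chevD4.simple (id j) := by decide +kernel

theorem sbLong_D4 : SbLong chevD4 Cfsg.Agent.Helper18.longD4 :=
  sbLong_of_chk (by simp) Cfsg.Agent.Helper18.chkLong_D4 id sb_tau_D4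

theorem sbTab_D4 : SbTab chevD4 where
  simple_inj := by decide +kernel
  comm_pn := by decide +kernel

/-- The Dynkin diagram of `D₄`. -/
def sbAdjD4 (i j : ℕ) : Bool :=
  (i == 1 && (j == 0 || j == 2 || j == 3)) || (j == 1 && (i == 0 || i == 2 || i == 3))

theorem sbAdjG_D4 : SbAdjG chevD4 sbAdjD4 where
  edge := by decide +kernel
  nonedge := by decide +kernel

theorem sb_d4_pairing : chevD4.pairing (chevD4.simple 0) (chevD4.simple 1) = -1 ∧
    chevD4.pairing (chevD4.simple 2) (chevD4.simple 1) = -1 ∧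
    chevD4.pairing (chevD4.simple 3) (chevD4.simple 1) = -1 := by decide +kernel

theorem sb_d4_center : ∀ x a b c : Fin 4, sbAdjD4 x.val a.val = true →
    sbAdjD4 x.val b.val = true → sbAdjD4 x.val c.val = true → a ≠ b → a ≠ c → b ≠ c → x = 1 := by
  decide

theorem sb_d4_class : ∀ a b c : Fin 4, a ≠ 1 → b ≠ 1 → c ≠ 1 → a ≠ b → a ≠ c → b ≠ c →
    ∃ k : Fin 6, a.val = sbFlD4 k.val 0 ∧ b.val = sbFlD4 k.val 2 ∧ c.val = sbFlD4 k.val 3 ∧
      sbFlD4 k.val 1 = 1 := by decide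

section

variable {F : Type*} [Field F] [Fintype F] {η : ℕ → ℕ → ℤ}

/-! ### `B₂` -/

theorem sb_b2_sig (R : BRel chevB2 F η) (β : MulAut ↥(chevB2.group F)) (c : Fin 2 → F)
    (σ : Fin 2 → F →+* F) (hc : ∀ i, c i ≠ 0)
    (hβ : ∀ i : Fin 2, SbAt R β i i (c i) (σ i)) : ∀ i t, σ i t = σ 0 t := by
  have hD : chevB2 ∈ [chevG2, chevB2, chevD4, chevF4, chevE6, chevE7, chevE8] := by simp
  have hC := cartanFacts_of_mem hD
  have hHD : HDiag chevB2 F := hDiag_of_mem hD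
  have hOK := chainOK_of_mem chevB2 hD
  have h10 := R.sb_sigma_eq hHD hOK hC (i := 1) (i' := 0) (by decide) (by decide) (hc 1) (hc 0)
    (hβ 1) (fun t x hx => (hβ 0 t x).2 hx) sb_b2_pairing.1
  intro i t
  fin_cases i
  · rfl
  · exact h10 t

theorem sb_b2_types (p : ℕ) [Fact p.Prime] [CharP F p] (R : BRel chevB2 F η)
    {β : MulAut ↥(chevB2.group F)} {π : Equiv.Perm (Fin chevB2.rank)} (h : SbData R β π) :
    π = 1 ∨ (p = 2 ∧ π = sbPermB2) := by
  have hD : chevB2 ∈ [chevG2, chevB2, chevD4, chevF4, chevE6, chevE7, chevE8] := by simp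
  have hC := cartanFacts_of_mem hD
  have hHD : HDiag chevB2 F := hDiag_of_mem hD
  have hOK := chainOK_of_mem chevB2 hD
  have key : ∀ π : Equiv.Perm (Fin chevB2.rank), π = 1 ∨ π = sbPermB2 := by decide
  rcases key π with hπ | hπ
  · left; exact hπ
  · right
    refine ⟨?_, hπ⟩
    subst hπ
    obtain ⟨hn, c, σ, hc, hσ⟩ := h
    have hc' : ∀ i : Fin 2, c i ≠ 0 := hc
    have hσ' : ∀ i : Fin 2, SbAt R β i (1 - i.val) (c i) (σ i) := hσ
    have key := R.sb_norm_torus hHD hOK hC (i := 0) (i' := 1) (j := 1) (j' := 0) (by decide)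
      (by decide) (by decide) (by decide) (hc' 0) (hc' 1) (hσ' 0)
      (fun t x hx => (hσ' 1 t x).2 hx) (z := (-1 : F)) (by simp)
    rw [sb_b2_pairing.1, sb_b2_pairing.2, map_neg, map_one, map_neg, map_one] at key
    have h2 : ((2 : ℕ) : F) = 0 := by
      have e1 : ((-1 : F)) ^ (-1 : ℤ) = -1 := by rw [zpow_neg_one, inv_neg_one]
      have e2 : ((-1 : F)) ^ (-2 : ℤ) = 1 := by
        rw [zpow_neg, show ((-1 : F)) ^ (2 : ℤ) = 1 by norm_num, inv_one]
      rw [e1, e2] at key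
      push_cast
      linear_combination -key
    have h3 := (CharP.cast_eq_zero_iff F p 2).mp h2
    exact (Nat.prime_dvd_prime_iff_eq (Fact.out : p.Prime) Nat.prime_two).mp h3

theorem sb_b2_form (p f : ℕ) [Fact p.Prime] [CharP F p] (hF : Fintype.card F = p ^ f)
    (β : MulAut ↥(chevB2.group F)) (hβ : SbNorm chevB2 F β) : SbDec chevB2 F β := by
  have hD : chevB2 ∈ [chevG2, chevB2, chevD4, chevF4, chevE6, chevE7, chevE8] := by simp
  have R := bRel_of_mem (F := F) hD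
  obtain ⟨co, hco⟩ := sbCoord_exists hD
  obtain ⟨π, hπ⟩ := sb_data_exists hD R sbTab_B2 sbLong_B2 hβ
  have hty := sb_b2_types p R hπ
  obtain ⟨-, c, σ, hc, h⟩ := hπ
  rcases hty with rfl | ⟨hp, rfl⟩
  · exact sb_dec_id p hD R hco (by decide) β c σ hc h (sb_b2_sig R β c σ hc h)
  · subst hp
    exact sb_dec_exotic 2 f hF hD R hco (by decide) sbPermB2
      (sbPerm_sym chevB2 _ _ _ sb_b2_bonds)
      (fun i => Fin.ext (by
        have hi : i.val < 2 := i.isLt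
        show 1 - (1 - i.val) = i.val
        omega))
      (fun j => ([1, 0] : List ℕ).getD j 0) (fun i => sb_b2_esum i.val i.isLt)
      (fun i => sb_b2_gexp i.val i.isLt) gaRhoB2 gaLamB2 gaOK_B2
      (fun j => sb_b2_ga j.val j.isLt)
      (fun β c σ hc hβ => sb_b2_sig R β c σ hc hβ) β c σ hc h

/-! ### `D₄` -/

theorem sb_d4_sig (R : BRel chevD4 F η) (β : MulAut ↥(chevD4.group F)) (c : Fin 4 → F)
    (σ : Fin 4 → F →+* F) (hc : ∀ i, c i ≠ 0)
    (hβ : ∀ i : Fin 4, SbAt R β i i (c i) (σ i)) : ∀ i t, σ i t = σ 0 t := by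
  have hD : chevD4 ∈ [chevG2, chevB2, chevD4, chevF4, chevE6, chevE7, chevE8] := by simp
  have hC := cartanFacts_of_mem hD
  have hHD : HDiag chevD4 F := hDiag_of_mem hD
  have hOK := chainOK_of_mem chevD4 hD
  have h01 := R.sb_sigma_eq hHD hOK hC (i := 0) (i' := 1) (by decide) (by decide) (hc 0) (hc 1)
    (hβ 0) (fun t x hx => (hβ 1 t x).2 hx) sb_d4_pairing.1
  have h21 := R.sb_sigma_eq hHD hOK hC (i := 2) (i' := 1) (by decide) (by decide) (hc 2) (hc 1)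
    (hβ 2) (fun t x hx => (hβ 1 t x).2 hx) sb_d4_pairing.2.1
  have h31 := R.sb_sigma_eq hHD hOK hC (i := 3) (i' := 1) (by decide) (by decide) (hc 3) (hc 1)
    (hβ 3) (fun t x hx => (hβ 1 t x).2 hx) sb_d4_pairing.2.2
  intro i t
  fin_cases i
  · rfl
  · exact (h01 t).symm
  · exact (h21 t).trans (h01 t).symm
  · exact (h31 t).trans (h01 t).symm

/-- A normalised automorphism of `D₄(q)` induces one of the six symmetries of the diagram. -/
theorem sb_d4_types (R : BRel chevD4 F η) {β : MulAut ↥(chevD4.group F)}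
    {π : Equiv.Perm (Fin 4)} (h : SbData R β π) : ∃ k : Fin 6, π = sbPermD4 k.val k.isLt := by
  obtain ⟨hn, c, σ, hc, hσ⟩ := h
  have hadj : ∀ i i' : Fin 4, sbAdjD4 i.val i'.val = true →
      sbAdjD4 (π i).val (π i').val = true := by
    intro i i' hadj
    have hne : i ≠ i' := by
      rintro rfl
      revert hadj
      revert i
      decide
    exact R.sb_norm_adjG sbTab_D4 sbAdjG_D4 i.isLt i'.isLt (π i).isLt (π i').isLt
      (fun h => hne (π.injective (Fin.ext h)))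
      (fun t x hx => (hσ i t x).1 hx) (fun t x hx => (hσ i' t x).1 hx) hadj
  have hinj : ∀ i i' : Fin 4, i ≠ i' → π i ≠ π i' := fun i i' hne h => hne (π.injective h)
  have h1 : π 1 = 1 := sb_d4_center (π 1) (π 0) (π 2) (π 3) (hadj 1 0 (by decide))
    (hadj 1 2 (by decide)) (hadj 1 3 (by decide)) (hinj 0 2 (by decide)) (hinj 0 3 (by decide))
    (hinj 2 3 (by decide))
  obtain ⟨k, k0, k2, k3, k1⟩ := sb_d4_class (π 0) (π 2) (π 3)
    (fun h => hinj 0 1 (by decide) (h.trans h1.symm))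
    (fun h => hinj 2 1 (by decide) (h.trans h1.symm))
    (fun h => hinj 3 1 (by decide) (h.trans h1.symm))
    (hinj 0 2 (by decide)) (hinj 0 3 (by decide)) (hinj 2 3 (by decide))
  refine ⟨k, ?_⟩
  apply Equiv.ext
  intro i
  apply Fin.ext
  show (π i).val = sbFlD4 k.val i.val
  fin_cases i
  · exact k0
  · rw [k1]; exact congrArg Fin.val h1
  · exact k2
  · exact k3

theorem sb_d4_form (p : ℕ) [Fact p.Prime] [CharP F p]
    (β : MulAut ↥(chevD4.group F)) (hβ : SbNorm chevD4 F β) : SbDec chevD4 F β := by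
  have hD : chevD4 ∈ [chevG2, chevB2, chevD4, chevF4, chevE6, chevE7, chevE8] := by simp
  have R := bRel_of_mem (F := F) hD
  obtain ⟨co, hco⟩ := sbCoord_exists hD
  obtain ⟨π, hπ⟩ := sb_data_exists hD R sbTab_D4 sbLong_D4 hβ
  obtain ⟨k, rfl⟩ := sb_d4_types R hπ
  obtain ⟨-, c, σ, hc, h⟩ := hπ
  exact sb_dec_signed p hD R hco (by decide) (sbPermD4 k.val k.isLt)
    (sbPerm_sym chevD4 _ _ _ (sb_d4_bonds k.val k.isLt))
    (fun i => sb_graphExp_short chevD4 _ (sb_d4_short _ (sbPermD4 k.val k.isLt i).isLt))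
    (gsRhoD4 k.val) (gsRhoD4 (sbInvD4 k.val)) (gsEpsD4 k.val) (gsOK_D4 k.val k.isLt)
    (fun j => sb_d4_ga k.val k.isLt j.val j.isLt)
    (fun β c σ hc hβ => sb_d4_sig R β c σ hc hβ) β c σ hc h

end

end Cfsg.Agent.Helper36
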