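import Cfsg.Agent.Helper36.StWit
import Cfsg.Prelude.Def_ChevG2
import Cfsg.Prelude.Def_ChevB2
import Cfsg.Prelude.Def_ChevD4
import Cfsg.Prelude.Def_ChevF4
import Cfsg.Prelude.Def_ChevE6
import Cfsg.Prelude.Def_ChevE7
import Cfsg.Prelude.Def_ChevE8

/-!
# The witnesses of `StWit` for the seven Chevalley data (helper36)
-/

set_option autoImplicit false
set_option maxRecDepth 100000

namespace Cfsg.Agent.Helper36

open Cfsg Cfsg.Lie

/-- The witnesses for the fundamental roots of G2. -/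
def witPG2 (i : ℕ) : ℕ × ℕ × ℕ := ([(1, 10, 2), (0, 8, 0)] : List (ℕ × ℕ × ℕ)).getD i (0, 0, 0)

/-- The witnesses for the negatives of the fundamental roots of G2. -/
def witNG2 (i : ℕ) : ℕ × ℕ × ℕ := ([(1, 1, 9), (0, 3, 11)] : List (ℕ × ℕ × ℕ)).getD i (0, 0, 0)

theorem witPG2_ok : bwAllOK chevG2 true witPG2 = true := by decide +kernel

theorem witNG2_ok : bwAllOK chevG2 false witNG2 = true := by decide +kernel

theorem rk1OK_G2 : rk1OK chevG2 = true := by decide +kernel

/-- The witnesses for the fundamental roots of B2. -/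
def witPB2 (i : ℕ) : ℕ × ℕ × ℕ := ([(1, 7, 1), (0, 6, 0)] : List (ℕ × ℕ × ℕ)).getD i (0, 0, 0)

/-- The witnesses for the negatives of the fundamental roots of B2. -/
def witNB2 (i : ℕ) : ℕ × ℕ × ℕ := ([(1, 0, 6), (0, 1, 7)] : List (ℕ × ℕ × ℕ)).getD i (0, 0, 0)

theorem witPB2_ok : bwAllOK chevB2 true witPB2 = true := by decide +kernel

theorem witNB2_ok : bwAllOK chevB2 false witNB2 = true := by decide +kernel

theorem rk1OK_B2 : rk1OK chevB2 = true := by decide +kernel

/-- The witnesses for the fundamental roots of D4. -/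
def witPD4 (i : ℕ) : ℕ × ℕ × ℕ := ([(1, 19, 9), (0, 19, 5), (1, 16, 9), (1, 15, 9)] : List (ℕ × ℕ × ℕ)).getD i (0, 0, 0)

/-- The witnesses for the negatives of the fundamental roots of D4. -/
def witND4 (i : ℕ) : ℕ × ℕ × ℕ := ([(1, 4, 14), (0, 4, 18), (1, 7, 14), (1, 8, 14)] : List (ℕ × ℕ × ℕ)).getD i (0, 0, 0)

theorem witPD4_ok : bwAllOK chevD4 true witPD4 = true := by decide +kernel

theorem witND4_ok : bwAllOK chevD4 false witND4 = true := by decide +kernel

theorem rk1OK_D4 : rk1OK chevD4 = true := by decide +kernel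

/-- The witnesses for the fundamental roots of F4. -/
def witPF4 (i : ℕ) : ℕ × ℕ × ℕ := ([(1, 34, 20), (0, 34, 14), (1, 28, 17), (2, 26, 22)] : List (ℕ × ℕ × ℕ)).getD i (0, 0, 0)

/-- The witnesses for the negatives of the fundamental roots of F4. -/
def witNF4 (i : ℕ) : ℕ × ℕ × ℕ := ([(1, 13, 27), (0, 13, 33), (1, 19, 30), (2, 21, 25)] : List (ℕ × ℕ × ℕ)).getD i (0, 0, 0)

theorem witPF4_ok : bwAllOK chevF4 true witPF4 = true := by decide +kernel

theorem witNF4_ok : bwAllOK chevF4 false witNF4 = true := by decide +kernel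

theorem rk1OK_F4 : rk1OK chevF4 = true := by decide +kernel

/-- The witnesses for the fundamental roots of E6. -/
def witPE6 (i : ℕ) : ℕ × ℕ × ℕ := ([(2, 57, 29), (3, 47, 32), (0, 57, 15), (1, 47, 25), (3, 40, 32), (4, 38, 34)] : List (ℕ × ℕ × ℕ)).getD i (0, 0, 0)

/-- The witnesses for the negatives of the fundamental roots of E6. -/
def witNE6 (i : ℕ) : ℕ × ℕ × ℕ := ([(2, 14, 42), (3, 24, 39), (0, 14, 56), (1, 24, 46), (3, 31, 39), (4, 33, 37)] : List (ℕ × ℕ × ℕ)).getD i (0, 0, 0)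

theorem witPE6_ok : bwAllOK chevE6 true witPE6 = true := by decide +kernel

theorem witNE6_ok : bwAllOK chevE6 false witNE6 = true := by decide +kernel

theorem rk1OK_E6 : rk1OK chevE6 = true := by decide +kernel

/-- The witnesses for the fundamental roots of E7. -/
def witPE7 (i : ℕ) : ℕ × ℕ × ℕ := ([(2, 94, 52), (3, 79, 56), (0, 94, 32), (1, 79, 47), (3, 70, 56), (4, 67, 59), (5, 65, 61)] : List (ℕ × ℕ × ℕ)).getD i (0, 0, 0)

/-- The witnesses for the negatives of the fundamental roots of E7. -/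
def witNE7 (i : ℕ) : ℕ × ℕ × ℕ := ([(2, 31, 73), (3, 46, 69), (0, 31, 93), (1, 46, 78), (3, 55, 69), (4, 58, 66), (5, 60, 64)] : List (ℕ × ℕ × ℕ)).getD i (0, 0, 0)

theorem witPE7_ok : bwAllOK chevE7 true witPE7 = true := by decide +kernel

theorem witNE7_ok : bwAllOK chevE7 false witNE7 = true := by decide +kernel

theorem rk1OK_E7 : rk1OK chevE7 = true := by decide +kernel

/-- The witnesses for the fundamental roots of E8. -/
def witPE8 (i : ℕ) : ℕ × ℕ × ℕ := ([(2, 163, 104), (3, 142, 109), (0, 163, 77), (1, 142, 98), (3, 131, 109), (4, 127, 113), (5, 124, 116), (6, 122, 118)] : List (ℕ × ℕ × ℕ)).getD i (0, 0, 0)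

/-- The witnesses for the negatives of the fundamental roots of E8. -/
def witNE8 (i : ℕ) : ℕ × ℕ × ℕ := ([(2, 76, 135), (3, 97, 130), (0, 76, 162), (1, 97, 141), (3, 108, 130), (4, 112, 126), (5, 115, 123), (6, 117, 121)] : List (ℕ × ℕ × ℕ)).getD i (0, 0, 0)

theorem witPE8_ok : bwAllOK chevE8 true witPE8 = true := by decide +kernel

theorem witNE8_ok : bwAllOK chevE8 false witNE8 = true := by decide +kernel

theorem rk1OK_E8 : rk1OK chevE8 = true := by decide +kernel

/-- Witnesses exist for the seven data. -/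
theorem exists_wit {D : ChevalleyDatum}
    (hD : D ∈ [chevG2, chevB2, chevD4, chevF4, chevE6, chevE7, chevE8]) :
    ∃ wp wn : ℕ → ℕ × ℕ × ℕ, bwAllOK D true wp = true ∧ bwAllOK D false wn = true := by
  simp only [List.mem_cons, List.not_mem_nil, or_false] at hD
  rcases hD with rfl | rfl | rfl | rfl | rfl | rfl | rfl
  · exact ⟨_, _, witPG2_ok, witNG2_ok⟩
  · exact ⟨_, _, witPB2_ok, witNB2_ok⟩
  · exact ⟨_, _, witPD4_ok, witND4_ok⟩
  · exact ⟨_, _, witPF4_ok, witNF4_ok⟩
  · exact ⟨_, _, witPE6_ok, witNE6_ok⟩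
  · exact ⟨_, _, witPE7_ok, witNE7_ok⟩
  · exact ⟨_, _, witPE8_ok, witNE8_ok⟩

theorem rk1OK_of_mem {D : ChevalleyDatum}
    (hD : D ∈ [chevG2, chevB2, chevD4, chevF4, chevE6, chevE7, chevE8]) : rk1OK D = true := by
  simp only [List.mem_cons, List.not_mem_nil, or_false] at hD
  rcases hD with rfl | rfl | rfl | rfl | rfl | rfl | rfl
  · exact rk1OK_G2
  · exact rk1OK_B2
  · exact rk1OK_D4
  · exact rk1OK_F4
  · exact rk1OK_E6
  · exact rk1OK_E7
  · exact rk1OK_E8

end Cfsg.Agent.Helper36
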