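import Cfsg.Prelude.Def_ClassicalGeometry

set_option autoImplicit false

namespace Cfsg.Agent.Helper36

open Matrix

variable {F : Type*} [Field F] {m : ℕ}

theorem J_mulVec (v : Fin m ⊕ Fin m → F) :
    Matrix.J (Fin m) F *ᵥ v = Sum.elim (fun i => - v (Sum.inr i)) (fun i => v (Sum.inl i)) := by
  unfold Matrix.J
  rw [Matrix.fromBlocks_mulVec]
  funext x
  rcases x with i | i <;> simp [Matrix.neg_mulVec]

theorem sympForm_expand (u v : Fin m ⊕ Fin m → F) :
    Cfsg.sympForm m F u v = ∑ i, (u (Sum.inr i) * v (Sum.inl i) - u (Sum.inl i) * v (Sum.inr i)) := by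
  unfold Cfsg.sympForm
  rw [J_mulVec, dotProduct, Fintype.sum_sum_type]
  simp only [Sum.elim_inl, Sum.elim_inr, mul_neg, Finset.sum_neg_distrib, Finset.sum_sub_distrib]
  ring

theorem sympForm_self (v : Fin m ⊕ Fin m → F) : Cfsg.sympForm m F v v = 0 := by
  rw [sympForm_expand]
  apply Finset.sum_eq_zero
  intro i _
  ring

theorem sympForm_add_left (u u' v : Fin m ⊕ Fin m → F) :
    Cfsg.sympForm m F (u + u') v = Cfsg.sympForm m F u v + Cfsg.sympForm m F u' v := by
  unfold Cfsg.sympForm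
  rw [add_dotProduct]

theorem sympForm_add_right (u v v' : Fin m ⊕ Fin m → F) :
    Cfsg.sympForm m F u (v + v') = Cfsg.sympForm m F u v + Cfsg.sympForm m F u v' := by
  unfold Cfsg.sympForm
  rw [Matrix.mulVec_add, dotProduct_add]

theorem sympForm_smul_left (c : F) (u v : Fin m ⊕ Fin m → F) :
    Cfsg.sympForm m F (c • u) v = c * Cfsg.sympForm m F u v := by
  unfold Cfsg.sympForm
  rw [smul_dotProduct, smul_eq_mul]

theorem sympForm_smul_right (c : F) (u v : Fin m ⊕ Fin m → F) :
    Cfsg.sympForm m F u (c • v) = c * Cfsg.sympForm m F u v := by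
  unfold Cfsg.sympForm
  rw [Matrix.mulVec_smul, dotProduct_smul, smul_eq_mul]

theorem sympForm_sub_right (u v v' : Fin m ⊕ Fin m → F) :
    Cfsg.sympForm m F u (v - v') = Cfsg.sympForm m F u v - Cfsg.sympForm m F u v' := by
  unfold Cfsg.sympForm
  rw [Matrix.mulVec_sub, dotProduct_sub]

theorem sympForm_skew (u v : Fin m ⊕ Fin m → F) :
    Cfsg.sympForm m F u v = - Cfsg.sympForm m F v u := by
  rw [sympForm_expand, sympForm_expand, ← Finset.sum_neg_distrib]
  apply Finset.sum_congr rfl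
  intro i _
  ring

/-- Symplectic matrices preserve the symplectic form. -/
theorem sympForm_mulVec {A : Matrix (Fin m ⊕ Fin m) (Fin m ⊕ Fin m) F}
    (hA : A ∈ Matrix.symplecticGroup (Fin m) F) (u v : Fin m ⊕ Fin m → F) :
    Cfsg.sympForm m F (A *ᵥ u) (A *ᵥ v) = Cfsg.sympForm m F u v := by
  have h := (SymplecticGroup.mem_iff').1 hA
  unfold Cfsg.sympForm
  rw [← Matrix.vecMul_transpose, ← Matrix.dotProduct_mulVec, Matrix.mulVec_mulVec,
    Matrix.mulVec_mulVec, h]

/-- The symplectic form is nondegenerate. -/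
theorem sympForm_nondeg (v : Fin m ⊕ Fin m → F) (h : ∀ u, Cfsg.sympForm m F u v = 0) : v = 0 := by
  have h1 : Matrix.J (Fin m) F *ᵥ v = 0 := by
    funext i
    have := h (Pi.single i 1)
    unfold Cfsg.sympForm at this
    rwa [single_one_dotProduct] at this
  have h2 := congrArg (fun w => Matrix.J (Fin m) F *ᵥ w) h1
  simp only [Matrix.mulVec_mulVec, Matrix.J_squared, Matrix.mulVec_zero, Matrix.neg_mulVec,
    Matrix.one_mulVec] at h2
  exact neg_eq_zero.1 h2

theorem sympForm_nondeg_left (u : Fin m ⊕ Fin m → F) (h : ∀ v, Cfsg.sympForm m F u v = 0) : u = 0 := by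
  apply sympForm_nondeg
  intro w
  rw [sympForm_skew, h, neg_zero]

end Cfsg.Agent.Helper36
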