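import Cfsg.Agent.Helper36.Tz4
import Mathlib.GroupTheory.SpecificGroups.Dihedral

/-!
# The twisted Weyl group of `F₄`: the sixteen root permutations commuting with `ρ` (helper36)
-/

set_option autoImplicit false
set_option maxRecDepth 100000

namespace Cfsg.Agent.Helper36

open Cfsg Cfsg.Lie

def tfRTab : List (List ℕ) :=
  [[0, 1, 2, 3, 4, 5, 6, 7, 8, 9, 10, 11, 12, 13, 14, 15, 16, 17, 18, 19, 20, 21, 22, 23, 24, 25, 26, 27, 28, 29, 30, 31, 32, 33, 34, 35, 36, 37, 38, 39, 40, 41, 42, 43, 44, 45, 46, 47],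
   [1, 17, 15, 7, 2, 0, 16, 19, 10, 8, 33, 3, 20, 18, 9, 24, 22, 42, 12, 36, 34, 6, 26, 4, 43, 21, 41, 13, 11, 35, 5, 25, 23, 38, 29, 27, 44, 14, 39, 37, 28, 31, 47, 45, 40, 32, 30, 46],
   [17, 42, 24, 19, 15, 1, 22, 36, 33, 10, 38, 7, 34, 12, 8, 43, 26, 47, 20, 44, 29, 16, 41, 2, 45, 6, 31, 18, 3, 27, 0, 21, 4, 39, 35, 13, 40, 9, 37, 14, 11, 25, 46, 32, 28, 23, 5, 30],
   [42, 47, 43, 36, 24, 17, 26, 44, 38, 33, 39, 19, 29, 20, 10, 45, 41, 46, 34, 40, 35, 22, 31, 15, 32, 16, 25, 12, 7, 13, 1, 6, 2, 37, 27, 18, 28, 8, 14, 9, 3, 21, 30, 23, 11, 4, 0, 5],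
   [47, 46, 45, 44, 43, 42, 41, 40, 39, 38, 37, 36, 35, 34, 33, 32, 31, 30, 29, 28, 27, 26, 25, 24, 23, 22, 21, 20, 19, 18, 17, 16, 15, 14, 13, 12, 11, 10, 9, 8, 7, 6, 5, 4, 3, 2, 1, 0],
   [46, 30, 32, 40, 45, 47, 31, 28, 37, 39, 14, 44, 27, 29, 38, 23, 25, 5, 35, 11, 13, 41, 21, 43, 4, 26, 6, 34, 36, 12, 42, 22, 24, 9, 18, 20, 3, 33, 8, 10, 19, 16, 0, 2, 7, 15, 17, 1],
   [30, 5, 23, 28, 32, 46, 25, 11, 14, 37, 9, 40, 13, 35, 39, 4, 21, 0, 27, 3, 18, 31, 6, 45, 2, 41, 16, 29, 44, 20, 47, 26, 43, 8, 12, 34, 7, 38, 10, 33, 36, 22, 1, 15, 19, 24, 42, 17],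
   [5, 0, 4, 11, 23, 30, 21, 3, 9, 14, 8, 28, 18, 27, 37, 2, 6, 1, 13, 7, 12, 25, 16, 32, 15, 31, 22, 35, 40, 34, 46, 41, 45, 10, 20, 29, 19, 39, 33, 38, 44, 26, 17, 24, 36, 43, 47, 42]]

def tfSTab : List (List ℕ) :=
  [[1, 0, 2, 7, 15, 17, 16, 3, 8, 10, 9, 19, 18, 20, 33, 4, 6, 5, 12, 11, 13, 22, 21, 24, 23, 26, 25, 34, 36, 35, 42, 41, 43, 14, 27, 29, 28, 38, 37, 39, 44, 31, 30, 32, 40, 45, 47, 46],
   [0, 5, 4, 3, 2, 1, 6, 11, 9, 8, 14, 7, 13, 12, 10, 23, 21, 30, 18, 28, 27, 16, 25, 15, 32, 22, 31, 20, 19, 29, 17, 26, 24, 37, 35, 34, 40, 33, 39, 38, 36, 41, 46, 45, 44, 43, 42, 47],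
   [5, 30, 23, 11, 4, 0, 21, 28, 14, 9, 37, 3, 27, 18, 8, 32, 25, 46, 13, 40, 35, 6, 31, 2, 45, 16, 41, 12, 7, 34, 1, 22, 15, 39, 29, 20, 44, 10, 38, 33, 19, 26, 47, 43, 36, 24, 17, 42],
   [30, 46, 32, 28, 23, 5, 25, 40, 37, 14, 39, 11, 35, 13, 9, 45, 31, 47, 27, 44, 29, 21, 41, 4, 43, 6, 26, 18, 3, 20, 0, 16, 2, 38, 34, 12, 36, 8, 33, 10, 7, 22, 42, 24, 19, 15, 1, 17],
   [46, 47, 45, 40, 32, 30, 31, 44, 39, 37, 38, 28, 29, 27, 14, 43, 41, 42, 35, 36, 34, 25, 26, 23, 24, 21, 22, 13, 11, 12, 5, 6, 4, 33, 20, 18, 19, 9, 10, 8, 3, 16, 17, 15, 7, 2, 0, 1],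
   [47, 42, 43, 44, 45, 46, 41, 36, 38, 39, 33, 40, 34, 35, 37, 24, 26, 17, 29, 19, 20, 31, 22, 32, 15, 25, 16, 27, 28, 18, 30, 21, 23, 10, 12, 13, 7, 14, 8, 9, 11, 6, 1, 2, 3, 4, 5, 0],
   [42, 17, 24, 36, 43, 47, 26, 19, 33, 38, 10, 44, 20, 29, 39, 15, 22, 1, 34, 7, 12, 41, 16, 45, 2, 31, 6, 35, 40, 13, 46, 25, 32, 8, 18, 27, 3, 37, 9, 14, 28, 21, 0, 4, 11, 23, 30, 5],
   [17, 1, 15, 19, 24, 42, 22, 7, 10, 33, 8, 36, 12, 34, 38, 2, 16, 0, 20, 3, 18, 26, 6, 43, 4, 41, 21, 29, 44, 27, 47, 31, 45, 9, 13, 35, 11, 39, 14, 37, 40, 25, 5, 23, 28, 32, 46, 30]]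

def tfRB : List (List Bool) :=
  [[],
   [true, false],
   [true, false, true, false],
   [true, false, true, false, true, false],
   [true, false, true, false, true, false, true, false],
   [false, true, false, true, false, true],
   [false, true, false, true],
   [false, true]]

def tfSB : List (List Bool) :=
  [[true],
   [false],
   [false, true, false],
   [false, true, false, true, false],
   [false, true, false, true, false, true, false],
   [true, false, true, false, true, false, true],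
   [true, false, true, false, true],
   [true, false, true]]

/-- The root permutation attached to an element of the dihedral group of order 16. -/
def tfPerm : DihedralGroup 8 → ℕ → ℕ
  | .r i, s => (tfRTab.getD i.val []).getD s 0
  | .sr i, s => (tfSTab.getD i.val []).getD s 0

/-- The two twisted fundamental words. -/
def tfJ (b : Bool) : List ℕ := if b then [0, 3] else [1, 2, 1, 2]

/-- The word of a list of blocks. -/
def tfW : List Bool → List ℕ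
  | [] => []
  | b :: bs => tfJ b ++ tfW bs

/-- The block word attached to an element of the dihedral group. -/
def tfBlk : DihedralGroup 8 → List Bool
  | .r i => tfRB.getD i.val []
  | .sr i => tfSB.getD i.val []

/-- The word in the fundamental reflections attached to an element of the dihedral group. -/
def tfWord (d : DihedralGroup 8) : List ℕ := tfW (tfBlk d)

theorem tfPerm_mul : ∀ d d' : DihedralGroup 8, ∀ s < 48,
    tfPerm (d * d') s = tfPerm d (tfPerm d' s) := by decide +kernel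

theorem tfPerm_inj : ∀ d d' : DihedralGroup 8, tfPerm d 33 = tfPerm d' 33 →
    tfPerm d 27 = tfPerm d' 27 → d = d' := by decide +kernel

theorem tfPerm_word : ∀ d : DihedralGroup 8, ∀ s < 48,
    wW chevF4 (tfWord d) s = tfPerm d s := by decide +kernel

theorem tfWord_valid : ∀ d : DihedralGroup 8, ValidW chevF4 (tfWord d) := by
  unfold ValidW
  decide +kernel

theorem tfPerm_rho : ∀ d : DihedralGroup 8, ∀ s < 48,
    tfPerm d (gaRhoF4 s) = gaRhoF4 (tfPerm d s) := by decide +kernel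

theorem tfPerm_lt : ∀ d : DihedralGroup 8, ∀ s < 48, tfPerm d s < 48 := by decide +kernel

theorem f4_pairP_inv : ∀ i < chevF4.rank, ∀ s < chevF4.nroots, ∀ r < chevF4.nroots,
    pairP chevF4 (chevF4.reflectRoot i s) (chevF4.reflectRoot i r) = pairP chevF4 s r := by
  decide +kernel

theorem tf_pair_cases : ∀ a < 48, ∀ b < 48, (pairP chevF4 a b = -1 ∧
    pairP chevF4 b (gaRhoF4 b) = -1 ∧ pairP chevF4 a (gaRhoF4 a) = 0 ∧
    pairP chevF4 a (gaRhoF4 b) = 0) → ∃ d : DihedralGroup 8, tfPerm d 33 = a ∧ tfPerm d 27 = b := by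
  decide +kernel

end Cfsg.Agent.Helper36
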